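import Cfsg.Agent.Lib.Spor.CoOneGolay.Pin

/-!
# The complementary four-space, an element permuting it, and two transvections

The lift of the cyclic permutation is corrected to normalize the lift of the complementary four-space. Two conjugates
of elements of the second part then act as transvections, and commutations follow from the conjugates of the first part.
-/

set_option autoImplicit false
set_option synthInstance.maxSize 4096
set_option maxRecDepth 100000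

namespace CfsgLib.Spor.CoOneGolay

open Subgroup CfsgLib.Spor.CoOneClasses
open CfsgLib.Spor.CoOneType (Vec qf Iso8 Om Setup mem_cz conj_eq_iff_comm act act_one act_mul act_add act_injective
  qf_act pol_act iso_ext two_cases qf_nd)

noncomputable section

/-- The vectors of the conjugate of the first part. -/
def Wx (x : Vec) : Prop := yc x = 0 ∧ pl6 (pr x) e0 = 0 ∧ pl6 (pr x) g1 = 0 ∧ pl6 (pr x) g2 = 0

/-- The first image under the permutation. -/
def Wy (x : Vec) : Prop := ∃ w, Wx w ∧ piFun w = x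

/-- The second image under the permutation. -/
def Wz (x : Vec) : Prop := ∃ w, Wx w ∧ piFun (piFun w) = x

theorem swap_word : q6 (dec6 20) = 0 ∧ pl6 (dec6 20) (dec6 34) = 0 ∧
    ∀ x : Vec, W0v x → Wx (vmk (xc x) (yc x) (sig (dec6 20) (dec6 34) (pr x))) := by
  unfold W0v Wx; decide +kernel

theorem Wx_perp : ∀ x : Vec, Wx x →
    pl6 (pr x) (dG 4) = 0 ∧ pl6 (pr x) (dG 1) = 0 ∧
      yc (piFun (piFun x)) = 0 ∧ pl6 (pr (piFun (piFun x))) (dG 2) = 0 := by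
  unfold Wx; decide +kernel

theorem Wz_perp : ∀ w : Vec, Wx w → yc (piFun (piFun w)) = 0 ∧
    pl6 (pr (piFun (piFun w))) (dG 2) = 0 ∧ pl6 (pr (piFun (piFun w))) (dG 1) = 0 ∧
    yc (piFun (piFun (piFun w))) = 0 ∧ pl6 (pr (piFun (piFun (piFun w)))) (dG 1) = 0 := by
  unfold Wx; decide +kernel

/-- The image of the first transvection. -/
def t2f (x : Vec) : Vec := piFun (sieg (dG 2) (piFun (piFun x)))

/-- The image of the second transvection. -/
def t3f (x : Vec) : Vec := piFun (piFun (sieg (dG 1) (piFun x)))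

theorem t_forms : (∀ x : Vec, t2f x = vmk (xc x) (yc x) (sig e0 g1 (pr x))) ∧
    (∀ x : Vec, t3f x = vmk (xc x) (yc x) (sig e1 g2 (pr x))) := by
  unfold t2f t3f; decide +kernel

theorem Wy_facts : ∀ w : Vec, Wx w → yc (piFun (piFun (piFun w))) = 0 ∧ yc (piFun (piFun w)) = 0 ∧
    pl6 (pr (piFun (piFun w))) (dG 1) = 0 ∧ ∃ w', Wx w' ∧ piFun w' = t2f (piFun w) := by
  intro w hw
  refine ⟨by rw [(piFun_facts w).2.1]; exact hw.1, ?_⟩
  obtain ⟨h1, h2, h3⟩ := (by unfold Wx t2f; decide +kernel : ∀ w : Vec, Wx w → yc (piFun (piFun w)) = 0 ∧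
    pl6 (pr (piFun (piFun w))) (dG 1) = 0 ∧ Wx (piFun (piFun (t2f (piFun w))))) w hw
  exact ⟨h1, h2, _, h3, (piFun_facts _).2.1⟩

theorem pi_G0 : piFun (inW (dG 4)) = f0 ∧ piFun f0 = inW (dG 2) ∧ piFun (inW (dG 2)) = inW (dG 4) ∧
    piFun (inW (dG 1)) = inW (dG 1) ∧
    ∀ l0 l1 l2 l4 : ZMod 2, ∃ a < 8, pl (l0 • w0 + inW (dA a)) f0 = l0 ∧
      pl (l0 • w0 + inW (dA a)) (inW (dG 1)) = l1 ∧ pl (l0 • w0 + inW (dA a)) (inW (dG 2)) = l2 ∧
      pl (l0 • w0 + inW (dA a)) (inW (dG 4)) = l4 := by decide +kernel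

variable {G : Type*} [Group G] [Finite G] {z : G} {Q : Subgroup G} {v : G → Vec} {ρ : G → Iso8} {g y d h s : G}
  {qe qg re rg xe : ℕ → G}

namespace Co

variable (C : Co z Q v ρ g y d h s qe qg re rg xe)

/-- The lift of the complementary four-space. -/
def inE (_C : Co z Q v ρ g y d h s qe qg re rg xe) (x : G) : Prop :=
  ∃ e : ZMod 2, ∃ a < 8, x = s ^ e.val * qg a

include C

theorem xc_qg : ∀ n < 8, xc (v (qg n)) = 0 := by
  have hm := fun n hn => (C.gens.qg_trip.mem n hn).1.1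
  refine inv_zero (M := mG) (by simp) (fun m hm' n hn => ?_) fun n hn => ?_
  · rw [C.gens.qg_trip.xor m hm' n hn, C.P.setup.v_mul _ (hm m hm') _ (hm n hn), xc_add]
  · rw [← C.gens.qg_trip.d_q n hn, C.gens.sev.xc_d (hm n hn)]

theorem v_qg {n : ℕ} (hn : n < 8) : v (qg n) = inW (dG n) := by
  rw [C.gens.pt''.v_of_R (C.gens.qg_trip.mem n hn).1, C.xc_qg n hn, C.gens.qg_pr n hn]; rfl

theorem s_sq : s * s = 1 := (C.P.setup.v_sq s C.gens.sev.s_mem).1 (by rw [C.gens.sev.s_v]; exact qf_f0)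

theorem qg_sq {n : ℕ} (hn : n < 8) : qg n * qg n = 1 := (isoR_props _ tot_G).1 _ (C.gens.qg_trip.mem n hn)

theorem s_qg {n : ℕ} (hn : n < 8) : s * qg n = qg n * s := by
  refine (C.P.setup.v_comm s C.gens.sev.s_mem _ (C.gens.qg_trip.mem n hn).1.1).1 ?_
  rw [show QuadraticMap.polar qf (v s) (v (qg n)) = pl (v s) (v (qg n)) from rfl, C.gens.sev.s_v, pl_comm, pl_f0,
    C.xc_qg n hn]

theorem s_pow (e : ZMod 2) : ∀ e' : ZMod 2, s ^ e.val * s ^ e'.val = s ^ (e + e').val := fun e' => by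
  rcases two_cases e with rfl | rfl <;> rcases two_cases e' with rfl | rfl <;>
    simp [ZMod.val_one, CharTwo.add_self_eq_zero, C.s_sq]

theorem v_inE (e : ZMod 2) {a : ℕ} (ha : a < 8) :
    s ^ e.val * qg a ∈ Q ∧ v (s ^ e.val * qg a) = vmk 0 e (dG a) := by
  have hq := (C.gens.qg_trip.mem a ha).1.1
  refine ⟨mul_mem (pow_mem C.gens.sev.s_mem _) hq, ?_⟩
  rcases two_cases e with rfl | rfl
  · rw [ZMod.val_zero, pow_zero, one_mul, C.v_qg ha]; rfl
  · rw [ZMod.val_one, pow_one, C.P.setup.v_mul _ C.gens.sev.s_mem _ hq, C.gens.sev.s_v, C.v_qg ha]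
    simp [f0, inW, vmk_add]

theorem inE_mul {x w : G} (hx : C.inE x) (hw : C.inE w) : C.inE (x * w) := by
  obtain ⟨e, a, ha, rfl⟩ := hx
  obtain ⟨e', a', ha', rfl⟩ := hw
  refine ⟨e + e', a ^^^ a', (xor_tables.1 a ha a' ha').2.2.2.2, ?_⟩
  rw [C.gens.qg_trip.xor a ha a' ha', ← C.s_pow]
  have hc : Commute (qg a) (s ^ e'.val) := (show Commute (qg a) s from (C.s_qg ha).symm).pow_right _
  calc s ^ e.val * qg a * (s ^ e'.val * qg a') = s ^ e.val * (qg a * s ^ e'.val) * qg a' := by group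
    _ = s ^ e.val * (s ^ e'.val * qg a) * qg a' := by rw [hc.eq]
    _ = _ := by group

theorem inE_s : C.inE s := ⟨1, 0, by norm_num, by rw [C.gens.qg_trip.one, ZMod.val_one, pow_one, mul_one]⟩

theorem inE_qg {a : ℕ} (ha : a < 8) : C.inE (qg a) := ⟨0, a, ha, by rw [ZMod.val_zero, pow_zero, one_mul]⟩

theorem inE_one : C.inE 1 := by
  have h := C.inE_qg (a := 0) (by norm_num)
  rwa [C.gens.qg_trip.one] at h

/-- The centre does not meet the four-space. -/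
theorem z_pow_inE {j : ZMod 2} {x : G} (hx : C.inE x) (h : C.inE (z ^ j.val * x)) : j = 0 := by
  rcases two_cases j with rfl | rfl
  · rfl
  exfalso
  rw [ZMod.val_one, pow_one] at h
  have hxx : x * x = 1 := by
    obtain ⟨e, a, ha, rfl⟩ := hx
    have hc : Commute (qg a) (s ^ e.val) := (show Commute (qg a) s from (C.s_qg ha).symm).pow_right _
    calc s ^ e.val * qg a * (s ^ e.val * qg a) = s ^ e.val * (qg a * s ^ e.val) * qg a := by group
      _ = s ^ e.val * s ^ e.val * (qg a * qg a) := by rw [hc.eq]; group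
      _ = 1 := by rw [C.s_pow, CharTwo.add_self_eq_zero, C.qg_sq ha, ZMod.val_zero, pow_zero, one_mul]
  obtain ⟨e, a, ha, ez⟩ := C.inE_mul h hx
  rw [mul_assoc, hxx, mul_one] at ez
  have hv := congrArg v ez
  rw [C.P.setup.v_z, (C.v_inE e ha).2] at hv
  obtain ⟨rfl, rfl⟩ := (by decide +kernel : ∀ e : ZMod 2, ∀ a < 8, (0 : Vec) = vmk 0 e (dG a) → e = 0 ∧ a = 0)
    e a ha hv
  rw [C.gens.qg_trip.one, ZMod.val_zero, pow_zero, mul_one] at ez
  exact C.P.setup.z_ne ez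

theorem inE_conj {k : G} (hs : C.inE (k * s * k⁻¹)) (hq : ∀ m ∈ [1, 2, 4], C.inE (k * qg m * k⁻¹)) {x : G}
    (hx : C.inE x) : C.inE (k * x * k⁻¹) := by
  obtain ⟨e, a, ha, rfl⟩ := hx
  rw [show k * (s ^ e.val * qg a) * k⁻¹ = (k * s ^ e.val * k⁻¹) * (k * qg a * k⁻¹) by group]
  refine C.inE_mul ?_ ?_
  · rcases two_cases e with rfl | rfl
    · rw [ZMod.val_zero, pow_zero, mul_one, mul_inv_cancel]; exact C.inE_one
    · rw [ZMod.val_one, pow_one]; exact hs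
  · have hstep : ∀ m < 8, ∀ n < 8, C.inE (k * qg m * k⁻¹) → C.inE (k * qg n * k⁻¹) →
        C.inE (k * qg (m ^^^ n) * k⁻¹) := fun m hm n hn h1 h2 => by
      rw [C.gens.qg_trip.xor m hm n hn, show k * (qg m * qg n) * k⁻¹ = (k * qg m * k⁻¹) * (k * qg n * k⁻¹) by group]
      exact C.inE_mul h1 h2
    have h1 := hq 1 (by simp)
    have h2 := hq 2 (by simp)
    have h4 := hq 4 (by simp)
    interval_cases a
    · exact hstep 1 (by norm_num) 1 (by norm_num) h1 h1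
    · exact h1
    · exact h2
    · exact hstep 1 (by norm_num) 2 (by norm_num) h1 h2
    · exact h4
    · exact hstep 1 (by norm_num) 4 (by norm_num) h1 h4
    · exact hstep 2 (by norm_num) 4 (by norm_num) h2 h4
    · exact hstep 3 (by norm_num) 4 (by norm_num) (hstep 1 (by norm_num) 2 (by norm_num) h1 h2) h4

theorem conj_comm {k a b : G} (ha : ∀ u ∈ isoR C.gens.pt'' dA, Commute a (k * u * k⁻¹))
    (hb : ∀ u ∈ isoR C.gens.pt'' dA, Commute b (k * u * k⁻¹)) : Commute a b := by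
  have hm : ∀ c : G, (∀ u ∈ isoR C.gens.pt'' dA, Commute c (k * u * k⁻¹)) → k⁻¹ * c * k ∈ bigA C.gens.pt'' :=
    fun c hc => mem_centralizer_iff.2 fun u hu => by
      calc u * (k⁻¹ * c * k) = k⁻¹ * ((k * u * k⁻¹) * c) * k := by group
        _ = k⁻¹ * (c * (k * u * k⁻¹)) * k := by rw [(hc u hu).eq]
        _ = _ := by group
  have e := C.A_cm (hm a ha) (hm b hb)
  calc a * b = k * (k⁻¹ * a * k * (k⁻¹ * b * k)) * k⁻¹ := by group
    _ = k * (k⁻¹ * b * k * (k⁻¹ * a * k)) * k⁻¹ := by rw [e]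
    _ = b * a := by group

theorem r_comm {r q : G} (hr : r ∈ C.gens.pt''.R') (hq : q ∈ Q) (h0 : yc (v q) = 0)
    (h1 : pl6 (pr (v q)) (C.gens.pt''.phi r) = 0) : Commute r q := by
  show r * q = q * r
  rw [C.gens.pt''.swap_rule (C.gens.pt''.mem_R.2 ⟨hq, h0⟩) hr, h1, C.gens.pt''.zi_zero, one_mul]

theorem conj_r_comm {T r q : G} (hT : T ∈ centralizer ({z} : Set G)) (hr : r ∈ C.gens.pt''.R') (hq : q ∈ Q)
    (h0 : yc (act (ρ T⁻¹) (v q)) = 0) (h1 : pl6 (pr (act (ρ T⁻¹) (v q))) (C.gens.pt''.phi r) = 0) :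
    Commute (T * r * T⁻¹) q := by
  have hv : v (T⁻¹ * q * T⁻¹⁻¹) = act (ρ T⁻¹) (v q) := C.P.setup.ρ_act _ (inv_mem hT) q hq
  have h := C.r_comm hr (C.P.setup.norm (inv_mem hT) hq) (by rw [hv]; exact h0) (by rw [hv]; exact h1)
  rw [inv_inv] at h
  show T * r * T⁻¹ * q = q * (T * r * T⁻¹)
  calc T * r * T⁻¹ * q = T * (r * (T⁻¹ * q * T)) * T⁻¹ := by group
    _ = T * ((T⁻¹ * q * T) * r) * T⁻¹ := by rw [h.eq]
    _ = _ := by group

/-- The lift of the permutation normalizing the complementary four-space, with the two transvections. -/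
theorem exists_perm3 : ∃ P ∈ centralizer ({z} : Set G), (∀ x, act (ρ P) x = piFun x) ∧
    P * s * P⁻¹ = qg 2 ∧ P * qg 2 * P⁻¹ = qg 4 ∧ P * qg 4 * P⁻¹ = s ∧ P * qg 1 * P⁻¹ = qg 1 := by
  obtain ⟨P, hP, hPe⟩ := C.P.exists_P
  have S := C.P.setup
  have hm := fun n (hn : n < 8) => (C.gens.qg_trip.mem n hn).1.1
  have hz : ∀ x t : G, x ∈ Q → t ∈ Q → v (P * x * P⁻¹) = v t → ∃ l : ZMod 2, P * x * P⁻¹ = t * z ^ l.val := by
    intro x t hx ht e
    rcases (S.v_eq (S.norm hP hx) ht).1 e with e | e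
    · exact ⟨0, by rw [e, ZMod.val_zero, pow_zero, mul_one]⟩
    · exact ⟨1, by rw [e, ZMod.val_one, pow_one]⟩
  obtain ⟨p4, p0, p2, p1, hsel⟩ := pi_G0
  obtain ⟨l0, k0⟩ := hz (qg 4) s (hm 4 (by norm_num)) C.gens.sev.s_mem (by
    rw [S.ρ_act P hP _ (hm 4 (by norm_num)), hPe, C.v_qg (by norm_num), p4, C.gens.sev.s_v])
  obtain ⟨l2, k2⟩ := hz s (qg 2) C.gens.sev.s_mem (hm 2 (by norm_num)) (by
    rw [S.ρ_act P hP _ C.gens.sev.s_mem, hPe, C.gens.sev.s_v, p0, C.v_qg (by norm_num)])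
  obtain ⟨l4, k4⟩ := hz (qg 2) (qg 4) (hm 2 (by norm_num)) (hm 4 (by norm_num)) (by
    rw [S.ρ_act P hP _ (hm 2 (by norm_num)), hPe, C.v_qg (by norm_num), p2, C.v_qg (by norm_num)])
  obtain ⟨l1, k1⟩ := hz (qg 1) (qg 1) (hm 1 (by norm_num)) (hm 1 (by norm_num)) (by
    rw [S.ρ_act P hP _ (hm 1 (by norm_num)), hPe, C.v_qg (by norm_num), p1])
  obtain ⟨a, ha, s0, s1, s2, s4⟩ := hsel l0 l1 l2 l4
  set u := C.gens.pt''.zi 0 l0 * qe a
  have huQ : u ∈ Q := mul_mem (C.gens.pt''.zi_mem _ _).1 (C.gens.qe_trip.mem a ha).1.1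
  have huv : v u = l0 • w0 + inW (dA a) := by
    rw [S.v_mul _ (C.gens.pt''.zi_mem _ _).1 _ (C.gens.qe_trip.mem a ha).1.1, C.gens.pt''.v_zi, C.v_qe ha]
  have huC : u ∈ centralizer ({z} : Set G) := S.le huQ
  have fixup : ∀ x t : G, t ∈ Q → ∀ l : ZMod 2, P * x * P⁻¹ = t * z ^ l.val → pl (v u) (v t) = l →
      (u * P) * x * (u * P)⁻¹ = t := by
    intro x t ht l e hl
    have hu2 : u * z ^ l.val * u⁻¹ = z ^ l.val := conj_eq_iff_comm.2
      ((show Commute u z from mem_cz.1 huC).pow_right _).eq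
    calc (u * P) * x * (u * P)⁻¹ = (u * t * u⁻¹) * (u * z ^ l.val * u⁻¹) := by
          rw [show (u * P) * x * (u * P)⁻¹ = u * (P * x * P⁻¹) * u⁻¹ by group, e]; group
      _ = t * z ^ (pl (v u) (v t)).val * z ^ l.val := by rw [conj_Q S ht huQ, hu2]
      _ = t := by
        rw [hl, mul_assoc, ← pow_add]
        rcases two_cases l with rfl | rfl
        · rw [ZMod.val_zero, pow_zero, mul_one]
        · rw [ZMod.val_one, pow_two, S.zz, mul_one]
  refine ⟨u * P, mul_mem huC hP, fun x => ?_, ?_, ?_, ?_, ?_⟩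
  · rw [S.ρ_mul u huC P hP, S.ρ_of_mem huQ, one_mul, hPe]
  · exact fixup s _ (hm 2 (by norm_num)) l2 k2 (by rw [huv, C.v_qg (by norm_num), s2])
  · exact fixup _ _ (hm 4 (by norm_num)) l4 k4 (by rw [huv, C.v_qg (by norm_num), s4])
  · exact fixup _ _ C.gens.sev.s_mem l0 k0 (by rw [huv, C.gens.sev.s_v, s0])
  · exact fixup _ _ (hm 1 (by norm_num)) l1 k1 (by rw [huv, C.v_qg (by norm_num), s1])

theorem s_rg : ∀ c < 8, s * rg c * s⁻¹ = rg c * qg c := by
  have F := C.gens.pt''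
  have K := C.gens.sev
  have hsd : ∀ a : G, d * (s * a * s⁻¹) * d⁻¹ = s * (d * a * d⁻¹) * s⁻¹ := fun a => by
    calc d * (s * a * s⁻¹) * d⁻¹ = (d * s) * a * (d * s)⁻¹ := by group
      _ = (s * d) * a * (s * d)⁻¹ := by rw [K.s_d]
      _ = _ := by group
  have hc : ∀ b < 8, (rg b)⁻¹ * (s * rg b * s⁻¹) ∈ isoR F dG ∧
      pr (v ((rg b)⁻¹ * (s * rg b * s⁻¹))) = dG b := fun b hb => by
    obtain ⟨q', hq', hp, e⟩ := F.partner_conj (C.gens.rg_trip.mem b hb).1 K.s_mem K.s_v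
    have e' : (rg b)⁻¹ * (s * rg b * s⁻¹) = q' := by rw [e]; group
    rw [e']
    rw [show F.phi (rg b) = dG b from C.gens.rg_phi b hb] at hp
    exact ⟨⟨hq', fun n hn => by rw [hp, tot_G.pol b hb n hn]⟩, hp⟩
  have hcr : ∀ x ∈ isoR F dG, ∀ n < 8, Commute (rg n) x := fun x hx n hn => by
    refine C.r_comm (C.gens.rg_trip.mem n hn).1 hx.1.1 (C.P.mem_R.1 hx.1).2 ?_
    rw [show C.gens.pt''.phi (rg n) = dG n from C.gens.rg_phi n hn]; exact hx.2 n hn
  have key : ∀ b < 8, (rg b)⁻¹ * (s * rg b * s⁻¹) * qg b = 1 := by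
    refine C.zi_vanish (M := mG) (by simp) (fun b hb => ?_) (fun m hm n hn => ?_) fun b hb => ?_
    · exact F.zi_of_zero (mul_mem (hc b hb).1.1 (C.gens.qg_trip.mem b hb).1) (by
        rw [F.pr_mul (hc b hb).1.1.1 (C.gens.qg_trip.mem b hb).1.1, (hc b hb).2, C.gens.qg_pr b hb, w6_add_self])
    · have e1 : Commute (rg n) ((rg m)⁻¹ * (s * rg m * s⁻¹)) := hcr _ (hc m hm).1 n hn
      have e2 : Commute ((rg n)⁻¹ * (s * rg n * s⁻¹)) (qg m) :=
        (isoR_props _ tot_G).2 _ (hc n hn).1 _ (C.gens.qg_trip.mem m hm)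
      calc (rg (m ^^^ n))⁻¹ * (s * rg (m ^^^ n) * s⁻¹) * qg (m ^^^ n)
          = (rg n)⁻¹ * ((rg m)⁻¹ * (s * rg m * s⁻¹) * rg n) * ((rg n)⁻¹ * (s * rg n * s⁻¹)) * (qg m * qg n) := by
            rw [C.gens.qg_trip.xor m hm n hn, C.gens.rg_trip.xor m hm n hn]; group
        _ = (rg n)⁻¹ * (rg n * ((rg m)⁻¹ * (s * rg m * s⁻¹))) * ((rg n)⁻¹ * (s * rg n * s⁻¹) * qg m) * qg n := by
            rw [← e1.eq]; group
        _ = (rg m)⁻¹ * (s * rg m * s⁻¹) * (qg m * ((rg n)⁻¹ * (s * rg n * s⁻¹))) * qg n := by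
            rw [e2.eq]; group
        _ = _ := by group
    · rw [← C.gens.rg_trip.d_q b hb, ← C.gens.qg_trip.d_q b hb, ← hsd]
      group
  intro c hc'
  calc s * rg c * s⁻¹ = rg c * ((rg c)⁻¹ * (s * rg c * s⁻¹) * qg c) * (qg c)⁻¹ := by group
    _ = _ := by rw [key c hc', mul_one, inv_eq_of_mul_eq_one_right (C.qg_sq hc')]

theorem rg_qg {c a : ℕ} (hc : c < 8) (ha : a < 8) : Commute (rg c) (qg a) :=
  C.r_comm (C.gens.rg_trip.mem c hc).1 (C.gens.qg_trip.mem a ha).1.1 (C.P.mem_R.1 (C.gens.qg_trip.mem a ha).1).2 (by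
    rw [C.gens.qg_pr a ha, show C.gens.pt''.phi (rg c) = dG c from C.gens.rg_phi c hc, tot_G.pol a ha c hc])

theorem rg_sq {c : ℕ} (hc : c < 8) : rg c * rg c = 1 := (isoR'_props _ tot_G).1 _ (C.gens.rg_trip.mem c hc)

theorem rg_inE {c : ℕ} (hc : c < 8) {x : G} (hx : C.inE x) : C.inE (rg c * x * (rg c)⁻¹) := by
  refine C.inE_conj ?_ (fun m hm => ?_) hx
  · have hinv : (rg c)⁻¹ = rg c := inv_eq_of_mul_eq_one_right (C.rg_sq hc)
    have e : rg c * s * (rg c)⁻¹ = s * qg c := by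
      calc rg c * s * (rg c)⁻¹ = rg c * (s * rg c * s⁻¹) * s := by rw [hinv]; group
        _ = qg c * s := by rw [C.s_rg c hc, ← mul_assoc, C.rg_sq hc, one_mul]
        _ = _ := (C.s_qg hc).symm
    rw [e]; exact C.inE_mul C.inE_s (C.inE_qg hc)
  · have hm8 : m < 8 := by simp only [List.mem_cons, List.not_mem_nil, or_false] at hm; omega
    rw [conj_eq_iff_comm.2 (C.rg_qg hc hm8).eq]; exact C.inE_qg hm8

theorem perm_inE {P : G} (h0 : P * s * P⁻¹ = qg 2) (h2 : P * qg 2 * P⁻¹ = qg 4) (h4 : P * qg 4 * P⁻¹ = s)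
    (h1 : P * qg 1 * P⁻¹ = qg 1) {x : G} (hx : C.inE x) : C.inE (P * x * P⁻¹) ∧ C.inE (P⁻¹ * x * P) := by
  have hfwd : ∀ x, C.inE x → C.inE (P * x * P⁻¹) := fun x hx => by
    refine C.inE_conj (by rw [h0]; exact C.inE_qg (by norm_num)) (fun m hm => ?_) hx
    simp only [List.mem_cons, List.not_mem_nil, or_false] at hm
    rcases hm with rfl | rfl | rfl
    · rw [h1]; exact C.inE_qg (by norm_num)
    · rw [h2]; exact C.inE_qg (by norm_num)
    · rw [h4]; exact C.inE_s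
  refine ⟨hfwd x hx, ?_⟩
  have inv : ∀ a b : G, P * a * P⁻¹ = b → P⁻¹ * b * P⁻¹⁻¹ = a := fun a b e => by rw [← e]; group
  have h := C.inE_conj (k := P⁻¹) (by rw [inv _ _ h4]; exact C.inE_qg (by norm_num)) (fun m hm => by
    simp only [List.mem_cons, List.not_mem_nil, or_false] at hm
    rcases hm with rfl | rfl | rfl
    · rw [inv _ _ h1]; exact C.inE_qg (by norm_num)
    · rw [inv _ _ h0]; exact C.inE_s
    · rw [inv _ _ h2]; exact C.inE_qg (by norm_num)) hx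
  rwa [inv_inv] at h

/-- An element of the second part normalizing the four-space has no part at the second point. -/
theorem pin_R' {x : G} (hx : x ∈ C.gens.pt''.R') {c : ℕ} (hc : c < 8) (hp : C.gens.pt''.phi x = dG c)
    (hE : C.inE (x * s * x⁻¹)) : ∃ i, x = C.gens.pt''.zi i 0 * rg c := by
  set F := C.gens.pt''
  have hr := (C.gens.rg_trip.mem c hc).1
  obtain ⟨i, j, e⟩ := F.phi_eq hr hx ((C.gens.rg_phi c hc).trans hp.symm)
  rw [F.central_R' hr] at e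
  have hrs : C.inE (rg c * s * (rg c)⁻¹) := C.rg_inE hc C.inE_s
  obtain ⟨e', a, ha, hval⟩ := hrs
  have hin : C.inE (s ^ e'.val * qg a) := ⟨e', a, ha, rfl⟩
  obtain ⟨hQ, hv⟩ := C.v_inE e' ha
  have hy : pl (v (F.zi i j)) (v (s ^ e'.val * qg a)) = j * e' := by
    rw [F.v_zi, hv, pl_smul_left, pl_comm, pl_w0, yc_vmk]
  have hj : (j * e' : ZMod 2) = 0 := by
    refine C.z_pow_inE hin ?_
    have hz : z ^ (j * e').val * (s ^ e'.val * qg a) = (s ^ e'.val * qg a) * z ^ (j * e').val :=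
      (((show Commute (s ^ e'.val * qg a) z from mem_cz.1 (C.P.setup.le hQ)).pow_right _).eq).symm
    rw [hz, ← hy, ← conj_Q C.P.setup hQ (F.zi_mem i j).1, ← hval]
    rw [e, show F.zi i j * rg c * s * (F.zi i j * rg c)⁻¹ = F.zi i j * (rg c * s * (rg c)⁻¹) * (F.zi i j)⁻¹ by group] at hE
    exact hE
  have he1 : e' = 1 := by
    have h := congrArg (fun w => yc (v w)) hval
    simp only [hv, yc_vmk] at h
    rw [C.P.setup.ρ_act _ (C.rg_cz hc).1 _ C.gens.sev.s_mem, C.gens.sev.s_v, F.rho_R' hr, sieg, yc_vmk, yc_f0] at h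
    exact h.symm
  rw [he1, mul_one] at hj
  exact ⟨i, by rw [e, hj]⟩

end Co

end

end CfsgLib.Spor.CoOneGolay
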