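import Cfsg.Agent.Lib.Spor.CoOneGolay.Space

/-!
# Coordinates on the subgroup of order two to the eleventh

A number below 2048 stands for an element: two bits for the four group, three for each of the three families.
-/

set_option autoImplicit false
set_option synthInstance.maxSize 4096
set_option maxRecDepth 100000

namespace CfsgLib.Spor.CoOneGolay

open Subgroup CfsgLib.Spor.CoOneClasses
open CfsgLib.Spor.CoOneType (Vec qf Iso8 Om Setup mem_cz conj_eq_iff_comm act act_one act_mul act_add act_injective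
  qf_act pol_act iso_ext two_cases qf_nd)

noncomputable section

/-- The first parameter. -/
def fa (n : ℕ) : ℕ := (n / 4) % 8

/-- The second parameter. -/
def fb' (n : ℕ) : ℕ := (n / 32) % 8

/-- The third parameter. -/
def fx (n : ℕ) : ℕ := (n / 256) % 8

/-- A bit of a residue. -/
def bv (i : ZMod 2) : ℕ := if i = 0 then 0 else 1

theorem encode : ∀ i j : ZMod 2, ∀ a < 8, ∀ b < 8, ∀ x < 8, bv i + 2 * bv j + 4 * a + 32 * b + 256 * x < 2048 ∧
    zb (bv i + 2 * bv j + 4 * a + 32 * b + 256 * x) 0 = i ∧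
    zb (bv i + 2 * bv j + 4 * a + 32 * b + 256 * x) 1 = j ∧
    fa (bv i + 2 * bv j + 4 * a + 32 * b + 256 * x) = a ∧
    fb' (bv i + 2 * bv j + 4 * a + 32 * b + 256 * x) = b ∧
    fx (bv i + 2 * bv j + 4 * a + 32 * b + 256 * x) = x := by decide +kernel

theorem decode : ∀ n < 2048, n = bv (zb n 0) + 2 * bv (zb n 1) + 4 * fa n + 32 * fb' n + 256 * fx n := by
  decide +kernel

theorem field_lt (n : ℕ) : fa n < 8 ∧ fb' n < 8 ∧ fx n < 8 :=
  ⟨Nat.mod_lt _ (by norm_num), Nat.mod_lt _ (by norm_num), Nat.mod_lt _ (by norm_num)⟩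

theorem field_xor (m n : ℕ) : fa (m ^^^ n) = fa m ^^^ fa n ∧ fb' (m ^^^ n) = fb' m ^^^ fb' n ∧
    fx (m ^^^ n) = fx m ^^^ fx n ∧ (∀ i, zb (m ^^^ n) i = zb m i + zb n i) := by
  have key : ∀ k : ℕ, (m ^^^ n) / 2 ^ k % 2 ^ 3 = (m / 2 ^ k % 2 ^ 3) ^^^ (n / 2 ^ k % 2 ^ 3) := fun k => by
    simp only [← Nat.shiftRight_eq_div_pow, Nat.shiftRight_xor_distrib, Nat.xor_mod_two_pow]
  refine ⟨key 2, key 5, key 8, fun i => ?_⟩
  simp only [zb, Nat.testBit_xor]
  cases m.testBit i <;> cases n.testBit i <;> decide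

theorem xor_lt_2048 {m n : ℕ} (hm : m < 2048) (hn : n < 2048) : m ^^^ n < 2048 :=
  Nat.xor_lt_two_pow (n := 11) hm hn

/-- The generators with the third family. -/
structure Co {G : Type*} [Group G] [Finite G] (z : G) (Q : Subgroup G) (v : G → Vec) (ρ : G → Iso8)
    (g y d h s : G) (qe qg re rg xe : ℕ → G) : Prop where
  gens : Gens z Q v ρ g y d h s qe qg re rg
  xe_trip : Trip (bigA gens.pt'') d h mX sX xe
  xe_ρ : ∀ n < 8, ∀ w, act (ρ (xe n)) w = tXf n w

variable {G : Type*} [Group G] [Finite G] {z : G} {Q : Subgroup G} {v : G → Vec} {ρ : G → Iso8} {g y d h s : G}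
  {qe qg re rg xe : ℕ → G}

theorem exists_co {g y : G} (fr : Frame z Q v ρ g y) :
    ∃ d h s qe qg re rg xe, Co z Q v ρ g y d h s qe qg re rg xe := by
  obtain ⟨d, h, s, qe, qg, re, rg, D⟩ := exists_gens_of fr
  obtain ⟨xe, h1, h2⟩ := D.exists_xe
  exact ⟨d, h, s, qe, qg, re, rg, xe, D, h1, h2⟩

namespace Co

variable (C : Co z Q v ρ g y d h s qe qg re rg xe)

/-- The element of a number. -/
def el (_C : Co z Q v ρ g y d h s qe qg re rg xe) (n : ℕ) : G :=
  _C.gens.pt''.zi (zb n 0) (zb n 1) * qe (fa n) * re (fb' n) * xe (fx n)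

include C

theorem P : Pt z Q v ρ g := C.gens.pt''

theorem A_sq {a : G} (ha : a ∈ bigA C.gens.pt'') : a * a = 1 := C.gens.A_props.1 a ha

theorem A_cm {a b : G} (ha : a ∈ bigA C.gens.pt'') (hb : b ∈ bigA C.gens.pt'') : a * b = b * a :=
  C.gens.A_props.2 a ha b hb

theorem zi_A (i j : ZMod 2) : C.gens.pt''.zi i j ∈ bigA C.gens.pt'' := C.gens.U_le (C.gens.zi_U i j)

theorem el_mem (n : ℕ) : C.el n ∈ bigA C.gens.pt'' :=
  mul_mem (mul_mem (mul_mem (C.zi_A _ _) (C.gens.qe_A (field_lt n).1)) (C.gens.re_A (field_lt n).2.1))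
    (C.xe_trip.mem _ (field_lt n).2.2)

theorem el_xor (m n : ℕ) : C.el (m ^^^ n) = C.el m * C.el n := by
  obtain ⟨h1, h2, h3, h4⟩ := field_xor m n
  have e1 := C.gens.qe_trip.xor _ (field_lt m).1 _ (field_lt n).1
  have e2 := C.gens.re_trip.xor _ (field_lt m).2.1 _ (field_lt n).2.1
  have e3 := C.xe_trip.xor _ (field_lt m).2.2 _ (field_lt n).2.2
  let inst : CommGroup ↥(bigA C.gens.pt'') :=
    { (inferInstance : Group ↥(bigA C.gens.pt'')) with mul_comm := fun a b => Subtype.ext (C.A_cm a.2 b.2) }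
  have key : ∀ a b c e a' b' c' e' : ↥(bigA C.gens.pt''),
      (a * a') * (b * b') * (c * c') * (e * e') = a * b * c * e * (a' * b' * c' * e') := by
    intros; ac_rfl
  have h := congrArg Subtype.val (key ⟨_, C.zi_A (zb m 0) (zb m 1)⟩ ⟨_, C.gens.qe_A (field_lt m).1⟩
    ⟨_, C.gens.re_A (field_lt m).2.1⟩ ⟨_, C.xe_trip.mem _ (field_lt m).2.2⟩ ⟨_, C.zi_A (zb n 0) (zb n 1)⟩
    ⟨_, C.gens.qe_A (field_lt n).1⟩ ⟨_, C.gens.re_A (field_lt n).2.1⟩ ⟨_, C.xe_trip.mem _ (field_lt n).2.2⟩)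
  simp only [Subgroup.coe_mul] at h
  rw [el, el, el, h1, h2, h3, h4, h4, ← C.gens.pt''.zi_add, e1, e2, e3]
  exact h

theorem el_of (i j : ZMod 2) {a b x : ℕ} (ha : a < 8) (hb : b < 8) (hx : x < 8) :
    C.el (bv i + 2 * bv j + 4 * a + 32 * b + 256 * x) = C.gens.pt''.zi i j * qe a * re b * xe x := by
  obtain ⟨-, h0, h1, h2, h3, h4⟩ := encode i j a ha b hb x hx
  rw [el, h0, h1, h2, h3, h4]

theorem el_zi (i j : ZMod 2) : C.el (bv i + 2 * bv j) = C.gens.pt''.zi i j := by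
  have h := C.el_of i j (a := 0) (b := 0) (x := 0) (by norm_num) (by norm_num) (by norm_num)
  rw [C.gens.qe_trip.one, C.gens.re_trip.one, C.xe_trip.one, mul_one, mul_one, mul_one] at h
  simpa using h

theorem el_qe {a : ℕ} (ha : a < 8) : C.el (4 * a) = qe a := by
  have h := C.el_of 0 0 (a := a) (b := 0) (x := 0) ha (by norm_num) (by norm_num)
  rw [C.gens.pt''.zi_zero, C.gens.re_trip.one, C.xe_trip.one, mul_one, mul_one, one_mul] at h
  simpa [bv] using h

theorem el_re {b : ℕ} (hb : b < 8) : C.el (32 * b) = re b := by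
  have h := C.el_of 0 0 (a := 0) (b := b) (x := 0) (by norm_num) hb (by norm_num)
  rw [C.gens.pt''.zi_zero, C.gens.qe_trip.one, C.xe_trip.one, mul_one, one_mul, one_mul] at h
  simpa [bv] using h

theorem el_xe {x : ℕ} (hx : x < 8) : C.el (256 * x) = xe x := by
  have h := C.el_of 0 0 (a := 0) (b := 0) (x := x) (by norm_num) (by norm_num) hx
  rw [C.gens.pt''.zi_zero, C.gens.qe_trip.one, C.gens.re_trip.one, one_mul, one_mul, one_mul] at h
  simpa [bv] using h

theorem el_zero : C.el 0 = 1 := by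
  have h := C.el_qe (a := 0) (by norm_num)
  rw [C.gens.qe_trip.one] at h
  simpa using h

theorem el_one : C.el 1 = z := by
  have h := C.el_zi 1 0
  rw [C.gens.pt''.zi_z] at h
  simpa [bv] using h

theorem el_two : C.el 2 = C.gens.pt''.pt := by
  have h := C.el_zi 0 1
  rw [C.gens.pt''.zi_pt] at h
  simpa [bv] using h

/-- Splitting a number into its four parts. -/
theorem el_parts {n : ℕ} (hn : n < 2048) :
    C.el n = C.el (n % 4) * C.el (4 * fa n) * C.el (32 * fb' n) * C.el (256 * fx n) := by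
  rw [← C.el_xor, ← C.el_xor, ← C.el_xor,
    (by decide +kernel : ∀ n < 2048, n % 4 ^^^ 4 * fa n ^^^ 32 * fb' n ^^^ 256 * fx n = n) n hn]

theorem el_surj {a : G} (ha : a ∈ bigA C.gens.pt'') : ∃ n < 2048, C.el n = a := by
  obtain ⟨i, j, k, hk, b, hb, x, hx, rfl⟩ := C.gens.A_decomp (fun n hn => C.xe_trip.mem n hn) C.xe_ρ ha
  exact ⟨_, (encode i j k hk b hb x hx).1, C.el_of i j hk hb hx⟩

theorem el_eq_one {n : ℕ} (hn : n < 2048) (e : C.el n = 1) : n = 0 := by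
  obtain ⟨ha, hb, hx⟩ := field_lt n
  have hU := mul_mem (C.gens.zi_U (zb n 0) (zb n 1)) (C.gens.qe_trip.mem _ ha)
  have hre := (C.gens.A_cz (C.gens.re_A hb)).1
  have hxe := (C.gens.A_cz (C.xe_trip.mem _ hx)).1
  have hact : ∀ w, fixMap (fb' n) (fx n) w = w := fun w => by
    have h1 : act (ρ (C.el n)) w = fixMap (fb' n) (fx n) w := by
      rw [el, C.P.setup.ρ_mul _ (mul_mem (C.gens.A_cz (C.gens.U_le hU)).1 hre) _ hxe,
        C.P.setup.ρ_mul _ (C.gens.A_cz (C.gens.U_le hU)).1 _ hre, C.P.setup.ρ_of_mem hU.1.1, one_mul, act_mul,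
        C.xe_ρ _ hx, C.P.rho_R' (C.gens.re_trip.mem _ hb).1]
      rw [show C.P.phi (re (fb' n)) = dA (fb' n) from C.gens.re_phi _ hb]
      rfl
    rw [← h1, e, C.P.setup.ρ_one, act_one]
  have h0 : fb' n = 0 ∧ fx n = 0 := by
    have h := (by decide +kernel : ∀ b < 8, ∀ x < 8, (∀ j : Fin 4, fixMap b x (fb j) = fb j) → b = 0 ∧ x = 0)
      _ hb _ hx fun j => hact _
    exact h
  rw [el, h0.1, h0.2, C.gens.re_trip.one, C.xe_trip.one, mul_one, mul_one] at e
  have h1 : dA (fa n) = 0 := by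
    have h := congrArg (fun a => pr (v a)) e
    rw [show pr (v (C.gens.pt''.zi (zb n 0) (zb n 1) * qe (fa n))) = dA (fa n) by
      rw [C.gens.pt''.pr_mul (C.gens.pt''.zi_mem _ _).1 (C.gens.qe_trip.mem _ ha).1.1, C.gens.pt''.pr_v_zi, zero_add,
        C.gens.qe_pr _ ha]] at h
    rw [h, C.P.setup.v_one]
    decide +kernel
  have h2 : fa n = 0 := (dA_inj _ ha 0 (by norm_num)).1 (h1.trans dA_vals.2.2.2.2.2.2.1.symm)
  rw [h2, C.gens.qe_trip.one, mul_one] at e
  obtain ⟨h3, h4⟩ := C.gens.pt''.zi_eq_one e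
  rw [decode n hn, h0.1, h0.2, h2, h3, h4]
  rfl

theorem el_inj {m n : ℕ} (hm : m < 2048) (hn : n < 2048) (e : C.el m = C.el n) : m = n := by
  have h := C.el_eq_one (xor_lt_2048 hm hn) (by rw [C.el_xor, e, C.A_sq (C.el_mem n)])
  calc m = (m ^^^ n) ^^^ n := by rw [Nat.xor_assoc, Nat.xor_self, Nat.xor_zero]
    _ = n := by rw [h, Nat.zero_xor]

/-- The order of the subgroup. -/
theorem card_A : Nat.card ↥(bigA C.gens.pt'') = 2048 := by
  let f : Fin 2048 → ↥(bigA C.gens.pt'') := fun n => ⟨C.el n, C.el_mem n⟩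
  have hf : Function.Bijective f := ⟨fun a b e => Fin.ext (C.el_inj a.2 b.2 (congrArg Subtype.val e)), fun a => by
    obtain ⟨n, hn, e⟩ := C.el_surj a.2
    exact ⟨⟨n, hn⟩, Subtype.ext e⟩⟩
  rw [← Nat.card_eq_of_bijective f hf, Nat.card_eq_fintype_card, Fintype.card_fin]

/-- A conjugation given on the four parts. -/
theorem conj_parts (k : G) (T : ℕ → ℕ)
    (hT : ∀ n < 2048, T (n % 4) ^^^ T (4 * fa n) ^^^ T (32 * fb' n) ^^^ T (256 * fx n) = T n)
    (hz : ∀ i j, k * C.gens.pt''.zi i j * k⁻¹ = C.el (T (bv i + 2 * bv j)))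
    (hq : ∀ a < 8, k * qe a * k⁻¹ = C.el (T (4 * a))) (hr : ∀ b < 8, k * re b * k⁻¹ = C.el (T (32 * b)))
    (hx : ∀ x < 8, k * xe x * k⁻¹ = C.el (T (256 * x))) : ∀ n < 2048, k * C.el n * k⁻¹ = C.el (T n) := by
  intro n hn
  obtain ⟨ha, hb, hxl⟩ := field_lt n
  rw [← hT n hn, C.el_xor, C.el_xor, C.el_xor,
    (by decide +kernel : ∀ n < 2048, n % 4 = bv (zb n 0) + 2 * bv (zb n 1)) n hn, ← hz, ← hq _ ha, ← hr _ hb,
    ← hx _ hxl, el]
  group

end Co

end

end CfsgLib.Spor.CoOneGolay
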