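import Cfsg.Agent.Lib.Spor.CoOneGolay.Moves

/-!
# The thirty totally singular three-spaces in dimension six
-/

set_option autoImplicit false
set_option maxRecDepth 100000
set_option Elab.async false

namespace CfsgLib.Spor.CoOneGolay

open CfsgLib.Spor.CoOneClasses

noncomputable section

/-- Bases of the thirty spaces. -/
def planes : List (ℕ × ℕ × ℕ) :=
  [(1, 2, 4), (1, 2, 32), (1, 4, 16), (1, 6, 48), (1, 16, 32), (1, 20, 34), (2, 4, 8), (2, 5, 40), (2, 8, 32),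
    (2, 12, 33), (3, 4, 24), (3, 5, 56), (3, 24, 32), (3, 28, 33), (4, 8, 16), (4, 10, 17), (5, 16, 40), (5, 17, 42),
    (6, 8, 48), (6, 10, 49), (7, 24, 40), (7, 27, 42), (8, 16, 32), (8, 20, 34), (10, 17, 32), (10, 21, 34),
    (12, 16, 33), (12, 20, 35), (14, 17, 33), (14, 21, 35)]

/-- The quadratic form on numbers. -/
def qn (a : ℕ) : Bool := let b := a &&& (a / 8); Bool.xor (Bool.xor (b.testBit 0) (b.testBit 1)) (b.testBit 2)

/-- The polar form on numbers. -/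
def pn (a b : ℕ) : Bool := Bool.xor (Bool.xor (qn (a ^^^ b)) (qn a)) (qn b)

/-- Perpendicular to a space of the list. -/
def perpP (t : ℕ × ℕ × ℕ) (u : W6) : Prop :=
  pl6 u (dec6 t.1) = 0 ∧ pl6 u (dec6 t.2.1) = 0 ∧ pl6 u (dec6 t.2.2) = 0

instance (t : ℕ × ℕ × ℕ) (u : W6) : Decidable (perpP t u) := inferInstanceAs (Decidable (_ ∧ _))

theorem dec6_surj : ∀ u : W6, ∃ a < 64, dec6 a = u := by decide +kernel

theorem dec6_forms : (∀ a < 64, (qn a = false ↔ q6 (dec6 a) = 0) ∧ (dec6 a = 0 → a = 0)) ∧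
    ∀ a < 64, ∀ b < 64, (pn a b = false ↔ pl6 (dec6 a) (dec6 b) = 0) ∧ dec6 (a ^^^ b) = dec6 a + dec6 b := by
  decide +kernel

/-- Three numbers give a totally singular three-space. -/
def good3 (a b c : ℕ) : Bool :=
  !(qn c) && !(pn a c) && !(pn b c) && c != 0 && c != a && c != b && c != a ^^^ b

/-- The list covers a space. -/
def covered (a b c : ℕ) : Bool :=
  planes.any fun t => !(pn a t.1) && !(pn a t.2.1) && !(pn a t.2.2) && !(pn b t.1) && !(pn b t.2.1) && !(pn b t.2.2) &&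
    !(pn c t.1) && !(pn c t.2.1) && !(pn c t.2.2)

theorem planes_check : ∀ a < 64, (qn a || a == 0) = false → ∀ b < 64, (qn b || pn a b || b == 0 || b == a) = false →
    ∀ c < 64, (!(good3 a b c) || covered a b c) = true := by decide +kernel

theorem planes_cover : ∀ a < 64, qn a = false → a ≠ 0 → ∀ b < 64, qn b = false → pn a b = false → b ≠ 0 → b ≠ a →
    ∀ c < 64, qn c = false → pn a c = false → pn b c = false → c ≠ 0 → c ≠ a → c ≠ b → c ≠ a ^^^ b →
      ∃ t ∈ planes, pn a t.1 = false ∧ pn a t.2.1 = false ∧ pn a t.2.2 = false ∧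
        pn b t.1 = false ∧ pn b t.2.1 = false ∧ pn b t.2.2 = false ∧
        pn c t.1 = false ∧ pn c t.2.1 = false ∧ pn c t.2.2 = false := by
  intro a ha h1 h2 b hb h3 h4 h5 h6 c hc h7 h8 h9 h10 h11 h12 h13
  have h := planes_check a ha (by simp [h1, h2]) b hb (by simp [h3, h4, h5, h6]) c hc
  simpa [good3, covered, h7, h8, h9, h10, h11, h12, h13, and_assoc] using h

theorem planes_facts : (∀ t ∈ planes, t.1 < 64 ∧ t.2.1 < 64 ∧ t.2.2 < 64) ∧
    ∀ t ∈ planes, (Finset.univ.filter fun u : W6 => perpP t u).card = 8 := by decide +kernel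

/-- A totally singular three-space is perpendicular to one of the list. -/
theorem exists_plane {a b c : W6} (ha : q6 a = 0) (ha0 : a ≠ 0) (hb : q6 b = 0) (hab : pl6 a b = 0) (hb0 : b ≠ 0)
    (hba : b ≠ a) (hc : q6 c = 0) (hac : pl6 a c = 0) (hbc : pl6 b c = 0) (hc0 : c ≠ 0) (hca : c ≠ a) (hcb : c ≠ b)
    (hcab : c ≠ a + b) : ∃ t ∈ planes, perpP t a ∧ perpP t b ∧ perpP t c := by
  obtain ⟨x, hx, rfl⟩ := dec6_surj a
  obtain ⟨y, hy, rfl⟩ := dec6_surj b
  obtain ⟨w, hw, rfl⟩ := dec6_surj c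
  have nz : ∀ i, dec6 i ≠ 0 → i ≠ 0 := fun i h e => h (by rw [e]; decide +kernel)
  obtain ⟨t, ht, h1, h2, h3, h4, h5, h6, h7, h8, h9⟩ := planes_cover x hx ((dec6_forms.1 x hx).1.2 ha) (nz x ha0)
    y hy ((dec6_forms.1 y hy).1.2 hb) ((dec6_forms.2 x hx y hy).1.2 hab) (nz y hb0) (fun e => hba (by rw [e]))
    w hw ((dec6_forms.1 w hw).1.2 hc) ((dec6_forms.2 x hx w hw).1.2 hac) ((dec6_forms.2 y hy w hw).1.2 hbc) (nz w hc0)
    (fun e => hca (by rw [e])) (fun e => hcb (by rw [e])) (fun e => hcab (by rw [e, (dec6_forms.2 x hx y hy).2]))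
  obtain ⟨t1, t2, t3⟩ := planes_facts.1 t ht
  have f := fun i (hi : i < 64) j (hj : j < 64) h => (dec6_forms.2 i hi j hj).1.1 h
  exact ⟨t, ht, ⟨f x hx _ t1 h1, f x hx _ t2 h2, f x hx _ t3 h3⟩, ⟨f y hy _ t1 h4, f y hy _ t2 h5, f y hy _ t3 h6⟩,
    f w hw _ t1 h7, f w hw _ t2 h8, f w hw _ t3 h9⟩

end

end CfsgLib.Spor.CoOneGolay
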