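import Cfsg.Agent.Lib.Spor.CoOneGolay.Pin
import Cfsg.Agent.Lib.Spor.CoOneGolay.Planes

/-!
# A lower bound for the normalizer
-/

set_option autoImplicit false
set_option synthInstance.maxSize 4096
set_option maxRecDepth 100000

namespace CfsgLib.Spor.CoOneGolay

open Subgroup CfsgLib.Spor.CoOneClasses
open CfsgLib.Spor.CoOneType (Vec qf Iso8 Om Setup mem_cz conj_eq_iff_comm act act_one act_mul act_add act_injective
  qf_act pol_act iso_ext two_cases qf_nd)

noncomputable section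

theorem cand_count : ((Finset.range 2048).filter fun n => cand 2 n = true).card = 759 := by decide +kernel

/-- An injection into a product bounds the order of a group by a fibre. -/
theorem card_le_fibre {G : Type*} [Group G] [Finite G] {M St : Subgroup G} {ι : Type*} [Finite ι] (f : ↥M → ι)
    (hf : ∀ a b : ↥M, f a = f b → (b : G)⁻¹ * a ∈ St) : Nat.card ↥M ≤ Nat.card ι * Nat.card ↥St := by
  classical
  haveI : Nonempty ↥M := ⟨1⟩
  let rep : ↥M → ↥M := fun a => Function.invFun f (f a)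
  have hrep : ∀ a, f (rep a) = f a := fun a => Function.invFun_eq ⟨a, rfl⟩
  let j : ↥M → ι × ↥St := fun a => (f a, ⟨((rep a : ↥M) : G)⁻¹ * a, hf a (rep a) (hrep a).symm⟩)
  have hj : Function.Injective j := by
    intro a b e
    simp only [j, Prod.mk.injEq, Subtype.mk.injEq] at e
    have e1 : rep a = rep b := by simp only [rep, e.1]
    rw [e1] at e
    exact Subtype.ext (mul_left_cancel e.2)
  exact (Nat.card_le_card_of_injective j hj).trans (le_of_eq (Nat.card_prod _ _))

variable {G : Type*} [Group G] [Finite G] {z : G} {Q : Subgroup G} {v : G → Vec} {ρ : G → Iso8} {g y d h s : G}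
  {qe qg re rg xe : ℕ → G}

namespace Co

variable (C : Co z Q v ρ g y d h s qe qg re rg xe)

/-- The stabilizer of the first part among the elements fixing both points. -/
def stU (_C : Co z Q v ρ g y d h s qe qg re rg xe) : Subgroup G :=
  _C.gens.pt''.M ⊓ normalizer (isoR _C.gens.pt'' dA : Set G)

/-- The normalizer inside the centralizer of the central involution. -/
def NC (_C : Co z Q v ρ g y d h s qe qg re rg xe) : Subgroup G :=
  normalizer (bigA _C.gens.pt'' : Set G) ⊓ centralizer ({z} : Set G)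

include C

theorem stU_le : C.stU ≤ C.NC := by
  rintro k ⟨hM, hN⟩
  refine ⟨C.mem_N fun a ha => C.norm_A (fun q hq => ?_) ha, hM.1⟩
  exact (Subgroup.mem_normalizer_iff.1 hN _).2 (by
    rw [show k * (k⁻¹ * q * k) * k⁻¹ = q by group]; exact hq)

theorem bound_planes : Nat.card ↥C.gens.pt''.M ≤ 30 * Nat.card ↥C.stU := by
  classical
  set F := C.gens.pt''
  have hR : ∀ k ∈ F.M, ∀ n < 8, k * qe n * k⁻¹ ∈ F.R := fun k hk n hn =>
    F.norm_R hk.1 hk.2 (C.gens.qe_trip.mem n hn).1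
  let im : G → ℕ → W6 := fun k n => pr (v (k * qe n * k⁻¹))
  have hadd : ∀ k ∈ F.M, ∀ m < 8, ∀ n < 8, im k (m ^^^ n) = im k m + im k n := fun k hk m hm n hn => by
    show pr (v _) = pr (v _) + pr (v _)
    rw [C.gens.qe_trip.xor m hm n hn, show k * (qe m * qe n) * k⁻¹ = (k * qe m * k⁻¹) * (k * qe n * k⁻¹) by group,
      F.pr_mul (hR k hk m hm).1 (hR k hk n hn).1]
  have hlt := fun m (hm : m < 8) n (hn : n < 8) => (xor_tables.1 m hm n hn).2.2.2.2
  have hq : ∀ k ∈ F.M, ∀ n < 8, q6 (im k n) = 0 := fun k hk n hn => by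
    have e : k * qe n * k⁻¹ * (k * qe n * k⁻¹) = 1 := by
      rw [show k * qe n * k⁻¹ * (k * qe n * k⁻¹) = k * (qe n * qe n) * k⁻¹ by group, C.A_sq (C.gens.qe_A hn)]
      group
    rw [F.sq_R (hR k hk n hn)] at e
    exact (F.zi_eq_one e).1
  have hne : ∀ k ∈ F.M, ∀ n < 8, n ≠ 0 → im k n ≠ 0 := fun k hk n hn h0 e => by
    obtain ⟨i, j, e'⟩ := F.zi_of_zero (hR k hk n hn) e
    have hzi : qe n = F.zi i j := by
      refine mul_left_cancel (a := k) (mul_right_cancel (b := k⁻¹) ?_)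
      rw [C.zi_conj hk.1 hk.2]; exact e'
    have h2 := C.gens.qe_pr n hn
    rw [hzi, F.pr_v_zi] at h2
    exact h0 ((dA_inj _ hn 0 (by norm_num)).1 (h2.symm.trans dA_vals.2.2.2.2.2.2.1.symm))
  have hsep : ∀ k ∈ F.M, ∀ m < 8, ∀ n < 8, im k m = im k n → m = n := fun k hk m hm n hn e => by
    by_contra hmn
    refine hne k hk _ (hlt m hm n hn) (fun e0' => hmn ?_) (by rw [hadd k hk m hm n hn, e, w6_add_self])
    have := congrArg (· ^^^ n) e0'
    simpa [Nat.xor_assoc] using this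
  have hpl : ∀ k ∈ F.M, ∀ m < 8, ∀ n < 8, pl6 (im k m) (im k n) = 0 := fun k hk m hm n hn => by
    have e := hq k hk _ (hlt m hm n hn)
    rw [hadd k hk m hm n hn, q6_add, hq k hk m hm, hq k hk n hn, add_zero, zero_add] at e
    exact e
  have hplane : ∀ k : ↥F.M, ∃ t : Fin 30, ∀ n < 8, perpP (planes.getD t (0, 0, 0)) (im k n) := by
    rintro ⟨k, hk⟩
    have s := hsep k hk
    have hd : ∀ m < 8, ∀ n < 8, m ≠ n → im k m ≠ im k n := fun m hm n hn hmn e => hmn (s m hm n hn e)
    obtain ⟨t, ht, p1, p2, p4⟩ := exists_plane (hq k hk 1 (by norm_num)) (hne k hk 1 (by norm_num) (by norm_num))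
      (hq k hk 2 (by norm_num)) (hpl k hk 1 (by norm_num) 2 (by norm_num)) (hne k hk 2 (by norm_num) (by norm_num))
      (hd 2 (by norm_num) 1 (by norm_num) (by norm_num)) (hq k hk 4 (by norm_num))
      (hpl k hk 1 (by norm_num) 4 (by norm_num)) (hpl k hk 2 (by norm_num) 4 (by norm_num))
      (hne k hk 4 (by norm_num) (by norm_num)) (hd 4 (by norm_num) 1 (by norm_num) (by norm_num))
      (hd 4 (by norm_num) 2 (by norm_num) (by norm_num))
      (by rw [← hadd k hk 1 (by norm_num) 2 (by norm_num)]; exact hd 4 (by norm_num) _ (by decide) (by decide))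
    obtain ⟨i, hi, rfl⟩ := List.getElem_of_mem ht
    refine ⟨⟨i, hi⟩, fun n hn => ?_⟩
    rw [show planes.getD (⟨i, hi⟩ : Fin 30) (0, 0, 0) = planes[i] from List.getD_eq_getElem _ _ hi]
    have step : ∀ a < 8, ∀ b < 8, perpP planes[i] (im k a) → perpP planes[i] (im k b) →
        perpP planes[i] (im k (a ^^^ b)) := fun a ha b hb ⟨a1, a2, a3⟩ ⟨b1, b2, b3⟩ => by
      refine ⟨?_, ?_, ?_⟩ <;> rw [hadd k hk a ha b hb, pl6_add_left]
      · rw [a1, b1, add_zero]
      · rw [a2, b2, add_zero]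
      · rw [a3, b3, add_zero]
    interval_cases n
    · exact step 1 (by norm_num) 1 (by norm_num) p1 p1
    · exact p1
    · exact p2
    · exact step 1 (by norm_num) 2 (by norm_num) p1 p2
    · exact p4
    · exact step 1 (by norm_num) 4 (by norm_num) p1 p4
    · exact step 2 (by norm_num) 4 (by norm_num) p2 p4
    · exact step 3 (by norm_num) 4 (by norm_num) (step 1 (by norm_num) 2 (by norm_num) p1 p2) p4
  choose t ht using hplane
  refine (card_le_fibre (St := C.stU) t fun a b e => ?_).trans (le_of_eq (by rw [Nat.card_fin]))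
  have hkM : (b : G)⁻¹ * a ∈ F.M := mul_mem (inv_mem b.2) a.2
  refine ⟨hkM, ?_⟩
  set T := planes.getD (t a) (0, 0, 0)
  have hT : T ∈ planes := by
    rw [show T = planes[(t a : ℕ)]'(t a).2 from List.getD_eq_getElem _ _ _]
    exact List.getElem_mem _
  have himg : (Finset.range 8).image (im b) = Finset.univ.filter fun u : W6 => perpP T u := by
    refine Finset.eq_of_subset_of_card_le (fun u hu => ?_) ?_
    · obtain ⟨n, hn, rfl⟩ := Finset.mem_image.1 hu
      rw [Finset.mem_filter, show T = planes.getD (t b) (0, 0, 0) by simp only [T, e]]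
      exact ⟨Finset.mem_univ _, ht b n (Finset.mem_range.1 hn)⟩
    · rw [planes_facts.2 T hT, Finset.card_image_of_injOn fun m hm n hn h =>
        hsep b b.2 m (Finset.mem_range.1 hm) n (Finset.mem_range.1 hn) h, Finset.card_range]
  have hle : ∀ u ∈ isoR F dA, ((b : G)⁻¹ * a) * u * ((b : G)⁻¹ * a)⁻¹ ∈ isoR F dA := by
    intro u hu
    obtain ⟨i, j, n, hn, rfl⟩ := C.gens.mem_U hu
    rw [show ((b : G)⁻¹ * a) * (F.zi i j * qe n) * ((b : G)⁻¹ * a)⁻¹ =
      ((b : G)⁻¹ * a * F.zi i j * ((b : G)⁻¹ * a)⁻¹) * ((b : G)⁻¹ * ((a : G) * qe n * (a : G)⁻¹) * b) by group,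
      C.zi_conj hkM.1 hkM.2]
    refine mul_mem (C.gens.zi_U i j) ?_
    have hmem : im a n ∈ Finset.univ.filter fun u : W6 => perpP T u :=
      Finset.mem_filter.2 ⟨Finset.mem_univ _, ht a n hn⟩
    rw [← himg] at hmem
    obtain ⟨n', hn', e'⟩ := Finset.mem_image.1 hmem
    rw [Finset.mem_range] at hn'
    obtain ⟨i', j', ez⟩ := F.zi_of_zero (mul_mem (hR a a.2 n hn) (inv_mem (hR b b.2 n' hn'))) (by
      rw [F.pr_mul (hR a a.2 n hn).1 (inv_mem (hR b b.2 n' hn').1), F.setup.v_inv (hR b b.2 n' hn').1,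
        show pr (v ((b : G) * qe n' * (b : G)⁻¹)) = pr (v ((a : G) * qe n * (a : G)⁻¹)) from e', w6_add_self])
    rw [mul_inv_eq_iff_eq_mul.1 ez,
      show (b : G)⁻¹ * (F.zi i' j' * ((b : G) * qe n' * (b : G)⁻¹)) * b =
        ((b : G)⁻¹ * F.zi i' j' * (b : G)⁻¹⁻¹) * qe n' by group,
      C.zi_conj (inv_mem b.2.1) (Subgroup.inv_mem _ b.2.2)]
    exact mul_mem (C.gens.zi_U i' j') (C.gens.qe_trip.mem n' hn')
  refine Subgroup.mem_normalizer_iff.2 fun u => ?_
  refine ⟨hle u, fun hu => ?_⟩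
  have hmap : (isoR F dA).map (MulAut.conj ((b : G)⁻¹ * a)).toMonoidHom = isoR F dA :=
    eq_of_le_of_card_ge (by rintro _ ⟨w, hw, rfl⟩; exact hle w hw) (by
      rw [card_map_of_injective (show Function.Injective (MulAut.conj ((b : G)⁻¹ * a)).toMonoidHom from
        (MulAut.conj ((b : G)⁻¹ * a)).injective)])
  rw [← hmap] at hu
  obtain ⟨w, hw, ew⟩ := hu
  rwa [← (MulAut.conj ((b : G)⁻¹ * a)).injective ew]

theorem bound_U : 30 * Nat.card ↥C.stU ≤ Nat.card ↥C.NC := by
  set F := C.gens.pt''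
  have hex : ∀ i : Fin 30, ∃ m ∈ C.NC, m * F.pt * m⁻¹ = C.el (i + 2) := by
    intro i
    refine C.U_closed (Φ := fun x => ∃ m ∈ C.NC, m * F.pt * m⁻¹ = x) ?_ ⟨1, one_mem _, by rw [one_mul, inv_one, mul_one]⟩
      (C.el_mem_U (by omega)) (fun e => ?_) (fun e => ?_)
    · rintro k x w hk hk' ⟨m, hm, rfl⟩ e
      exact ⟨k * m, mul_mem (⟨hk, hk'⟩ : k ∈ C.NC) hm, by rw [← e]; group⟩
    · exact absurd (C.el_eq_one (by omega) e) (by omega)
    · exact absurd (C.el_inj (by omega) (by omega) (e.trans C.el_one.symm)) (by omega)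
  choose m hm hme using hex
  let j : Fin 30 × ↥C.stU → ↥C.NC := fun p => ⟨m p.1 * p.2.1, mul_mem (hm p.1) (C.stU_le p.2.2)⟩
  have hj : Function.Injective j := by
    rintro ⟨a, k⟩ ⟨b, l⟩ e
    replace e : m a * k.1 = m b * l.1 := congrArg Subtype.val e
    have hfix : ∀ k : ↥C.stU, k.1 * F.pt * k.1⁻¹ = F.pt := fun k => conj_eq_iff_comm.2 (mem_cz.1 k.2.1.2)
    have h1 : C.el ((a : ℕ) + 2) = C.el ((b : ℕ) + 2) := by
      calc C.el ((a : ℕ) + 2) = m a * (k.1 * F.pt * k.1⁻¹) * (m a)⁻¹ := by rw [hfix, hme]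
        _ = (m a * k.1) * F.pt * (m a * k.1)⁻¹ := by group
        _ = m b * (l.1 * F.pt * l.1⁻¹) * (m b)⁻¹ := by rw [e]; group
        _ = _ := by rw [hfix, hme]
    have hab : a = b := Fin.ext (by have := C.el_inj (by omega) (by omega) h1; omega)
    subst hab
    exact Prod.ext rfl (Subtype.ext (mul_left_cancel e))
  have := Nat.card_le_card_of_injective j hj
  rwa [Nat.card_prod, Nat.card_fin] at this

theorem bound_orbit : 759 * Nat.card ↥C.NC ≤ Nat.card ↥(normalizer (bigA C.gens.pt'' : Set G)) := by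
  classical
  set S := (Finset.range 2048).filter fun n => cand 2 n = true
  have hex : ∀ p : ↥S, ∃ k ∈ normalizer (bigA C.gens.pt'' : Set G), k * z * k⁻¹ = C.el p := fun p => by
    obtain ⟨h1, h2⟩ := Finset.mem_filter.1 p.2
    exact C.orb_all (Finset.mem_range.1 h1) h2
  choose m hm hme using hex
  let j : ↥S × ↥C.NC → ↥(normalizer (bigA C.gens.pt'' : Set G)) := fun p => ⟨m p.1 * p.2.1, mul_mem (hm p.1) p.2.2.1⟩
  have hj : Function.Injective j := by
    rintro ⟨a, k⟩ ⟨b, l⟩ e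
    replace e : m a * k.1 = m b * l.1 := congrArg Subtype.val e
    have hfix : ∀ k : ↥C.NC, k.1 * z * k.1⁻¹ = z := fun k => conj_eq_iff_comm.2 (mem_cz.1 k.2.2)
    have h1 : C.el a = C.el b := by
      calc C.el a = m a * (k.1 * z * k.1⁻¹) * (m a)⁻¹ := by rw [hfix, hme]
        _ = (m a * k.1) * z * (m a * k.1)⁻¹ := by group
        _ = m b * (l.1 * z * l.1⁻¹) * (m b)⁻¹ := by rw [e]; group
        _ = _ := by rw [hfix, hme]
    have hab : a = b := Subtype.ext (C.el_inj (Finset.mem_range.1 (Finset.mem_filter.1 a.2).1)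
      (Finset.mem_range.1 (Finset.mem_filter.1 b.2).1) h1)
    subst hab
    exact Prod.ext rfl (Subtype.ext (mul_left_cancel e))
  have := Nat.card_le_card_of_injective j hj
  rwa [Nat.card_prod, Nat.card_eq_fintype_card (α := ↥S), Fintype.card_coe, cand_count] at this

/-- The lower bound for the normalizer. -/
theorem card_N_ge : 759 * 330301440 ≤ Nat.card ↥(normalizer (bigA C.gens.pt'' : Set G)) := by
  have h1 := C.bound_planes
  rw [C.gens.pt''.card_M] at h1
  calc 759 * 330301440 ≤ 759 * (30 * Nat.card ↥C.stU) := Nat.mul_le_mul_left _ h1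
    _ ≤ 759 * Nat.card ↥C.NC := Nat.mul_le_mul_left _ C.bound_U
    _ ≤ _ := C.bound_orbit

end Co

end

end CfsgLib.Spor.CoOneGolay
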