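import Cfsg.Agent.Lib.Spor.CoOneGolay.Moves

/-!
# The candidates for the set of conjugates of the central involution, in coordinates

The classes of the translations on the coset of the reference involution, the reduction to that coset by the
element of order seven, and the eight candidates.
-/

set_option autoImplicit false
set_option maxRecDepth 100000
set_option Elab.async false

namespace CfsgLib.Spor.CoOneGolay

noncomputable section

/-- The first bit of the class number. -/
def cb0 : ℕ := 0x9a959565c03030c0959a956530c030c095959a653030c0c06a6a6a9530303030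

/-- The second bit of the class number. -/
def cb1 : ℕ := 0x9a95956530c0c030959a9565c030c03095959a65c0c030306a6a6a95c0c0c0c0

/-- The third bit of the class number. -/
def cb2 : ℕ := 0x656a6a9a000000006a656a9a000000006a6a659a000000009595956a00000000

/-- The words leading from the representatives. -/
def wt : ℕ := 0xe1c38f16cd9bb7ebd7a7466cd932e7cf9726ad5a34eddbbf760c18b16cf9b3e6cddf3f74c9d3276e99b278d1e347af1ab470c1c3062c1cb8ab56a542e5cb16a1428d12448993af5eb562a54a14a54a9d320408913c58f163e78b96246891a244cd1b3850e143a70a943040c102240c98c78f1624e9d326cf9f366468d122c1830e148912a5c9932e540810a15c997265eb93a6548952256a91a248b122c489562d508142042814a88f1e3460e1c306870e142060c1028b162440a14204830604002040000c3830e1c3c307042810a142c103083020c183420510004001220080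

/-- The powers of the element of order seven leading to the reference coset. -/
def redT : ℕ := 0x467b98bcbd1089d3f0731578356ee0cfa868fac688000000

/-- The number in the reference coset. -/
def red (n : ℕ) : ℕ :=
  n % 4 + 4 * ((redT / 2 ^ (3 * (8 * fx n + fa n))) % 8) + 32 * ((redT / 2 ^ (3 * (8 * fx n + fb' n))) % 8) + 256

/-- The class number of an element of the reference coset. -/
def cls (n : ℕ) : ℕ :=
  cb0 / 2 ^ (n - 256) % 2 + 2 * (cb1 / 2 ^ (n - 256) % 2) + 4 * (cb2 / 2 ^ (n - 256) % 2)

/-- The representatives. -/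
def rep5 (i : ℕ) : ℕ := [256, 260, 262, 288, 289].getD i 256

/-- A word in the seven involutions. -/
def wapp (w n : ℕ) : ℕ :=
  let f := fun (b : ℕ) (F : ℕ → ℕ) (k : ℕ) => if w.testBit b then F k else k
  f 6 sT (f 5 (rM 4) (f 4 (rM 2) (f 3 (rM 1) (f 2 (qM 4) (f 1 (qM 2) (f 0 (qM 1) n))))))

/-- The membership for the classes of a candidate. -/
def sel (c i : ℕ) : Bool :=
  [false, !c.testBit 0, c.testBit 0, c.testBit 1, c.testBit 2].getD i false

/-- Membership outside the cosets of the third family. -/
def low (n : ℕ) : Bool := n != 0 && (fa n == 0 || fb' n == 0 || fa n == fb' n)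

/-- A candidate. -/
def cand (c n : ℕ) : Bool := if n < 256 then low n else sel c (cls (red n))

/-- The part of a candidate known to be one orbit. -/
def known (c n : ℕ) : Bool := if n < 256 then low n else decide (cls (red n) = if c.testBit 0 then 2 else 1)

/-- The number of partners of an element in a candidate. -/
def cnt (c p : ℕ) : ℕ := ((List.range 2048).filter fun q => cand c q && cand c (p ^^^ q)).length

theorem red_one : ∀ n < 512, 256 ≤ n → red n = n := by decide +kernel

theorem red_dT : ∀ n < 2048, 256 ≤ n → red (dT n) = red n ∧ 256 ≤ dT n ∧ dT n < 2048 ∧ 256 ≤ red n ∧ red n < 512 := by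
  decide +kernel

theorem move_range : ∀ m ∈ [1, 2, 4], ∀ n < 512, 256 ≤ n → 256 ≤ qM m n ∧ qM m n < 512 ∧ 256 ≤ rM m n ∧ rM m n < 512 ∧
    256 ≤ sT n ∧ sT n < 512 := by decide +kernel

theorem word_table : ∀ k < 256, cls (256 + k) < 5 ∧ wapp (wt / 2 ^ (7 * k) % 128) (rep5 (cls (256 + k))) = 256 + k := by
  decide +kernel

theorem steps_to_one : ∀ x < 8, x ≠ 0 → ∃ i < 7, mX^[i] x = 1 := by decide +kernel

theorem fx_dT : ∀ n < 2048, fx (dT n) = mX (fx n) ∧ dT n < 2048 := by decide +kernel

theorem cnt_facts : cnt 0 1 = 310 ∧ cnt 0 2 = 86 ∧ cnt 1 1 = 310 ∧ cnt 1 2 = 86 ∧ cnt 6 1 = 1206 ∧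
    cnt 6 2 = 982 ∧ cnt 7 1 = 1206 ∧ cnt 7 2 = 982 := by decide +kernel

theorem cnt_facts' : cnt 3 1 = 310 ∧ cnt 3 262 = 262 ∧ cnt 5 1 = 310 ∧ cnt 5 262 = 262 ∧ cnt 4 1 = 310 ∧
    cnt 4 289 = 262 := by decide +kernel

theorem cand_four : cand 4 289 = true ∧ cand 4 (289 ^^^ 2) = true ∧ cand 3 262 = true ∧ cand 5 262 = true := by
  decide +kernel

theorem near_known : ∀ c ∈ [2, 4], ∀ n < 2048, cand c n = true → cand c (n ^^^ 1) = true → known c n = true := by
  decide +kernel

theorem far_rep : cand 2 288 = true ∧ cand 2 (288 ^^^ 2) = true := by decide +kernel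

end

end CfsgLib.Spor.CoOneGolay
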