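import Cfsg.Agent.Lib.Spor.CoOneGolay.Flip

/-!
# An element of order seven and one of order three on the six-space

The first three basis vectors are the field with eight elements: `e2`, `e0`, `e1` are `1`, `a`, `a^2` with
`a^3 = a + 1`; the element of order seven multiplies by `a`, the element of order three squares.
-/

set_option autoImplicit false
set_option synthInstance.maxSize 4096
set_option maxRecDepth 100000

namespace CfsgLib.Spor.CoOneGolay

open Subgroup CfsgLib.Spor.CoOneClasses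
open CfsgLib.Spor.CoOneType (Vec qf Iso8 Om act act_one act_mul act_add act_injective qf_act pol_act iso_ext
  two_cases qf_nd om_index)

noncomputable section

/-- A bit of a number as a residue. -/
def zb (n i : ℕ) : ZMod 2 := if n.testBit i then 1 else 0

/-- The singular three-space by numbers. -/
def dA (n : ℕ) : W6 := mk6 (zb n 1) (zb n 2) (zb n 0) 0 0 0

/-- The opposite three-space by numbers. -/
def dG (n : ℕ) : W6 := mk6 0 0 0 (zb n 1) (zb n 2) (zb n 0)

/-- The element of order seven. -/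
def gd6 (u : W6) : W6 :=
  mk6 (u (.inl 1) + u (.inl 2)) (u (.inl 0)) (u (.inl 1)) (u (.inr 2)) (u (.inr 0)) (u (.inr 1) + u (.inr 2))

/-- The element of order three. -/
def gh6 (u : W6) : W6 :=
  mk6 (u (.inl 1)) (u (.inl 0) + u (.inl 1)) (u (.inl 2)) (u (.inr 0) + u (.inr 1)) (u (.inr 0)) (u (.inr 2))

/-- Multiplication by the generator on numbers, first space. -/
def mA (n : ℕ) : ℕ := [0, 2, 4, 6, 3, 1, 7, 5].getD n 0

/-- The same on the opposite space. -/
def mG (n : ℕ) : ℕ := [0, 3, 4, 7, 1, 2, 5, 6].getD n 0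

/-- Squaring on numbers, first space. -/
def sA (n : ℕ) : ℕ := [0, 1, 4, 5, 6, 7, 2, 3].getD n 0

/-- The same on the opposite space. -/
def sG (n : ℕ) : ℕ := [0, 1, 6, 7, 2, 3, 4, 5].getD n 0

theorem gd6_add (u u' : W6) : gd6 (u + u') = gd6 u + gd6 u' := by
  funext i
  rcases i with i | i <;> fin_cases i <;> simp [gd6, mk6] <;> abel

theorem gh6_add (u u' : W6) : gh6 (u + u') = gh6 u + gh6 u' := by
  funext i
  rcases i with i | i <;> fin_cases i <;> simp [gh6, mk6] <;> abel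

theorem gd6_facts : ∀ u : W6, q6 (gd6 u) = q6 u ∧ gd6 (gd6 (gd6 (gd6 (gd6 (gd6 (gd6 u)))))) = u ∧
    gh6 (gd6 u) = gd6 (gd6 (gh6 u)) := by decide +kernel

theorem gh6_facts : ∀ u : W6, q6 (gh6 u) = q6 u ∧ gh6 (gh6 (gh6 u)) = u ∧
    gh6 (sig e0 e1 u) = sig e0 e1 (gh6 u) := by decide +kernel

theorem gd6_dA : ∀ n < 8, gd6 (dA n) = dA (mA n) ∧ gh6 (dA n) = dA (sA n) ∧ mA n < 8 ∧ sA n < 8 := by
  decide +kernel

theorem gd6_dG : ∀ n < 8, gd6 (dG n) = dG (mG n) ∧ gh6 (dG n) = dG (sG n) ∧ mG n < 8 ∧ sG n < 8 := by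
  decide +kernel

theorem dA_vals : dA 1 = e2 ∧ dA 2 = e0 ∧ dA 4 = e1 ∧ dG 1 = g2 ∧ dG 2 = g0 ∧ dG 4 = g1 ∧ dA 0 = 0 ∧ dG 0 = 0 := by
  decide +kernel

theorem dA_add : ∀ m < 8, ∀ n < 8, dA (m ^^^ n) = dA m + dA n ∧ dG (m ^^^ n) = dG m + dG n ∧
    pl6 (dA m) (dA n) = 0 ∧ pl6 (dG m) (dG n) = 0 := by decide +kernel

theorem dA_form : ∀ n < 8, q6 (dA n) = 0 ∧ q6 (dG n) = 0 := by decide +kernel

theorem dA_inj : ∀ m < 8, ∀ n < 8, (dA m = dA n → m = n) ∧ (dG m = dG n → m = n) := by decide +kernel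

/-- A vector orthogonal to the three-space lies in it. -/
theorem dA_perp : ∀ u : W6, (∀ n < 8, pl6 u (dA n) = 0) → ∃ n < 8, u = dA n := by decide +kernel

/-- A vector orthogonal to the opposite three-space lies in it. -/
theorem dG_perp : ∀ u : W6, (∀ n < 8, pl6 u (dG n) = 0) → ∃ n < 8, u = dG n := by decide +kernel

/-- The projection to the first space. -/
def pX (u : W6) : W6 := u + gd6 u + gd6 (gd6 u) + gd6 (gd6 (gd6 (gd6 u)))

/-- The projection to the opposite space. -/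
def pY (u : W6) : W6 := u + gd6 (gd6 (gd6 u)) + gd6 (gd6 (gd6 (gd6 (gd6 u)))) +
  gd6 (gd6 (gd6 (gd6 (gd6 (gd6 u)))))

theorem proj_facts : ∀ n < 8, pX (dA n) = dA n ∧ pY (dG n) = dG n ∧ pX (dG n) = 0 ∧ pY (dA n) = 0 := by
  decide +kernel

/-- The element of order seven on the whole space. -/
def gdF (x : Vec) : Vec := vmk (xc x) (yc x) (gd6 (pr x))

/-- The element of order three on the whole space. -/
def ghF (x : Vec) : Vec := vmk (xc x) (yc x) (gh6 (pr x))

theorem gdF_iter : ∀ x : Vec, gdF (gdF (gdF (gdF (gdF (gdF (gdF x)))))) = x := fun x => by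
  simp only [gdF, xc_vmk, yc_vmk, pr_vmk, (gd6_facts _).2.1, vmk_eta]

theorem exists_gd : ∃ T ∈ Om, (∀ x, act T x = gdF x) ∧ T ^ 7 = 1 := by
  obtain ⟨T, hT⟩ := exists_iso (AddMonoidHom.toZModLinearMap 2 (AddMonoidHom.mk' gdF fun x y => by
    simp only [gdF, xc_add, yc_add, pr_add, gd6_add, vmk_add])) fun x => by
      show qf (gdF x) = _
      rw [gdF, qf_vmk, (gd6_facts _).1]
      conv_rhs => rw [← vmk_eta x, qf_vmk]
  have h7 : T ^ 7 = 1 := iso_ext fun x => by
    simp only [pow_succ, pow_zero, one_mul, act_mul, act_one, hT]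
    exact gdF_iter x
  have h4 : T = T ^ 4 * T ^ 4 := by rw [← pow_add, show 4 + 4 = 1 + 7 from rfl, pow_add, h7, mul_one, pow_one]
  refine ⟨T, ?_, hT, h7⟩
  rw [h4]
  exact Subgroup.mul_self_mem_of_index_two om_index _

theorem exists_gh : ∃ T ∈ Om, ∀ x, act T x = ghF x := by
  refine exists_order_three (f := ghF) (fun x y => ?_) (fun x => ?_) fun x => ?_
  · simp only [ghF, xc_add, yc_add, pr_add, gh6_add, vmk_add]
  · rw [ghF, qf_vmk, (gh6_facts _).1]
    conv_rhs => rw [← vmk_eta x, qf_vmk]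
  · simp only [ghF, xc_vmk, yc_vmk, pr_vmk, (gh6_facts _).2.1, vmk_eta]

theorem gd_gh (x : Vec) : ghF (gdF x) = gdF (gdF (ghF x)) := by
  simp only [gdF, ghF, xc_vmk, yc_vmk, pr_vmk, (gd6_facts _).2.2]

theorem gd_fix : gdF w0 = w0 ∧ gdF f0 = f0 ∧ ghF w0 = w0 ∧ ghF f0 = f0 := by decide +kernel

end

end CfsgLib.Spor.CoOneGolay
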