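import Cfsg.Agent.Lib.Spor.CoOneGolay.Gens

/-!
# Isometries fixing a maximal totally singular subspace pointwise
-/

set_option autoImplicit false
set_option synthInstance.maxSize 4096
set_option maxRecDepth 100000

namespace CfsgLib.Spor.CoOneGolay

open Subgroup CfsgLib.Spor.CoOneClasses
open CfsgLib.Spor.CoOneType (Vec qf Iso8 Om act act_one act_mul act_add act_injective qf_act pol_act iso_ext two_cases
  qf_nd)

noncomputable section

/-- The pointwise stabilizer of the maximal subspace. -/
def Fix (k : Iso8) : Prop := act k w0 = w0 ∧ ∀ n < 8, act k (inW (dA n)) = inW (dA n)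

/-- The basis of the opposite subspace. -/
def fb (j : Fin 4) : Vec := ![f0, inW (dG 1), inW (dG 2), inW (dG 4)] j

/-- The basis of the subspace. -/
def wb (j : Fin 4) : Vec := ![w0, inW (dA 1), inW (dA 2), inW (dA 4)] j

theorem basis_sep : ∀ x : Vec, (∀ j, pl x (wb j) = 0) → (∀ j, pl x (fb j) = 0) → x = 0 := by decide +kernel

theorem in_W : ∀ x : Vec, (∀ j, pl x (wb j) = 0) → qf x = 0 := by decide +kernel

theorem decomp8 : ∀ u : W6, ∃ a < 8, ∃ b < 8, u = dA a + dG b := by decide +kernel

theorem fix_wb {k : Iso8} (hk : Fix k) : ∀ j, act k (wb j) = wb j := by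
  intro j
  fin_cases j
  · exact hk.1
  · exact hk.2 1 (by norm_num)
  · exact hk.2 2 (by norm_num)
  · exact hk.2 4 (by norm_num)

theorem fix_perp {k : Iso8} (hk : Fix k) (x : Vec) : ∀ j, pl (act k x + x) (wb j) = 0 := by
  intro j
  have h : pl (act k x) (act k (wb j)) = pl x (wb j) := pol_act k x (wb j)
  rw [fix_wb hk] at h
  rw [pl_add_left, h, CharTwo.add_self_eq_zero]

theorem fix_diag {k : Iso8} (hk : Fix k) (x : Vec) : pl (act k x + x) x = 0 := by
  have h0 := in_W _ (fix_perp hk x)
  rw [qf_add, qf_act, CharTwo.add_self_eq_zero, zero_add] at h0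
  have hxx : pl x x = 0 := by
    rw [show pl x x = qf (x + x) - qf x - qf x from rfl, CfsgLib.Spor.CoOneType.vec_add_self,
      CharTwo.sub_eq_add, CharTwo.sub_eq_add, show qf (0 : Vec) = 0 by decide +kernel, zero_add,
      CharTwo.add_self_eq_zero]
  rw [pl_add_left, h0, hxx, add_zero]

theorem fix_symm {k : Iso8} (hk : Fix k) (x y : Vec) : pl (act k x + x) y = pl (act k y + y) x := by
  have h1 := fix_diag hk (x + y)
  have hx := fix_diag hk x
  have hy := fix_diag hk y
  rw [act_add, show act k x + act k y + (x + y) = (act k x + x) + (act k y + y) by abel, pl_add_left, pl_add_right,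
    pl_add_right] at h1
  linear_combination h1 - hx - hy - (pl (act k y + y) x) * CharTwo.two_eq_zero (R := ZMod 2)

/-- The six parameters. -/
def fpar (f : Vec → Vec) (a b : Fin 4) : ZMod 2 := pl (f (fb a) + fb a) (fb b)

theorem fix_unique {k k' : Iso8} (hk : Fix k) (hk' : Fix k')
    (h : ∀ a b : Fin 4, a < b → fpar (act k) a b = fpar (act k') a b) : k = k' := by
  have hf : ∀ a, act k (fb a) = act k' (fb a) := by
    intro a
    refine add_eq_zero8.1 (basis_sep _ (fun j => ?_) fun b => ?_)
    · have h1 := fix_perp hk (fb a) j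
      have h2 := fix_perp hk' (fb a) j
      rw [pl_add_left] at h1 h2 ⊢
      linear_combination h1 + h2 - (pl (fb a) (wb j)) * CharTwo.two_eq_zero (R := ZMod 2)
    · rw [show act k (fb a) + act k' (fb a) = (act k (fb a) + fb a) + (act k' (fb a) + fb a) by
        rw [add_add_add_comm, CfsgLib.Spor.CoOneType.vec_add_self (fb a), add_zero], pl_add_left]
      rcases lt_trichotomy a b with e | rfl | e
      · have := h a b e
        simp only [fpar] at this
        rw [this, CharTwo.add_self_eq_zero]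
      · rw [fix_diag hk, fix_diag hk', add_zero]
      · have := h b a e
        simp only [fpar] at this
        rw [fix_symm hk, fix_symm hk', this, CharTwo.add_self_eq_zero]
  have hA : ∀ n < 8, act k (inW (dA n)) = act k' (inW (dA n)) := fun n hn => by rw [hk.2 n hn, hk'.2 n hn]
  have hG : ∀ n < 8, act k (inW (dG n)) = act k' (inW (dG n)) :=
    lin8 (fun m hm n hn => by
        rw [(dA_add m hm n hn).2.1, show inW (dG m + dG n) = inW (dG m) + inW (dG n) by simp [inW, vmk_add], act_add])
      (fun m hm n hn => by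
        rw [(dA_add m hm n hn).2.1, show inW (dG m + dG n) = inW (dG m) + inW (dG n) by simp [inW, vmk_add], act_add])
      (by rw [dA_vals.2.2.2.2.2.2.2, show inW (0 : W6) = (0 : Vec) by decide +kernel,
        CfsgLib.Spor.CoOneType.act_zero, CfsgLib.Spor.CoOneType.act_zero])
      (hf 1) (hf 2) (hf 3)
  refine iso_ext fun x => ?_
  obtain ⟨a, ha, b, hb, e⟩ := decomp8 (pr x)
  rw [decomp x, e, show inW (dA a + dG b) = inW (dA a) + inW (dG b) by simp [inW, vmk_add], act_add, act_add, act_add,
    act_add, act_add, act_add, act_smul, act_smul, act_smul, act_smul, hA a ha, hG b hb, hk.1, hk'.1]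
  rw [show act k f0 = act k' f0 from hf 0]

/-- The displacement of a root transformation. -/
def del (l d u : W6) : W6 := pl6 u l • d + pl6 u d • l

/-- The models of the third family in dimension six. -/
def tX6 (n : ℕ) (u : W6) : W6 :=
  u + zb n 0 • del (dA 2) (dA 4) u + zb n 1 • del (dA 4) (dA 3) u + zb n 2 • del (dA 3) (dA 6) u

/-- The models of the third family. -/
def tXf (n : ℕ) (x : Vec) : Vec := vmk (xc x) (yc x) (tX6 n (pr x))

/-- The model of a pair of parameters. -/
def fixMap (b x : ℕ) (w : Vec) : Vec := sieg (dA b) (tXf x w)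

theorem fpar_surj : ∀ c0 c1 c2 c3 c4 c5 : ZMod 2, ∃ b < 8, ∃ x < 8, fpar (fixMap b x) 0 1 = c0 ∧
    fpar (fixMap b x) 0 2 = c1 ∧ fpar (fixMap b x) 0 3 = c2 ∧ fpar (fixMap b x) 1 2 = c3 ∧
    fpar (fixMap b x) 1 3 = c4 ∧ fpar (fixMap b x) 2 3 = c5 := by decide +kernel

theorem pair_cases : ∀ a c : Fin 4, a < c →
    (a, c) = (0, 1) ∨ (a, c) = (0, 2) ∨ (a, c) = (0, 3) ∨ (a, c) = (1, 2) ∨ (a, c) = (1, 3) ∨ (a, c) = (2, 3) := by
  decide

theorem fixMap_fix : ∀ b < 8, ∀ x < 8, fixMap b x w0 = w0 ∧ ∀ n < 8, fixMap b x (inW (dA n)) = inW (dA n) := by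
  decide +kernel

/-- Every element of the pointwise stabilizer is one of the models. -/
theorem fix_cases {k : Iso8} (hk : Fix k) :
    ∃ b < 8, ∃ x < 8, ∀ k' : Iso8, (∀ w, act k' w = fixMap b x w) → k' = k := by
  obtain ⟨b, hb, x, hx, h1, h2, h3, h4, h5, h6⟩ := fpar_surj (fpar (act k) 0 1) (fpar (act k) 0 2) (fpar (act k) 0 3)
    (fpar (act k) 1 2) (fpar (act k) 1 3) (fpar (act k) 2 3)
  refine ⟨b, hb, x, hx, fun k' hk' => ?_⟩
  have e : act k' = fixMap b x := funext hk'
  obtain ⟨f1, f2⟩ := fixMap_fix b hb x hx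
  refine fix_unique ⟨by rw [hk', f1], fun n hn => by rw [hk', f2 n hn]⟩ hk fun a c hac => ?_
  rw [e]
  rcases pair_cases a c hac with h | h | h | h | h | h <;> simp only [Prod.mk.injEq] at h <;>
    obtain ⟨rfl, rfl⟩ := h
  exacts [h1, h2, h3, h4, h5, h6]

end

end CfsgLib.Spor.CoOneGolay
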