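import Cfsg.Agent.Lib.Spor.CoOneClasses.Distinct

/-!
# The two families of maximal totally singular subspaces: choosing the coordinates

Exchanging the last hyperbolic pair we may assume that the reference involution is given by the third basis vector.
-/

set_option autoImplicit false
set_option synthInstance.maxSize 4096

namespace CfsgLib.Spor.CoOneGolay

open Subgroup CfsgLib.Spor.CoOneClasses
open CfsgLib.Spor.CoOneType (Vec qf Iso8 Om Setup mem_cz act act_one act_mul act_add act_injective qf_act pol_act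
  iso_ext two_cases qf_nd)

noncomputable section

/-- The exchange of the last hyperbolic pair in dimension six. -/
def sw2 (u : W6) : W6 := mk6 (u (.inl 0)) (u (.inl 1)) (u (.inr 2)) (u (.inr 0)) (u (.inr 1)) (u (.inl 2))

/-- The exchange in dimension eight. -/
def flipFun (x : Vec) : Vec := vmk (xc x) (yc x) (sw2 (pr x))

theorem sw2_add (u u' : W6) : sw2 (u + u') = sw2 u + sw2 u' := by
  funext i
  rcases i with i | i <;> fin_cases i <;> rfl

theorem flipFun_add (x y : Vec) : flipFun (x + y) = flipFun x + flipFun y := by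
  simp only [flipFun, xc_add, yc_add, pr_add, sw2_add, vmk_add]

theorem sw2_facts : ∀ u : W6, q6 (sw2 u) = q6 u ∧ sw2 (sw2 u) = u ∧ pl6 (sw2 u) e0 = pl6 u e0 ∧
    pl6 (sw2 u) e1 = pl6 u e1 ∧ pl6 g2 (sw2 u) = pl6 e2 u ∧ (sw2 u = dd ↔ u = dd) ∧
    sw2 (sig e0 e1 u) = sig e0 e1 (sw2 u) := by decide +kernel

theorem flip_facts : sw2 0 = 0 ∧ flipFun w0 = w0 ∧ flipFun f0 = f0 ∧ flipFun (inW e0) = inW e0 ∧
    flipFun (inW e1) = inW e1 := by decide +kernel

theorem qf_flip (x : Vec) : qf (flipFun x) = qf x := by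
  rw [flipFun, qf_vmk, (sw2_facts _).1]
  conv_rhs => rw [← vmk_eta x, qf_vmk]

theorem flip_flip (x : Vec) : flipFun (flipFun x) = x := by
  rw [flipFun, flipFun, xc_vmk, yc_vmk, pr_vmk, (sw2_facts _).2.1, vmk_eta]

theorem exists_flip : ∃ T : Iso8, ∀ x, act T x = flipFun x :=
  exists_iso (AddMonoidHom.toZModLinearMap 2 (AddMonoidHom.mk' flipFun flipFun_add)) qf_flip

/-- The reference involution is given by the third basis vector. -/
structure Frame {G : Type*} [Group G] [Finite G] (z : G) (Q : Subgroup G) (v : G → Vec) (ρ : G → Iso8) (g y : G) :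
    Prop where
  pt' : Pt z Q v ρ g
  quad : pt'.Quad y
  form : ∀ r ∈ pt'.R', pl6 (pt'.phi r) e0 = 0 → pl6 (pt'.phi r) e1 = 0 →
    y * r * y⁻¹ = r * pt'.zi (pl6 e2 (pt'.phi r)) 0

variable {G : Type*} [Group G] [Finite G] {z : G} {Q : Subgroup G} {v : G → Vec} {ρ : G → Iso8}

/-- The setup in exchanged coordinates. -/
theorem flip_setup (S : Setup z Q v ρ) {T : Iso8} (hT : ∀ x, act T x = flipFun x) :
    Setup z Q (fun a => flipFun (v a)) (fun c => T * ρ c * T⁻¹) := by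
  haveI : Om.Normal := commutator_normal _ _
  have hinv : T⁻¹ = T := inv_eq_of_mul_eq_one_right (iso_ext fun x => by
    rw [act_mul, hT, hT, act_one, flip_flip])
  have hpl : ∀ x y, pl (flipFun x) (flipFun y) = pl x y := fun x y => by
    rw [← hT, ← hT]; exact pol_act T x y
  have h0 : flipFun 0 = 0 := by
    rw [← hT]; exact CfsgLib.Spor.CoOneType.act_zero T
  refine ⟨S.core, S.card, fun a ha b hb => ?_, fun a ha => ?_, fun w => ?_, fun a ha => ?_, fun a ha b hb => ?_,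
    fun a ha b hb => ?_, fun c hc a ha => ?_, fun c hc => ?_, fun c hc => ?_, fun h hh => ?_⟩
  · rw [S.v_mul a ha b hb, flipFun_add]
  · rw [← S.v_ker a ha]
    exact ⟨fun h => by rw [← flip_flip (v a), h, h0], fun h => by rw [h, h0]⟩
  · obtain ⟨a, ha, e⟩ := S.v_surj (flipFun w)
    exact ⟨a, ha, by rw [e, flip_flip]⟩
  · rw [qf_flip]; exact S.v_sq a ha
  · show pl (flipFun (v a)) (flipFun (v b)) = 0 ↔ _
    rw [hpl]; exact S.v_comm a ha b hb
  · rw [S.ρ_mul a ha b hb]; group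
  · rw [hinv, act_mul, act_mul, hT (flipFun _), flip_flip, ← S.ρ_act c hc a ha, hT]
  · rw [← S.ρ_ker c hc]
    constructor
    · intro h
      calc ρ c = T⁻¹ * (T * ρ c * T⁻¹) * T := by group
        _ = 1 := by rw [h]; group
    · intro h; rw [h]; group
  · exact Normal.conj_mem inferInstance _ (S.ρ_mem c hc) T
  · obtain ⟨c, hc, e⟩ := S.ρ_surj (T⁻¹ * h * T) (by
      have := Normal.conj_mem (inferInstance : Om.Normal) _ hh T⁻¹
      rwa [inv_inv] at this)
    exact ⟨c, hc, by rw [e]; group⟩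

/-- The point in exchanged coordinates. -/
theorem flip_pt {g : G} (F : Pt z Q v ρ g) {T : Iso8} (hT : ∀ x, act T x = flipFun x) :
    Pt z Q (fun a => flipFun (v a)) (fun c => T * ρ c * T⁻¹) g :=
  ⟨flip_setup F.setup hT, F.mem, by show flipFun (v _) = _; rw [F.val, flip_facts.2.1]⟩

theorem flip_frame {g y : G} (F : Pt z Q v ρ g) (Y : F.Quad y)
    (hf : ∀ r ∈ F.R', pl6 (F.phi r) e0 = 0 → pl6 (F.phi r) e1 = 0 → y * r * y⁻¹ = r * F.zi (pl6 g2 (F.phi r)) 0) :
    ∃ v' ρ', Frame z Q v' ρ' g y := by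
  obtain ⟨T, hT⟩ := exists_flip
  have hinv : T⁻¹ = T := inv_eq_of_mul_eq_one_right (iso_ext fun x => by
    rw [act_mul, hT, hT, act_one, flip_flip])
  set F' := flip_pt F hT
  have hzi : ∀ s t, F'.zi s t = F.zi s t := fun _ _ => rfl
  have hphi : ∀ r, F'.phi r = sw2 (F.phi r) := fun r => by
    show pr (act (T * ρ r * T⁻¹) f0) = _
    rw [hinv, act_mul, act_mul, hT, hT f0, flip_facts.2.2.1, flipFun, pr_vmk]; rfl
  have hpl : ∀ a w, flipFun w = w → pl (flipFun (v a)) w = pl (v a) w := fun a w hw => by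
    conv_lhs => rw [← hw, ← hT, ← hT]
    exact pol_act T _ _
  refine ⟨_, _, F', ⟨Y.cz, Y.ci, Y.sq, fun x => ?_, fun q hq h1 h2 => ?_, Y.conjz, fun r hr hd => ?_⟩,
    fun r hr h0 h1 => ?_⟩
  · show act (T * ρ y * T⁻¹) x = tAf x
    rw [hinv, act_mul, act_mul, hT x, Y.rho, hT, flipFun, flipFun, tAf, tAf, xc_vmk, xc_vmk, yc_vmk, yc_vmk,
      pr_vmk, pr_vmk, (sw2_facts (sw2 (pr x))).2.2.2.2.2.2, (sw2_facts _).2.1]
  · exact Y.comm q hq ((hpl q _ flip_facts.2.2.2.1).symm.trans h1) ((hpl q _ flip_facts.2.2.2.2).symm.trans h2)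
  · rw [hzi]; exact Y.alpha r hr ((sw2_facts _).2.2.2.2.2.1.1 (by rw [← hphi]; exact hd))
  · rw [hphi, (sw2_facts _).2.2.1] at h0
    rw [hphi, (sw2_facts _).2.2.2.1] at h1
    rw [hzi, hf r hr h0 h1, hphi, ← (sw2_facts (sw2 (F.phi r))).2.2.2.2.1, (sw2_facts _).2.1]

/-- A frame exists. -/
theorem exists_frame (S : Setup z Q v ρ) {k : G} (hQ : k * z * k⁻¹ ∈ Q) (hne : k * z * k⁻¹ ≠ z) :
    ∃ v' ρ' g y, Frame z Q v' ρ' g y := by
  obtain ⟨g, F⟩ := exists_pt S hQ hne
  obtain ⟨y, Y⟩ := F.quad_exists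
  obtain ⟨e, he, hf⟩ := F.quad_form Y
  rcases List.mem_cons.1 he with rfl | he
  · exact ⟨v, ρ, g, y, F, Y, hf⟩
  · obtain rfl := List.mem_singleton.1 he
    obtain ⟨v', ρ', h⟩ := flip_frame F Y hf
    exact ⟨v', ρ', g, y, h⟩

end

end CfsgLib.Spor.CoOneGolay
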