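import Cfsg.Agent.Lib.Spor.CoOneGolay.Triple

/-!
# The generators in the two parts
-/

set_option autoImplicit false
set_option synthInstance.maxSize 4096
set_option maxRecDepth 100000

namespace CfsgLib.Spor.CoOneGolay

open Subgroup CfsgLib.Spor.CoOneClasses
open CfsgLib.Spor.CoOneType (Vec qf Iso8 Om Setup mem_cz conj_eq_iff_comm act act_one act_mul act_add act_injective
  qf_act pol_act iso_ext two_cases qf_nd)

noncomputable section

theorem lin8 {α : Type*} [AddCommMonoid α] {f D : ℕ → α} (hf : ∀ m < 8, ∀ n < 8, f (m ^^^ n) = f m + f n)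
    (hD : ∀ m < 8, ∀ n < 8, D (m ^^^ n) = D m + D n) (h0 : f 0 = D 0) (h1 : f 1 = D 1) (h2 : f 2 = D 2)
    (h4 : f 4 = D 4) : ∀ n < 8, f n = D n := by
  have h3 : f (1 ^^^ 2) = D (1 ^^^ 2) := by
    rw [hf _ (by norm_num) _ (by norm_num), hD _ (by norm_num) _ (by norm_num), h1, h2]
  intro n hn
  interval_cases n
  · exact h0
  · exact h1
  · exact h2
  · exact h3
  · exact h4
  · show f (1 ^^^ 4) = D (1 ^^^ 4)
    rw [hf _ (by norm_num) _ (by norm_num), hD _ (by norm_num) _ (by norm_num), h1, h4]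
  · show f (2 ^^^ 4) = D (2 ^^^ 4)
    rw [hf _ (by norm_num) _ (by norm_num), hD _ (by norm_num) _ (by norm_num), h2, h4]
  · show f ((1 ^^^ 2) ^^^ 4) = D ((1 ^^^ 2) ^^^ 4)
    rw [hf _ (show 1 ^^^ 2 < 8 by decide) _ (by norm_num), hD _ (show 1 ^^^ 2 < 8 by decide) _ (by norm_num), h3, h4]

theorem inv_zero_raw : ∀ M ∈ [mA, mG, mX], ∀ a b c : ZMod 2,
    (∀ n < 8, ((if (M n).testBit 0 then a else 0) + (if (M n).testBit 1 then b else 0) +
      (if (M n).testBit 2 then c else 0)) = ((if n.testBit 0 then a else 0) + (if n.testBit 1 then b else 0) +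
      (if n.testBit 2 then c else 0))) → a = 0 ∧ b = 0 ∧ c = 0 := by decide +kernel

theorem table_lt : ∀ M ∈ [mA, mG, mX, sA, sG, sX], ∀ n < 8, M n < 8 := by decide +kernel

/-- An additive function invariant under the element of order seven vanishes. -/
theorem inv_zero {M : ℕ → ℕ} (hM : M ∈ [mA, mG, mX]) {f : ℕ → ZMod 2}
    (hf : ∀ m < 8, ∀ n < 8, f (m ^^^ n) = f m + f n) (hinv : ∀ n < 8, f (M n) = f n) : ∀ n < 8, f n = 0 := by
  have h0 : f 0 = 0 := by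
    have := hf 0 (by norm_num) 0 (by norm_num)
    rwa [Nat.xor_self, left_eq_add] at this
  have hlin := lin8 (f := f) (D := fun n => (if n.testBit 0 then f 1 else 0) + (if n.testBit 1 then f 2 else 0) +
      (if n.testBit 2 then f 4 else 0)) hf (fun m _ n _ => by
    have hx : ∀ (p q : Bool) (a : ZMod 2),
        (if Bool.xor p q then a else 0) = (if p then a else 0) + (if q then a else 0) := by decide
    simp only [Nat.testBit_xor, hx]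
    abel)
    (by simp [h0]) (by simp [Nat.testBit]) (by simp [Nat.testBit]) (by simp [Nat.testBit])
  have ht := table_lt M (by simp only [List.mem_cons] at hM ⊢; tauto)
  obtain ⟨ha, hb, hc⟩ := inv_zero_raw M hM (f 1) (f 2) (f 4) fun n hn => by
    rw [← hlin n hn, ← hlin _ (ht n hn)]; exact hinv n hn
  intro n hn
  rw [hlin n hn, ha, hb, hc]
  simp

theorem pl6_gd : ∀ (u : W6) (n : ℕ), n < 8 →
    (pl6 u (dA n) = 0 → pl6 (gd6 u) (dA (mA n)) = 0) ∧ (pl6 u (dG n) = 0 → pl6 (gd6 u) (dG (mG n)) = 0) := by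
  intro u n hn
  have key : ∀ a b : W6, pl6 (gd6 a) (gd6 b) = pl6 a b := fun a b => by
    simp only [pl6, QuadraticMap.polar, ← gd6_add, (gd6_facts _).1]
  exact ⟨fun h => by rw [← (gd6_dA n hn).1, key, h], fun h => by rw [← (gd6_dG n hn).1, key, h]⟩

theorem table_surj : ∀ n < 8, (∃ m < 8, mA m = n) ∧ ∃ m < 8, mG m = n := by decide +kernel

theorem gd_perp {u : W6} : ((∀ n < 8, pl6 u (dA n) = 0) → ∀ n < 8, pl6 (gd6 u) (dA n) = 0) ∧
    ((∀ n < 8, pl6 u (dG n) = 0) → ∀ n < 8, pl6 (gd6 u) (dG n) = 0) := by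
  refine ⟨fun h n hn => ?_, fun h n hn => ?_⟩
  · obtain ⟨m, hm, rfl⟩ := (table_surj n hn).1
    exact (pl6_gd u m hm).1 (h m hm)
  · obtain ⟨m, hm, rfl⟩ := (table_surj n hn).2
    exact (pl6_gd u m hm).2 (h m hm)

variable {G : Type*} [Group G] [Finite G] {z : G} {Q : Subgroup G} {v : G → Vec} {ρ : G → Iso8} {g y d h s : G}

namespace Sev

variable (K : Sev z Q v ρ g y d h s)
include K

theorem act_inv {c : G} (hc : c ∈ centralizer ({z} : Set G)) {f : Vec → Vec} (hf : ∀ x, act (ρ c) x = f x)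
    (h0 : f f0 = f0) : act (ρ c)⁻¹ f0 = f0 := by
  refine act_injective (ρ c) ?_
  rw [← act_mul, mul_inv_cancel, act_one, hf, h0]

theorem phi_of {c r : G} (hc : c ∈ centralizer ({z} : Set G)) {f : W6 → W6}
    (hf : ∀ x, act (ρ c) x = vmk (xc x) (yc x) (f (pr x))) (h0 : f 0 = 0) (hr : r ∈ K.pt'.R') :
    K.pt'.phi (c * r * c⁻¹) = f (K.pt'.phi r) := by
  have hi := K.act_inv hc hf (by rw [xc_f0, yc_f0, pr_f0, h0]; rfl)
  show pr (act (ρ (c * r * c⁻¹)) f0) = _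
  rw [K.pt'.setup.ρ_mul _ (mul_mem hc hr.2) _ (inv_mem hc), K.pt'.setup.ρ_mul c hc r hr.2, K.pt'.setup.ρ_inv hc,
    act_mul, act_mul, hi, K.pt'.rho_R' hr, hf, pr_vmk, sieg_f0]

theorem gd0 : gd6 0 = 0 ∧ gh6 0 = 0 := by decide +kernel

theorem pr_d {q : G} (hq : q ∈ Q) : pr (v (d * q * d⁻¹)) = gd6 (pr (v q)) := by
  rw [K.pt'.setup.ρ_act d K.d_cz q hq, K.d_act, gdF, pr_vmk]

theorem pr_h {q : G} (hq : q ∈ Q) : pr (v (h * q * h⁻¹)) = gh6 (pr (v q)) := by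
  rw [K.pt'.setup.ρ_act h K.h_cz q hq, K.h_act, ghF, pr_vmk]

theorem xc_d {q : G} (hq : q ∈ Q) : xc (v (d * q * d⁻¹)) = xc (v q) := by
  rw [K.pt'.setup.ρ_act d K.d_cz q hq, K.d_act, gdF, xc_vmk]

theorem phi_d {r : G} (hr : r ∈ K.pt'.R') : K.pt'.phi (d * r * d⁻¹) = gd6 (K.pt'.phi r) :=
  K.phi_of K.d_cz K.d_act K.gd0.1 hr

theorem phi_h {r : G} (hr : r ∈ K.pt'.R') : K.pt'.phi (h * r * h⁻¹) = gh6 (K.pt'.phi r) :=
  K.phi_of K.h_cz K.h_act K.gd0.2 hr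

theorem zi_fix (a b : ZMod 2) : d * K.pt'.zi a b = K.pt'.zi a b * d ∧ h * K.pt'.zi a b = K.pt'.zi a b * h :=
  ⟨K.pt'.zi_comm K.d_cz K.d_ci a b, K.pt'.zi_comm K.h_cz K.h_ci a b⟩

theorem isoR_d {D : ℕ → W6} (hD : D = dA ∨ D = dG) : ∀ x ∈ isoR K.pt' D, d * x * d⁻¹ ∈ isoR K.pt' D := by
  intro x hx
  refine ⟨K.pt'.norm_R K.d_cz K.d_ci hx.1, fun n hn => ?_⟩
  rw [K.pr_d hx.1.1]
  rcases hD with rfl | rfl
  · exact gd_perp.1 hx.2 n hn
  · exact gd_perp.2 hx.2 n hn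

theorem isoR'_d {D : ℕ → W6} (hD : D = dA ∨ D = dG) : ∀ x ∈ isoR' K.pt' D, d * x * d⁻¹ ∈ isoR' K.pt' D := by
  intro x hx
  refine ⟨K.pt'.norm_R' K.d_cz K.d_ci hx.1, fun n hn => ?_⟩
  rw [K.phi_d hx.1]
  rcases hD with rfl | rfl
  · exact gd_perp.1 hx.2 n hn
  · exact gd_perp.2 hx.2 n hn

/-- A parameter on a subgroup, compatible with the two elements. -/
structure Param (_K : Sev z Q v ρ g y d h s) (H : Subgroup G) (π : G → W6) : Prop where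
  mul : ∀ a ∈ H, ∀ b ∈ H, π (a * b) = π a + π b
  one : π 1 = 0
  d_π : ∀ a ∈ H, π (d * a * d⁻¹) = gd6 (π a)
  ker : ∀ a ∈ H, π a = 0 → ∃ i j, a = _K.pt'.zi i j
  d_mem : ∀ a ∈ H, d * a * d⁻¹ ∈ H
  sq : ∀ a ∈ H, a * a = 1
  comm : ∀ a ∈ H, ∀ b ∈ H, a * b = b * a

theorem Param.cj_π {H : Subgroup G} {π : G → W6} (P : K.Param H π) {a : G} (ha : a ∈ H) :
    ∀ i, π (cj d i a) = gd6^[i] (π a)
  | 0 => by rw [cj_zero]; rfl
  | i + 1 => by
    rw [show i + 1 = 1 + i by omega, ← cj_cj, show cj d 1 (cj d i a) = d * cj d i a * d⁻¹ by simp [cj],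
      P.d_π _ (cj_mem P.d_mem ha i), P.cj_π ha i, add_comm, Function.iterate_succ_apply']

theorem Param.proj {H : Subgroup G} {π : G → W6} (P : K.Param H π) {a : G} (ha : a ∈ H) :
    π (px d a) = pX (π a) ∧ π (py d a) = pY (π a) := by
  have m := fun i => cj_mem P.d_mem ha i
  constructor
  · rw [px, P.mul _ (mul_mem (mul_mem ha (m 1)) (m 2)) _ (m 4), P.mul _ (mul_mem ha (m 1)) _ (m 2),
      P.mul _ ha _ (m 1), P.cj_π K ha, P.cj_π K ha, P.cj_π K ha]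
    rfl
  · rw [py, P.mul _ (mul_mem (mul_mem ha (m 3)) (m 5)) _ (m 6), P.mul _ (mul_mem ha (m 3)) _ (m 5),
      P.mul _ ha _ (m 3), P.cj_π K ha, P.cj_π K ha, P.cj_π K ha]
    rfl

theorem paramR {D : ℕ → W6} (hD : D = dA ∨ D = dG) : K.Param (isoR K.pt' D) fun q => pr (v q) := by
  have hT : Tot D := by
    rcases hD with rfl | rfl
    · exact tot_A
    · exact tot_G
  exact ⟨fun a ha b hb => K.pt'.pr_mul ha.1.1 hb.1.1, by rw [K.pt'.setup.v_one]; decide +kernel,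
    fun a ha => K.pr_d ha.1.1, fun a ha e => K.pt'.zi_of_zero ha.1 e, K.isoR_d hD, (isoR_props _ hT).1,
    (isoR_props _ hT).2⟩

theorem paramR' {D : ℕ → W6} (hD : D = dA ∨ D = dG) : K.Param (isoR' K.pt' D) K.pt'.phi := by
  have hT : Tot D := by
    rcases hD with rfl | rfl
    · exact tot_A
    · exact tot_G
  exact ⟨fun a ha b hb => K.pt'.phi_mul ha.1 hb.1, phi_one _, fun a ha => K.phi_d ha.1,
    fun a ha e => K.pt'.phi_zero ha.1 e, K.isoR'_d hD, (isoR'_props _ hT).1, (isoR'_props _ hT).2⟩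

/-- A family with given parameters. -/
theorem exists_fam {H : Subgroup G} {π : G → W6} (P : K.Param H π) {D : ℕ → W6} (hD : D = dA ∨ D = dG)
    {a₀ : G} (ha₀ : a₀ ∈ H) (hπ : π a₀ = D 1) (hπh : π (h * a₀ * h⁻¹) = D 1) (hhm : h * a₀ * h⁻¹ ∈ H) :
    ∃ q, Trip H d h (if D 1 = dA 1 then mA else mG) (if D 1 = dA 1 then sA else sG) q ∧ ∀ n < 8, π (q n) = D n := by
  obtain ⟨i, j, e⟩ := P.ker (a₀ * (h * a₀ * h⁻¹)) (mul_mem ha₀ hhm) (by
    rw [P.mul _ ha₀ _ hhm, hπ, hπh, w6_add_self])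
  have e' : h * a₀ * h⁻¹ = a₀ * K.pt'.zi i j := by rw [← e, ← mul_assoc, P.sq _ ha₀, one_mul]
  have hz : K.pt'.zi i j ∈ H := e ▸ mul_mem ha₀ hhm
  have hfix := proj_fixed d (K.zi_fix i j).1 (P.sq _ hz)
  rcases hD with rfl | rfl
  · rw [if_pos rfl, if_pos rfl]
    set a := px d a₀
    have ha : a ∈ H := px_mem P.d_mem ha₀
    have hh : h * a * h⁻¹ = a := by
      rw [px_h P.comm K.d7 P.d_mem K.h_d ha₀ hhm, e', px_mul P.comm P.d_mem ha₀ hz, hfix.1, mul_one]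
    have T := trip_A P.sq P.comm K.d7 P.d_mem K.h_d ha (px_rel P.sq P.comm K.d7 P.d_mem ha₀) hh
    obtain ⟨-, s1, s2, s4⟩ := sp_basis a (cj d 1 a) (cj d 2 a)
    have hπa : π a = dA 1 := by rw [(P.proj K ha₀).1, hπ, (proj_facts 1 (by norm_num)).1]
    refine ⟨_, T, lin8 (fun m hm n hn => by rw [T.xor m hm n hn, P.mul _ (T.mem m hm) _ (T.mem n hn)])
      (fun m hm n hn => (dA_add m hm n hn).1) (by rw [T.one, P.one, dA_vals.2.2.2.2.2.2.1]) (by rw [s1, hπa]) ?_ ?_⟩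
    · rw [s2, P.cj_π K ha, hπa]; decide +kernel
    · rw [s4, P.cj_π K ha, hπa]; decide +kernel
  · rw [if_neg (by decide +kernel), if_neg (by decide +kernel)]
    set a := py d a₀
    have ha : a ∈ H := py_mem P.d_mem ha₀
    have hh : h * a * h⁻¹ = a := by
      rw [py_h P.comm K.d7 P.d_mem K.h_d ha₀ hhm, e', py_mul P.comm P.d_mem ha₀ hz, hfix.2, mul_one]
    have T := trip_G P.sq P.comm K.d7 P.d_mem K.h_d ha (py_rel P.sq P.comm K.d7 P.d_mem ha₀) hh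
    obtain ⟨-, s1, s2, s4⟩ := sp_basis a (cj d 1 a * a) (cj d 2 a * cj d 1 a)
    have hπa : π a = dG 1 := by rw [(P.proj K ha₀).2, hπ, (proj_facts 1 (by norm_num)).2.1]
    refine ⟨_, T, lin8 (fun m hm n hn => by rw [T.xor m hm n hn, P.mul _ (T.mem m hm) _ (T.mem n hn)])
      (fun m hm n hn => (dA_add m hm n hn).2.1) (by rw [T.one, P.one, dA_vals.2.2.2.2.2.2.2]) (by rw [s1, hπa]) ?_ ?_⟩
    · rw [s2, P.mul _ (cj_mem P.d_mem ha 1) _ ha, P.cj_π K ha, hπa]; decide +kernel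
    · rw [s4, P.mul _ (cj_mem P.d_mem ha 2) _ (cj_mem P.d_mem ha 1), P.cj_π K ha, P.cj_π K ha, hπa]
      decide +kernel

theorem gh_one : gh6 (dA 1) = dA 1 ∧ gh6 (dG 1) = dG 1 ∧ dG 1 ≠ dA 1 := by decide +kernel

/-- The four families. -/
theorem exists_gens : ∃ qe qg re rg : ℕ → G,
    (Trip (isoR K.pt' dA) d h mA sA qe ∧ ∀ n < 8, pr (v (qe n)) = dA n) ∧
    (Trip (isoR K.pt' dG) d h mG sG qg ∧ ∀ n < 8, pr (v (qg n)) = dG n) ∧
    (Trip (isoR' K.pt' dA) d h mA sA re ∧ ∀ n < 8, K.pt'.phi (re n) = dA n) ∧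
    (Trip (isoR' K.pt' dG) d h mG sG rg ∧ ∀ n < 8, K.pt'.phi (rg n) = dG n) := by
  obtain ⟨a, ha, ea⟩ := K.pt'.R_surj (dA 1)
  obtain ⟨b, hb, eb⟩ := K.pt'.R_surj (dG 1)
  obtain ⟨c, hc, ec⟩ := K.pt'.phi_surj (dA 1)
  obtain ⟨e, he, ee⟩ := K.pt'.phi_surj (dG 1)
  have ha' : a ∈ isoR K.pt' dA := ⟨ha, fun n hn => by rw [ea, tot_A.pol 1 (by norm_num) n hn]⟩
  have hb' : b ∈ isoR K.pt' dG := ⟨hb, fun n hn => by rw [eb, tot_G.pol 1 (by norm_num) n hn]⟩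
  have hc' : c ∈ isoR' K.pt' dA := ⟨hc, fun n hn => by rw [ec, tot_A.pol 1 (by norm_num) n hn]⟩
  have he' : e ∈ isoR' K.pt' dG := ⟨he, fun n hn => by rw [ee, tot_G.pol 1 (by norm_num) n hn]⟩
  have va : pr (v (h * a * h⁻¹)) = dA 1 := by rw [K.pr_h ha.1, ea, K.gh_one.1]
  have vb : pr (v (h * b * h⁻¹)) = dG 1 := by rw [K.pr_h hb.1, eb, K.gh_one.2.1]
  have vc : K.pt'.phi (h * c * h⁻¹) = dA 1 := by rw [K.phi_h hc, ec, K.gh_one.1]
  have ve : K.pt'.phi (h * e * h⁻¹) = dG 1 := by rw [K.phi_h he, ee, K.gh_one.2.1]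
  obtain ⟨q1, h1⟩ := K.exists_fam (K.paramR (Or.inl rfl)) (Or.inl rfl) ha' ea va
    ⟨K.pt'.norm_R K.h_cz K.h_ci ha, fun n hn => by rw [va, tot_A.pol 1 (by norm_num) n hn]⟩
  obtain ⟨q2, h2⟩ := K.exists_fam (K.paramR (Or.inr rfl)) (Or.inr rfl) hb' eb vb
    ⟨K.pt'.norm_R K.h_cz K.h_ci hb, fun n hn => by rw [vb, tot_G.pol 1 (by norm_num) n hn]⟩
  obtain ⟨q3, h3⟩ := K.exists_fam (K.paramR' (Or.inl rfl)) (Or.inl rfl) hc' ec vc
    ⟨K.pt'.norm_R' K.h_cz K.h_ci hc, fun n hn => by rw [vc, tot_A.pol 1 (by norm_num) n hn]⟩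
  obtain ⟨q4, h4⟩ := K.exists_fam (K.paramR' (Or.inr rfl)) (Or.inr rfl) he' ee ve
    ⟨K.pt'.norm_R' K.h_cz K.h_ci he, fun n hn => by rw [ve, tot_G.pol 1 (by norm_num) n hn]⟩
  rw [if_pos rfl, if_pos rfl] at h1 h3
  rw [if_neg K.gh_one.2.2, if_neg K.gh_one.2.2] at h2 h4
  exact ⟨q1, q2, q3, q4, h1, h2, h3, h4⟩

end Sev

/-- The four families and their parameters. -/
structure Gens {G : Type*} [Group G] [Finite G] (z : G) (Q : Subgroup G) (v : G → Vec) (ρ : G → Iso8)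
    (g y d h s : G) (qe qg re rg : ℕ → G) : Prop where
  sev : Sev z Q v ρ g y d h s
  qe_trip : Trip (isoR sev.pt' dA) d h mA sA qe
  qe_pr : ∀ n < 8, pr (v (qe n)) = dA n
  qg_trip : Trip (isoR sev.pt' dG) d h mG sG qg
  qg_pr : ∀ n < 8, pr (v (qg n)) = dG n
  re_trip : Trip (isoR' sev.pt' dA) d h mA sA re
  re_phi : ∀ n < 8, sev.pt'.phi (re n) = dA n
  rg_trip : Trip (isoR' sev.pt' dG) d h mG sG rg
  rg_phi : ∀ n < 8, sev.pt'.phi (rg n) = dG n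

theorem exists_gens_of {g y : G} (fr : Frame z Q v ρ g y) : ∃ d h s qe qg re rg, Gens z Q v ρ g y d h s qe qg re rg := by
  obtain ⟨d, h, s, K⟩ := exists_sev fr
  obtain ⟨qe, qg, re, rg, h1, h2, h3, h4⟩ := K.exists_gens
  exact ⟨d, h, s, qe, qg, re, rg, K, h1.1, h1.2, h2.1, h2.2, h3.1, h3.2, h4.1, h4.2⟩

end

end CfsgLib.Spor.CoOneGolay
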