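import Cfsg.Agent.Lib.Spor.CoOneGolay.Data
import Cfsg.Agent.Lib.Spor.GolayWeights
import Cfsg.Agent.Lib.Spor.Leech.Span
import Cfsg.Agent.Lib.Spor.M12

/-!
# The coordinates as words of the binary code modulo the all-one word

The eleven images are twenty-four bit words; a number is in the chosen set exactly when its word has weight eight
or sixteen.
-/

set_option autoImplicit false
set_option maxRecDepth 100000
set_option Elab.async false

namespace CfsgLib.Spor.CoOneGolay

open Cfsg CfsgLib.Spor Cfsg.Agent.Lib.Spor.GolayWeights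
open scoped Pointwise

noncomputable section

/-- The images of the eleven bits. -/
def imgs : List ℕ :=
  [5279, 1009728, 1256224, 2220640, 4645632, 1053483, 2130606, 4229001, 7658692, 5709091, 3226222]

/-- The word of a number. -/
def imgM (n : ℕ) : ℕ :=
  (List.range 11).foldr (fun i acc => (if n.testBit i then imgs.getD i 0 else 0) ^^^ acc) 0

/-- The all-one word or nothing. -/
def bfull (b : Bool) : ℕ := if b then fullMask else 0

theorem imgM_table : ∀ n < 2048, codeTest (imgM n) = true ∧ imgM n < 2 ^ 24 ∧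
    ((n ≠ 0 ∧ cand 2 n = true ∧ (pop 24 (imgM n) = 8 ∨ pop 24 (imgM n) = 16)) ∨
      (n ≠ 0 ∧ cand 2 n = false ∧ pop 24 (imgM n) = 12) ∨ (n = 0 ∧ cand 2 n = false ∧ imgM n = 0)) := by
  decide +kernel

theorem imgM_xor : ∀ m n : ℕ, imgM (m ^^^ n) = imgM m ^^^ imgM n := by
  intro m n
  unfold imgM
  generalize List.range 11 = l
  induction l with
  | nil => simp
  | cons i l ih =>
    rw [List.foldr_cons, List.foldr_cons, List.foldr_cons, ih, Nat.testBit_xor]
    generalize imgs.getD i 0 = a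
    generalize (List.foldr _ 0 l : ℕ) = A
    generalize (List.foldr _ 0 l : ℕ) = B
    cases m.testBit i <;> cases n.testBit i
    · simp
    · simp [Nat.xor_left_comm]
    · simp [Nat.xor_assoc]
    · simp [Nat.xor_assoc, Nat.xor_left_comm A a]

theorem bfull_xor (a b : Bool) : bfull (Bool.xor a b) = bfull a ^^^ bfull b := by
  cases a <;> cases b <;> simp [bfull]

theorem bfull_lt (b : Bool) : bfull b < 2 ^ 24 := by cases b <;> simp [bfull, fullMask]

theorem imgM_zero : imgM 0 = 0 := by decide +kernel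

theorem bfull_pop : ∀ b, pop 24 (bfull b) ≠ 8 ∧ pop 24 (bfull b) ≠ 16 ∧ pop 24 (bfull b) ≠ 12 ∧ (bfull b = 0 → b = false) := by
  decide +kernel

theorem word_eq_zero {m : ℕ} (hm : m < 2 ^ 24) (h : word m = 0) : m = 0 :=
  eq_of_pts_eq hm (by norm_num) (by rw [← support₂_word, ← support₂_word, h, word_zero])

theorem word_inj {m n : ℕ} (hm : m < 2 ^ 24) (hn : n < 2 ^ 24) (h : word m = word n) : m = n :=
  eq_of_pts_eq hm hn (by rw [← support₂_word, ← support₂_word, h])

/-- The code word of a pair. -/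
def cw (p : Fin 2048 × Bool) : ↥golayCode :=
  ⟨word (imgM p.1 ^^^ bfull p.2), by
    rw [word_xor]
    refine add_mem ((word_mem_golayCode_iff _).2 (imgM_table _ p.1.2).1) ?_
    cases p.2
    · simp [bfull, word_zero]
    · rw [bfull, if_pos rfl, word_fullMask]; exact one_mem_golayCode⟩

theorem xor_lt (m n : Fin 2048) : (m : ℕ) ^^^ (n : ℕ) < 2048 := Nat.xor_lt_two_pow (n := 11) m.2 n.2

theorem cw_inj : Function.Injective cw := by
  rintro ⟨m, a⟩ ⟨n, b⟩ e
  have e' : imgM m ^^^ bfull a = imgM n ^^^ bfull b :=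
    word_inj (Nat.xor_lt_two_pow (imgM_table _ m.2).2.1 (bfull_lt a))
      (Nat.xor_lt_two_pow (imgM_table _ n.2).2.1 (bfull_lt b)) (congrArg Subtype.val e)
  have e2 : imgM ((m : ℕ) ^^^ (n : ℕ)) = bfull (Bool.xor a b) := by
    calc imgM ((m : ℕ) ^^^ (n : ℕ)) = (imgM m ^^^ bfull a) ^^^ (bfull a ^^^ imgM n) := by
          rw [imgM_xor, Nat.xor_assoc (imgM m), ← Nat.xor_assoc (bfull a), Nat.xor_self, Nat.zero_xor]
      _ = (imgM n ^^^ bfull b) ^^^ (imgM n ^^^ bfull a) := by rw [e', Nat.xor_comm (bfull a)]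
      _ = bfull b ^^^ bfull a := by
          rw [Nat.xor_assoc, ← Nat.xor_assoc (bfull b), Nat.xor_comm (bfull b) (imgM n), Nat.xor_assoc (imgM n),
            ← Nat.xor_assoc (imgM n) (imgM n), Nat.xor_self, Nat.zero_xor]
      _ = _ := by rw [bfull_xor, Nat.xor_comm]
  have key : (m : ℕ) ^^^ (n : ℕ) = 0 ∧ Bool.xor a b = false := by
    obtain ⟨f1, f2, f3, f4⟩ := bfull_pop (Bool.xor a b)
    obtain ⟨-, -, ⟨-, -, h | h⟩ | ⟨-, -, h⟩ | ⟨h0, -, h⟩⟩ := imgM_table _ (xor_lt m n) <;> rw [e2] at h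
    · exact absurd h f1
    · exact absurd h f2
    · exact absurd h f3
    · exact ⟨h0, f4 h⟩
  have hab : a = b := by cases a <;> cases b <;> simp_all
  have hmn : (m : ℕ) = n := by
    have := congrArg (· ^^^ (n : ℕ)) key.1
    simpa [Nat.xor_assoc] using this
  rw [hab, Fin.ext hmn]

theorem cw_bij : Function.Bijective cw :=
  cw_inj.bijective_of_nat_card_le (le_of_eq (by rw [Leech.card_code, Nat.card_prod]; simp))

theorem cw_add (p q : Fin 2048 × Bool) :
    cw p + cw q = cw (⟨(p.1 : ℕ) ^^^ (q.1 : ℕ), xor_lt _ _⟩, Bool.xor p.2 q.2) := by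
  refine Subtype.ext ?_
  show word (imgM p.1 ^^^ bfull p.2) + word (imgM q.1 ^^^ bfull q.2) = word (imgM (_ ^^^ _) ^^^ bfull _)
  rw [← word_xor, imgM_xor, bfull_xor]
  congr 1
  rw [Nat.xor_assoc, Nat.xor_left_comm (bfull p.2), ← Nat.xor_assoc]

theorem sw_word {m : ℕ} (h : word m ∈ golayCode) : sw ⟨word m, h⟩ = 24 - 2 * (pop 24 m : ℤ) := by
  have e : ∀ p : GolayPt, sg (word m p) = 1 - 2 * (if p ∈ pts m then 1 else 0 : ℤ) := fun p => by
    simp only [word, mem_pts]
    cases m.testBit (ptIdx p) <;> simp [sg]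
  show ∑ p, sg (word m p) = _
  simp only [e, Finset.sum_sub_distrib, ← Finset.mul_sum, Finset.sum_boole, Finset.sum_const, Finset.card_univ,
    nsmul_eq_mul, mul_one, Finset.filter_univ_mem, card_pts]
  simp

theorem sw_full {m : ℕ} (h : word m ∈ golayCode) (b : Bool) (h' : word (m ^^^ bfull b) ∈ golayCode) :
    sw ⟨word (m ^^^ bfull b), h'⟩ ^ 2 = sw ⟨word m, h⟩ ^ 2 := by
  cases b
  · simp [bfull]
  · show (∑ p, sg (word (m ^^^ bfull true) p)) ^ 2 = (∑ p, sg (word m p)) ^ 2
    have e : ∀ p : GolayPt, sg (word (m ^^^ bfull true) p) = - sg (word m p) := fun p => by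
      rw [word_xor, bfull, if_pos rfl, word_fullMask, Pi.add_apply, Pi.one_apply, sg_one_add]
    simp only [e, Finset.sum_neg_distrib, neg_sq]

theorem sw_cw (n : Fin 2048) (b : Bool) :
    sw (cw (n, b)) ^ 2 = if (n : ℕ) = 0 then 576 else if cand 2 n then 64 else 0 := by
  have h := (word_mem_golayCode_iff _).2 (imgM_table _ n.2).1
  show sw ⟨word (imgM n ^^^ bfull b), _⟩ ^ 2 = _
  rw [sw_full h, sw_word h]
  obtain ⟨-, -, ⟨h0, hc, h8 | h16⟩ | ⟨h0, hc, h12⟩ | ⟨h0, hc, he⟩⟩ := imgM_table _ n.2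
  · rw [if_neg h0, if_pos hc, h8]; norm_num
  · rw [if_neg h0, if_pos hc, h16]; norm_num
  · rw [if_neg h0, hc, h12]; norm_num
  · rw [if_pos h0, he, show pop 24 0 = 0 by decide +kernel]; norm_num

/-- Octads separating the points. -/
def sepOcts : List ℕ := [5279, 1009728, 15762208, 9963547, 4593028, 2220640, 2242672, 902657, 7438406, 8414120]

theorem sep_table : (∀ o ∈ sepOcts, codeTest o = true ∧ pop 24 o = 8) ∧
    ∀ i < 24, ∀ j < 24, i ≠ j → ∃ o ∈ sepOcts, o.testBit i = true ∧ o.testBit j = false := by decide +kernel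

/-- A permutation of the code is determined by its action modulo the all-one word. -/
theorem perm_unique {σ τ : Equiv.Perm GolayPt} (h : ∀ c : ↥golayCode,
    permWord σ c.1 = permWord τ c.1 ∨ permWord σ c.1 = permWord τ c.1 + fun _ => (1 : ZMod 2)) : σ = τ := by
  have hoct : ∀ o ∈ sepOcts, permWord σ (word o) = permWord τ (word o) := by
    intro o ho
    obtain ⟨hc, h8⟩ := sep_table.1 o ho
    refine (h ⟨word o, (word_mem_golayCode_iff o).2 hc⟩).resolve_right fun e => ?_
    have hcount : ∀ π : Equiv.Perm GolayPt, (support₂ (permWord π (word o))).card = 8 := fun π => by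
      rw [support₂_permWord, Finset.card_smul_finset, support₂_word, card_pts, h8]
    have e1 := hcount σ
    rw [show permWord σ (word o) = _ from e] at e1
    have hcompl : support₂ (permWord τ (word o) + fun _ => (1 : ZMod 2)) = (support₂ (permWord τ (word o)))ᶜ := by
      ext p
      simp only [support₂, Finset.mem_filter, Finset.mem_univ, true_and, Finset.mem_compl, Pi.add_apply]
      rcases z2_cases (permWord τ (word o) p) with e | e <;> rw [e] <;> decide
    rw [hcompl, Finset.card_compl, hcount τ] at e1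
    simp at e1
  refine Equiv.ext fun p => ?_
  by_contra hne
  have hq : τ.symm (σ p) ≠ p := fun e => hne (by
    conv_rhs => rw [← e]
    rw [Equiv.apply_symm_apply])
  obtain ⟨o, ho, h1, h2⟩ := sep_table.2 (ptIdx p) (ptIdx_lt _) (ptIdx (τ.symm (σ p))) (ptIdx_lt _)
    fun e => hq (ptIdx_injective e).symm
  have e := congrFun (hoct o ho) (σ p)
  simp [permWord, word, h1, h2] at e

end

end CfsgLib.Spor.CoOneGolay
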