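import Cfsg.Agent.Lib.Spor.CoOneGolay.Count
import Cfsg.Agent.Lib.Spor.CoOneGolay.Model
import Cfsg.Agent.Lib.Spor.MathieuSimple
import Cfsg.Agent.Lib.Spor.M24Basic

/-!
# The action of the normalizer on the subgroup is that of the automorphism group of the code
-/

set_option autoImplicit false
set_option synthInstance.maxSize 4096
set_option maxRecDepth 100000

namespace CfsgLib.Spor.CoOneGolay

open Subgroup Cfsg CfsgLib.Spor Cfsg.Agent.Lib.Spor.GolayWeights CfsgLib.Spor.CoOneClasses
open CfsgLib.Spor.CoOneType (Vec qf Iso8 Om Setup mem_cz conj_eq_iff_comm act act_one act_mul act_add act_injective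
  qf_act pol_act iso_ext two_cases qf_nd)

noncomputable section

/-- The all-one word. -/
def one24 : GolayPt → ZMod 2 := fun _ => 1

theorem cw_flip (n : Fin 2048) (b : Bool) : (cw (n, !b)).1 = (cw (n, b)).1 + one24 := by
  have h : word (bfull true) = one24 := by rw [bfull, if_pos rfl, word_fullMask]; rfl
  show word (imgM n ^^^ bfull (!b)) = word (imgM n ^^^ bfull b) + one24
  rw [word_xor, word_xor, add_assoc]
  congr 1
  cases b
  · rw [show word (bfull false) = 0 by simp [bfull, word_zero], zero_add]; exact h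
  · rw [h, show word (bfull (!true)) = 0 by simp [bfull, word_zero]]
    funext p; simp [one24, CharTwo.add_self_eq_zero]

theorem permWord_one24 (σ : Equiv.Perm GolayPt) (w : GolayPt → ZMod 2) :
    permWord σ (w + one24) = permWord σ w + one24 := rfl

theorem one24_twice (w : GolayPt → ZMod 2) : w + one24 + one24 = w := by
  funext p; simp [one24, add_assoc, CharTwo.add_self_eq_zero]

/-- Equality modulo the all-one word. -/
def Eqv (u w : GolayPt → ZMod 2) : Prop := u = w ∨ u = w + one24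

theorem Eqv.symm' {u w : GolayPt → ZMod 2} (h : Eqv u w) : Eqv w u := by
  rcases h with rfl | rfl
  · exact Or.inl rfl
  · exact Or.inr (one24_twice w).symm

theorem Eqv.trans' {u w x : GolayPt → ZMod 2} (h : Eqv u w) (h' : Eqv w x) : Eqv u x := by
  rcases h with rfl | rfl <;> rcases h' with rfl | rfl
  · exact Or.inl rfl
  · exact Or.inr rfl
  · exact Or.inr rfl
  · exact Or.inl (one24_twice x)

theorem Eqv.perm {u w : GolayPt → ZMod 2} (h : Eqv u w) (σ : Equiv.Perm GolayPt) :
    Eqv (permWord σ u) (permWord σ w) := by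
  rcases h with rfl | rfl
  · exact Or.inl rfl
  · exact Or.inr (permWord_one24 σ w)

theorem cw_eqv {n m : Fin 2048} {a b : Bool} (h : Eqv (cw (n, a)).1 (cw (m, b)).1) : n = m := by
  rcases h with h | h
  · exact (Prod.ext_iff.1 (cw_inj (Subtype.ext h))).1
  · rw [← cw_flip] at h
    exact (Prod.ext_iff.1 (cw_inj (Subtype.ext h))).1

theorem nondodecad : ∀ n < 2048, n ≠ 0 → cand 2 n = false → pop 24 (imgM n) = 12 := fun n hn h0 hc => by
  obtain ⟨-, -, ⟨-, h, -⟩ | ⟨-, -, h⟩ | ⟨h, -, -⟩⟩ := imgM_table n hn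
  · rw [h] at hc; exact absurd hc (by simp)
  · exact h
  · exact absurd h h0

variable {G : Type*} [Group G] [Finite G] {z : G} {Q : Subgroup G} {v : G → Vec} {ρ : G → Iso8} {g y d h s : G}
  {qe qg re rg xe : ℕ → G}

namespace Co

variable (C : Co z Q v ρ g y d h s qe qg re rg xe)
include C

theorem exists_index (k : ↥(normalizer (bigA C.gens.pt'' : Set G))) (n : Fin 2048) :
    ∃ m : Fin 2048, C.el m = k * C.el n * (k : G)⁻¹ := by
  obtain ⟨m, hm, e⟩ := C.el_surj ((Subgroup.mem_normalizer_iff.1 k.2 _).1 (C.el_mem n))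
  exact ⟨⟨m, hm⟩, e⟩

/-- The index map of a normalizing element. -/
def ix (k : ↥(normalizer (bigA C.gens.pt'' : Set G))) (n : Fin 2048) : Fin 2048 := (C.exists_index k n).choose

theorem ix_spec (k : ↥(normalizer (bigA C.gens.pt'' : Set G))) (n : Fin 2048) :
    C.el (C.ix k n) = k * C.el n * (k : G)⁻¹ := (C.exists_index k n).choose_spec

theorem el_fin {m n : Fin 2048} (e : C.el m = C.el n) : m = n := Fin.ext (C.el_inj m.2 n.2 e)

theorem ix_mul (k l : ↥(normalizer (bigA C.gens.pt'' : Set G))) (n : Fin 2048) :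
    C.ix (k * l) n = C.ix k (C.ix l n) := C.el_fin (by
  rw [C.ix_spec, C.ix_spec, C.ix_spec, Subgroup.coe_mul]; group)

theorem ix_add (k : ↥(normalizer (bigA C.gens.pt'' : Set G))) (m n : Fin 2048) :
    C.ix k ⟨(m : ℕ) ^^^ (n : ℕ), xor_lt m n⟩ = ⟨(C.ix k m : ℕ) ^^^ (C.ix k n : ℕ), xor_lt _ _⟩ := C.el_fin (by
  rw [C.ix_spec, C.el_xor, C.el_xor, C.ix_spec, C.ix_spec]; group)

theorem ix_inj (k : ↥(normalizer (bigA C.gens.pt'' : Set G))) : Function.Injective (C.ix k) := fun m n e =>
  C.el_fin (mul_left_cancel (a := (k : G)) (mul_right_cancel (b := (k : G)⁻¹) (by rw [← C.ix_spec, ← C.ix_spec, e])))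

/-- The relation between an element and its permutation. -/
def Rel (k : ↥(normalizer (bigA C.gens.pt'' : Set G))) (σ : Equiv.Perm GolayPt) : Prop :=
  ∀ n b, Eqv (cw (C.ix k n, b)).1 (permWord σ (cw (n, b)).1)

theorem rel_unique {k : ↥(normalizer (bigA C.gens.pt'' : Set G))} {σ τ : Equiv.Perm GolayPt} (h : C.Rel k σ)
    (h' : C.Rel k τ) : σ = τ := perm_unique fun c => by
  obtain ⟨⟨n, b⟩, rfl⟩ := cw_bij.2 c
  exact (h n b).symm'.trans' (h' n b)

theorem rel_mul {k l : ↥(normalizer (bigA C.gens.pt'' : Set G))} {σ τ : Equiv.Perm GolayPt} (h : C.Rel k σ)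
    (h' : C.Rel l τ) : C.Rel (k * l) (σ * τ) := fun n b => by
  rw [C.ix_mul, permWord_mul]
  exact (h _ b).trans' ((h' n b).perm σ)

theorem exists_rel (k : ↥(normalizer (bigA C.gens.pt'' : Set G))) : ∃ σ ∈ M24, C.Rel k σ := by
  let F : Fin 2048 × Bool → Fin 2048 × Bool := fun p => (C.ix k p.1, p.2)
  have hF : Function.Injective F := fun p q e => by
    simp only [F, Prod.mk.injEq] at e
    exact Prod.ext (C.ix_inj k e.1) e.2
  let E := Equiv.ofBijective cw cw_bij
  let T : ↥golayCode → ↥golayCode := fun c => cw (F (E.symm c))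
  have hT : ∀ p, T (cw p) = cw (F p) := fun p => by
    show cw (F (E.symm (E p))) = _
    rw [Equiv.symm_apply_apply]
  have hadd : ∀ a b, T (a + b) = T a + T b := by
    intro a b
    obtain ⟨p, rfl⟩ := cw_bij.2 a
    obtain ⟨q, rfl⟩ := cw_bij.2 b
    rw [cw_add, hT, hT, hT, cw_add]
    congr 1
    exact Prod.ext (C.ix_add k p.1 q.1) rfl
  have hbij : Function.Bijective T := cw_bij.comp ((Finite.injective_iff_bijective.1 hF).comp E.symm.bijective)
  let X : ↥golayCode ≃ₗ[ZMod 2] ↥golayCode :=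
    LinearEquiv.ofBijective (AddMonoidHom.toZModLinearMap 2 (AddMonoidHom.mk' T hadd)) hbij
  have hX : ∀ c, sw (X c) ^ 2 = sw c ^ 2 := by
    intro c
    obtain ⟨⟨n, b⟩, rfl⟩ := cw_bij.2 c
    show sw (T (cw (n, b))) ^ 2 = _
    rw [hT, sw_cw, sw_cw]
    have h0 : ((C.ix k n : ℕ) = 0 ↔ (n : ℕ) = 0) := by
      constructor
      · intro e
        have h := C.ix_spec k n
        rw [e, C.el_zero] at h
        exact C.el_eq_one n.2 (by
          calc C.el n = (k : G)⁻¹ * (k * C.el n * (k : G)⁻¹) * k := by group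
            _ = 1 := by rw [← h]; group)
      · intro e
        refine C.el_eq_one (C.ix k n).2 ?_
        rw [C.ix_spec, e, C.el_zero]; group
    have hc : cand 2 (C.ix k n) = cand 2 n := by
      rw [Bool.eq_iff_iff, ← C.zc_final _ (C.ix k n).2, ← C.zc_final _ n.2]
      exact C.Zc_congr (k := (k : G)) (C.ix_spec k n).symm
    rw [hc]
    simp only [h0]
  obtain ⟨σ, hσ, hs⟩ := exists_perm X hX
  refine ⟨σ, hσ, fun n b => ?_⟩
  have := hs (cw (n, b))
  rwa [show X (cw (n, b)) = cw (F (n, b)) from hT _] at this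

/-- The action on the code modulo the all-one word. -/
def toM24 : ↥(normalizer (bigA C.gens.pt'' : Set G)) →* ↥M24 :=
  MonoidHom.mk' (fun k => ⟨(C.exists_rel k).choose, (C.exists_rel k).choose_spec.1⟩) fun k l => Subtype.ext
    (C.rel_unique (C.exists_rel (k * l)).choose_spec.2
      (C.rel_mul (C.exists_rel k).choose_spec.2 (C.exists_rel l).choose_spec.2))

theorem toM24_rel (k : ↥(normalizer (bigA C.gens.pt'' : Set G))) : C.Rel k (C.toM24 k).1 :=
  (C.exists_rel k).choose_spec.2

theorem toM24_ker : C.toM24.ker = (bigA C.gens.pt'').subgroupOf (normalizer (bigA C.gens.pt'' : Set G)) := by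
  ext k
  rw [MonoidHom.mem_ker, mem_subgroupOf]
  constructor
  · intro hk
    refine mem_centralizer_iff.2 fun u hu => ?_
    obtain ⟨n, hn, rfl⟩ := C.U_el hu
    have h := C.toM24_rel k ⟨n, by omega⟩ false
    rw [hk] at h
    have h2 := C.ix_spec k ⟨n, by omega⟩
    rw [cw_eqv h] at h2
    exact (conj_eq_iff_comm.1 h2.symm).symm
  · intro hk
    refine Subtype.ext (C.rel_unique (C.toM24_rel k) fun n b => ?_)
    have hn : C.ix k n = n := C.el_fin (by
      rw [C.ix_spec, C.A_cm hk (C.el_mem n), mul_inv_cancel_right])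
    rw [hn]
    exact Or.inl rfl

theorem toM24_surj : Function.Surjective C.toM24 := by
  rw [← MonoidHom.range_eq_top]
  set H := C.toM24.range
  have hA : Nat.card ↥C.toM24.ker = 2048 := by
    rw [C.toM24_ker, Nat.card_congr (subgroupOfEquivOfLe le_normalizer).toEquiv, C.card_A]
  have hN : Nat.card ↥(normalizer (bigA C.gens.pt'' : Set G)) = Nat.card ↥H * 2048 := by
    rw [Subgroup.card_eq_card_quotient_mul_card_subgroup C.toM24.ker,
      Nat.card_congr (QuotientGroup.quotientKerEquivRange C.toM24).toEquiv, hA]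
  have hge := C.card_N_ge
  rw [hN] at hge
  have hidx := H.card_mul_index
  rw [card_M24] at hidx
  haveI : IsSimpleGroup ↥M24 := isSimpleGroup_M24
  have hi2 : H.index ≤ 2 := by
    by_contra h3
    have : Nat.card ↥H * 3 ≤ Nat.card ↥H * H.index := Nat.mul_le_mul_left _ (by omega)
    omega
  have hi0 : H.index ≠ 0 := Subgroup.index_ne_zero_of_finite
  rcases Nat.lt_or_ge H.index 2 with h | h
  · exact Subgroup.index_eq_one.1 (by omega)
  · have hn : H.Normal := Subgroup.normal_of_index_eq_two (by omega)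
    refine (IsSimpleGroup.eq_bot_or_eq_top_of_normal H hn).resolve_left fun e => ?_
    rw [e, Subgroup.card_bot] at hge
    omega

/-- Transitivity outside the conjugates of the central involution. -/
theorem other_orbit {n m : ℕ} (hn : n < 2048) (hm : m < 2048) (hn0 : n ≠ 0) (hm0 : m ≠ 0) (hcn : cand 2 n = false)
    (hcm : cand 2 m = false) : ∃ k ∈ normalizer (bigA C.gens.pt'' : Set G), k * C.el n * k⁻¹ = C.el m := by
  have hdod : ∀ n, n < 2048 → n ≠ 0 → cand 2 n = false → pts (imgM n) ∈ dodecads := fun n hn h0 hc =>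
    ⟨⟨word (imgM n), (word_mem_golayCode_iff _).2 (imgM_table n hn).1, support₂_word _⟩, by
      rw [card_pts, nondodecad n hn h0 hc]⟩
  obtain ⟨σ, hσ⟩ := exists_smul_dodecad (hdod n hn hn0 hcn) (hdod m hm hm0 hcm)
  obtain ⟨k, hk⟩ := C.toM24_surj σ
  refine ⟨k, k.2, ?_⟩
  have h := C.toM24_rel k ⟨n, hn⟩ false
  rw [hk] at h
  have he : permWord σ.1 (cw (⟨n, hn⟩, false)).1 = (cw (⟨m, hm⟩, false)).1 := by
    show permWord σ.1 (word (imgM n ^^^ bfull false)) = word (imgM m ^^^ bfull false)
    simp only [bfull, Bool.false_eq_true, if_false, Nat.xor_zero]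
    refine support₂_injective ?_
    rw [support₂_permWord, support₂_word, support₂_word]
    exact hσ
  rw [he] at h
  rw [← C.ix_spec k ⟨n, hn⟩, cw_eqv h]

end Co

end

end CfsgLib.Spor.CoOneGolay
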