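import Cfsg.Agent.Lib.Spor.CoOneGolay.Complement
import Cfsg.Agent.Lib.Spor.M24Basic
import Cfsg.Agent.Lib.Coprime.Gaschutz

/-!
# The normalizer splits

Two transvections of order two extend the lift of the complementary four-space by the second part to a subgroup of
order two to the tenth which meets the elementary abelian subgroup trivially.
-/

set_option autoImplicit false
set_option synthInstance.maxSize 4096
set_option maxRecDepth 100000

namespace CfsgLib.Spor.CoOneGolay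

open Subgroup CfsgLib.Spor.CoOneClasses
open scoped Pointwise
open CfsgLib.Spor.CoOneType (Vec qf Iso8 Om Setup mem_cz conj_eq_iff_comm act act_one act_mul act_add act_injective
  qf_act pol_act iso_ext two_cases qf_nd)

noncomputable section

/-- The eight words. -/
def W8 (i : Fin 8) : List Bool :=
  ![[], [true], [false], [true, false], [false, true], [true, false, true], [false, true, false],
    [true, false, true, false]] i

/-- The image of a number under a word. -/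
def Tt (w : List Bool) (n : ℕ) : ℕ :=
  w.foldr (fun q m => if q then m ^^^ 2 * (m / 4 % 2) else m ^^^ 4 * (m % 2)) n

theorem Tt_facts : (∀ i : Fin 8, ∀ n < 8, Tt (W8 i) n < 8) ∧
    (∀ i j : Fin 8, (∀ n < 8, Tt (W8 i) n = Tt (W8 j) n) → i = j) := by decide +kernel

theorem sig_tables : (∀ n < 8, sig e0 g1 (dA n) = dA (n ^^^ 2 * (n / 4 % 2)) ∧ n ^^^ 2 * (n / 4 % 2) < 8) ∧
    (∀ n < 8, sig e1 g2 (dA n) = dA (n ^^^ 4 * (n % 2)) ∧ n ^^^ 4 * (n % 2) < 8) ∧
    sig e0 g1 (dG 2) = dG 6 ∧ sig e1 g2 (dG 4) = dG 5 ∧ sig e0 g1 (0 : W6) = 0 ∧ sig e1 g2 (0 : W6) = 0 := by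
  decide +kernel

/-- The left multiplications on the eight words. -/
def leftT (q : Bool) (i : Fin 8) : Fin 8 :=
  if q then ![1, 0, 3, 2, 5, 4, 7, 6] i else ![2, 4, 0, 6, 1, 7, 3, 5] i

variable {G : Type*} [Group G] [Finite G] {z : G} {Q : Subgroup G} {v : G → Vec} {ρ : G → Iso8} {g y d h s : G}
  {qe qg re rg xe : ℕ → G}

namespace Co

variable (C : Co z Q v ρ g y d h s qe qg re rg xe)
include C

/-- The two transvections. -/
theorem exists_trans : ∃ a b : G,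
    (a ∈ centralizer ({z} : Set G) ∧ a ∈ normalizer (bigA C.gens.pt'' : Set G) ∧ a * a = 1 ∧
      (∀ x, act (ρ a) x = t2f x) ∧ (∀ x, C.inE x → C.inE (a * x * a⁻¹)) ∧ Commute a (rg 4) ∧ Commute a (rg 1) ∧
      ∃ i, a * rg 2 * a⁻¹ = C.gens.pt''.zi i 0 * rg 6) ∧
    (b ∈ centralizer ({z} : Set G) ∧ b ∈ normalizer (bigA C.gens.pt'' : Set G) ∧ b * b = 1 ∧
      (∀ x, act (ρ b) x = t3f x) ∧ (∀ x, C.inE x → C.inE (b * x * b⁻¹)) ∧ Commute b (rg 2) ∧ Commute b (rg 1) ∧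
      ∃ i, b * rg 4 * b⁻¹ = C.gens.pt''.zi i 0 * rg 5) ∧
    Commute (a * b * a) b := by
  obtain ⟨P, hP, hPe, h0, h2, h4, h1⟩ := C.exists_perm3
  set F := C.gens.pt''
  have S := C.P.setup
  obtain ⟨hN, -⟩ := C.lift_norm hP hPe
  have hPi : ∀ x, act (ρ P⁻¹) x = piFun (piFun x) := C.P.P_inv hP hPe
  set T := P * P
  have hT : T ∈ centralizer ({z} : Set G) := mul_mem hP hP
  have hTi : ∀ x, act (ρ T⁻¹) x = piFun x := fun x => by
    rw [show T⁻¹ = P⁻¹ * P⁻¹ from mul_inv_rev _ _, S.ρ_mul _ (inv_mem hP) _ (inv_mem hP), act_mul, hPi, hPi,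
      (piFun_facts x).2.1]
  have hTe : ∀ x, act (ρ T) x = piFun (piFun x) := fun x => by rw [S.ρ_mul _ hP _ hP, act_mul, hPe, hPe]
  have hr : ∀ m < 8, rg m ∈ F.R' ∧ F.phi (rg m) = dG m := fun m hm =>
    ⟨(C.gens.rg_trip.mem m hm).1, C.gens.rg_phi m hm⟩
  set a := P * rg 2 * P⁻¹ with ha
  set b := T * rg 1 * T⁻¹ with hb
  have hrinv : ∀ m < 8, (rg m)⁻¹ = rg m := fun m hm => inv_eq_of_mul_eq_one_right (C.rg_sq hm)
  have haC : a ∈ centralizer ({z} : Set G) := mul_mem (mul_mem hP (C.rg_cz (by norm_num)).1) (inv_mem hP)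
  have hbC : b ∈ centralizer ({z} : Set G) := mul_mem (mul_mem hT (C.rg_cz (by norm_num)).1) (inv_mem hT)
  have haρ : ∀ x, act (ρ a) x = t2f x := fun x => by
    rw [ha, C.P.shifted_rho hP hPe (hr 2 (by norm_num)).1]
    show piFun (sieg (F.phi (rg 2)) _) = _
    rw [(hr 2 (by norm_num)).2]; rfl
  have hbρ : ∀ x, act (ρ b) x = t3f x := fun x => by
    rw [hb, S.ρ_mul _ (mul_mem hT (hr 1 (by norm_num)).1.2) _ (inv_mem hT), S.ρ_mul T hT _ (hr 1 (by norm_num)).1.2,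
      act_mul, act_mul, hTi, F.rho_R' (hr 1 (by norm_num)).1, hTe, (hr 1 (by norm_num)).2]
    rfl
  have ha2 : a * a = 1 := by
    rw [ha, show P * rg 2 * P⁻¹ * (P * rg 2 * P⁻¹) = P * (rg 2 * rg 2) * P⁻¹ by group, C.rg_sq (by norm_num)]; group
  have hb2 : b * b = 1 := by
    rw [hb, show T * rg 1 * T⁻¹ * (T * rg 1 * T⁻¹) = T * (rg 1 * rg 1) * T⁻¹ by group, C.rg_sq (by norm_num)]; group
  have hainv : a⁻¹ = a := inv_eq_of_mul_eq_one_right ha2
  have hbinv : b⁻¹ = b := inv_eq_of_mul_eq_one_right hb2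
  have hUrg : ∀ m < 8, ∀ u ∈ isoR F dA, (rg m)⁻¹ * u * rg m ∈ isoR F dA := fun m hm u hu => C.rg_U hm u hu
  have haN : a ∈ normalizer (bigA F : Set G) := C.mem_N fun x hx => C.norm_A (fun u hu => by
    rw [show a⁻¹ * u * a = P * ((rg 2)⁻¹ * (P⁻¹ * u * P) * rg 2) * P⁻¹ by rw [ha]; group]
    exact (hN _ (hUrg 2 (by norm_num) _ (hN u hu).1)).2) hx
  have hbN : b ∈ normalizer (bigA F : Set G) := C.mem_N fun x hx => C.norm_A (fun u hu => by
    rw [show b⁻¹ * u * b = P * (P * ((rg 1)⁻¹ * (P⁻¹ * (P⁻¹ * u * P) * P) * rg 1) * P⁻¹) * P⁻¹ by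
      rw [hb, show T = P * P from rfl]; simp only [mul_inv_rev, inv_inv, mul_assoc]]
    exact (hN _ (hN _ (hUrg 1 (by norm_num) _ (hN _ (hN u hu).1).1)).2).2) hx
  have hperm : ∀ x, C.inE x → C.inE (P * x * P⁻¹) ∧ C.inE (P⁻¹ * x * P) := fun x hx => C.perm_inE h0 h2 h4 h1 hx
  have haE : ∀ x, C.inE x → C.inE (a * x * a⁻¹) := fun x hx => by
    rw [show a * x * a⁻¹ = P * (rg 2 * (P⁻¹ * x * P) * (rg 2)⁻¹) * P⁻¹ by rw [ha]; group]
    exact (hperm _ (C.rg_inE (by norm_num) (hperm x hx).2)).1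
  have hbE : ∀ x, C.inE x → C.inE (b * x * b⁻¹) := fun x hx => by
    rw [show b * x * b⁻¹ = P * (P * (rg 1 * (P⁻¹ * (P⁻¹ * x * P) * P) * (rg 1)⁻¹) * P⁻¹) * P⁻¹ by
      rw [hb, show T = P * P from rfl]; simp only [mul_inv_rev, inv_inv, mul_assoc]]
    exact (hperm _ (hperm _ (C.rg_inE (by norm_num) (hperm _ (hperm x hx).2).2)).1).1
  -- the conjugates of the first part
  obtain ⟨sw1, sw2', swW⟩ := swap_word
  obtain ⟨k, hk, hki, hkρ⟩ := F.sig_lift sw1 sw2'
  have hku : ∀ u ∈ isoR F dA, k * u * k⁻¹ ∈ Q ∧ Wx (v (k * u * k⁻¹)) := fun u hu => by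
    obtain ⟨hQ, hw⟩ := C.W0_iff.1 hu
    exact ⟨S.norm hk hQ, by rw [S.ρ_act k hk u hQ, hkρ]; exact swW _ hw⟩
  have hPku : ∀ u ∈ isoR F dA, P * k * u * (P * k)⁻¹ ∈ Q ∧ ∃ w, Wx w ∧ v (P * k * u * (P * k)⁻¹) = piFun w := by
    intro u hu
    rw [show P * k * u * (P * k)⁻¹ = P * (k * u * k⁻¹) * P⁻¹ by group]
    exact ⟨S.norm hP (hku u hu).1, _, (hku u hu).2, by rw [S.ρ_act P hP _ (hku u hu).1, hPe]⟩
  have hTku : ∀ u ∈ isoR F dA, T * k * u * (T * k)⁻¹ ∈ Q ∧ ∃ w, Wx w ∧ v (T * k * u * (T * k)⁻¹) = piFun (piFun w) := by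
    intro u hu
    rw [show T * k * u * (T * k)⁻¹ = T * (k * u * k⁻¹) * T⁻¹ by group]
    exact ⟨S.norm hT (hku u hu).1, _, (hku u hu).2, by rw [S.ρ_act T hT _ (hku u hu).1, hTe]⟩
  have haw : ∀ u ∈ isoR F dA, Commute a (k * u * k⁻¹) := fun u hu => by
    obtain ⟨hQ, hw⟩ := hku u hu
    obtain ⟨-, -, w0', w2⟩ := Wx_perp _ hw
    exact C.conj_r_comm hP (hr 2 (by norm_num)).1 hQ (by rw [hPi]; exact w0')
      (by rw [hPi, (hr 2 (by norm_num)).2]; exact w2)
  have hcomm_a : ∀ m, m = 4 ∨ m = 1 → Commute a (rg m) := by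
    intro m hm
    have hm8 : m < 8 := by omega
    refine C.conj_comm haw fun u hu => ?_
    obtain ⟨hQ, hw⟩ := hku u hu
    refine C.r_comm (hr m hm8).1 hQ hw.1 ?_
    rw [(hr m hm8).2]
    rcases hm with rfl | rfl
    · exact (Wx_perp _ hw).1
    · exact (Wx_perp _ hw).2.1
  have hbz : ∀ u ∈ isoR F dA, Commute b (T * k * u * (T * k)⁻¹) := fun u hu => by
    obtain ⟨hQ, w, hw, hv⟩ := hTku u hu
    obtain ⟨-, -, -, w0', w1⟩ := Wz_perp w hw
    exact C.conj_r_comm hT (hr 1 (by norm_num)).1 hQ (by rw [hTi, hv]; exact w0')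
      (by rw [hTi, hv, (hr 1 (by norm_num)).2]; exact w1)
  have hcomm_b : ∀ m, m = 2 ∨ m = 1 → Commute b (rg m) := by
    intro m hm
    have hm8 : m < 8 := by omega
    refine C.conj_comm hbz fun u hu => ?_
    obtain ⟨hQ, w, hw, hv⟩ := hTku u hu
    refine C.r_comm (hr m hm8).1 hQ (by rw [hv]; exact (Wz_perp w hw).1) ?_
    rw [hv, (hr m hm8).2]
    rcases hm with rfl | rfl
    · exact (Wz_perp w hw).2.1
    · exact (Wz_perp w hw).2.2.1
  have hby : ∀ q ∈ Q, (∃ w, Wx w ∧ v q = piFun w) → Commute b q := fun q hq ⟨w, hw, hv⟩ => by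
    obtain ⟨-, w0', w1, -⟩ := Wy_facts w hw
    exact C.conj_r_comm hT (hr 1 (by norm_num)).1 hq (by rw [hTi, hv]; exact w0')
      (by rw [hTi, hv, (hr 1 (by norm_num)).2]; exact w1)
  have haba : Commute (a * b * a) b := by
    refine C.conj_comm (k := P * k) (fun u hu => ?_) fun u hu => hby _ (hPku u hu).1 (hPku u hu).2
    obtain ⟨hQ, w, hw, hv⟩ := hPku u hu
    set q := P * k * u * (P * k)⁻¹
    obtain ⟨-, -, -, w', hw', he'⟩ := Wy_facts w hw
    have hb' := hby (a * q * a⁻¹) (S.norm haC hQ) ⟨w', hw', by rw [S.ρ_act a haC q hQ, haρ, hv, he']⟩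
    rw [hainv] at hb'
    calc a * b * a * q = a * (b * (a * q * a)) * (a⁻¹) := by group
      _ = a * ((a * q * a) * b) * a⁻¹ := by rw [hb'.eq]
      _ = (a * a) * q * (a * b * a⁻¹) := by group
      _ = _ := by rw [ha2, one_mul, hainv]
  have hpin : ∀ (t : G), t ∈ centralizer ({z} : Set G) → t ∈ centralizer ({F.pt} : Set G) → t⁻¹ = t →
      (∀ x, C.inE x → C.inE (t * x * t⁻¹)) → ∀ (l e : W6),
      (∀ x, act (ρ t) x = vmk (xc x) (yc x) (sig l e (pr x))) → sig l e (0 : W6) = 0 → ∀ m < 8, ∀ m' < 8,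
      sig l e (dG m) = dG m' → ∃ i, t * rg m * t⁻¹ = F.zi i 0 * rg m' := by
    intro t ht hti htinv htE l e hρ hz0 m hm m' hm' he
    refine C.pin_R' (F.norm_R' ht hti (hr m hm).1) hm' ?_ ?_
    · rw [C.gens.sev.phi_of ht hρ hz0 (hr m hm).1]
      show sig l e (F.phi (rg m)) = _
      rw [(hr m hm).2, he]
    · rw [show t * rg m * t⁻¹ * s * (t * rg m * t⁻¹)⁻¹ = t * (rg m * (t⁻¹ * s * t⁻¹⁻¹) * (rg m)⁻¹) * t⁻¹ by group]
      refine htE _ (C.rg_inE hm ?_)
      rw [htinv]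
      exact htE s C.inE_s
  have hpt : v F.pt = w0 := F.val
  have hai : a ∈ centralizer ({F.pt} : Set G) := mem_cz.2 (C.conj_r_comm hP (hr 2 (by norm_num)).1 F.mem
    (by rw [hPi, hpt]; decide +kernel) (by rw [hPi, hpt, (hr 2 (by norm_num)).2]; decide +kernel)).eq
  have hbi : b ∈ centralizer ({F.pt} : Set G) := mem_cz.2 (C.conj_r_comm hT (hr 1 (by norm_num)).1 F.mem
    (by rw [hTi, hpt]; decide +kernel) (by rw [hTi, hpt, (hr 1 (by norm_num)).2]; decide +kernel)).eq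
  exact ⟨a, b, ⟨haC, haN, ha2, haρ, haE, hcomm_a 4 (Or.inl rfl), hcomm_a 1 (Or.inr rfl),
      hpin a haC hai hainv haE e0 g1 (fun x => by rw [haρ, t_forms.1]) sig_tables.2.2.2.2.1 2 (by norm_num) 6
        (by norm_num) sig_tables.2.2.1⟩,
    ⟨hbC, hbN, hb2, hbρ, hbE, hcomm_b 2 (Or.inl rfl), hcomm_b 1 (Or.inr rfl),
      hpin b hbC hbi hbinv hbE e1 g2 (fun x => by rw [hbρ, t_forms.2]) sig_tables.2.2.2.2.2 4 (by norm_num) 5
        (by norm_num) sig_tables.2.2.2.1⟩, haba⟩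

/-- A subgroup of order two to the tenth of the normalizer meeting the subgroup trivially. -/
theorem exists_sylow_part : ∃ L : Subgroup G, L ≤ normalizer (bigA C.gens.pt'' : Set G) ∧
    L ⊓ bigA C.gens.pt'' = ⊥ ∧ Nat.card ↥L = 1024 := by
  classical
  obtain ⟨a, b, ⟨haC, haN, ha2, haρ, haE, a4, a1, i1, ha6⟩, ⟨hbC, hbN, hb2, hbρ, hbE, b2, b1, i2, hb5⟩, haba⟩ :=
    C.exists_trans
  set F := C.gens.pt''
  have S := C.P.setup
  let lam : ℕ → ZMod 2 := fun c => zb c 2 * i1 + zb c 0 * i2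
  let rr : ℕ → G := fun c => F.zi (lam c) 0 * rg c
  have hzC : ∀ (i : ZMod 2) (x : G), x ∈ centralizer ({z} : Set G) → Commute x (F.zi i 0) := fun i x hx => by
    show Commute x (z ^ i.val * (g * z * g⁻¹) ^ (0 : ZMod 2).val)
    rw [ZMod.val_zero, pow_zero, mul_one]
    exact (show Commute x z from mem_cz.1 hx).pow_right _
  have hlt := fun m (hm : m < 8) n (hn : n < 8) => (xor_tables.1 m hm n hn).2.2.2.2
  have lam_add : ∀ m n : ℕ, lam (m ^^^ n) = lam m + lam n := fun m n => by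
    have h : ∀ i, zb (m ^^^ n) i = zb m i + zb n i := (field_xor m n).2.2.2
    simp only [lam, h]; ring
  have rr_add : ∀ m < 8, ∀ n < 8, rr (m ^^^ n) = rr m * rr n := fun m hm n hn => by
    show F.zi (lam (m ^^^ n)) 0 * rg (m ^^^ n) = F.zi (lam m) 0 * rg m * (F.zi (lam n) 0 * rg n)
    rw [lam_add, C.gens.rg_trip.xor m hm n hn, show F.zi (lam m) 0 * rg m * (F.zi (lam n) 0 * rg n) =
      F.zi (lam m) 0 * (rg m * F.zi (lam n) 0) * rg n by group, (hzC _ _ (C.rg_cz hm).1).eq,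
      show F.zi (lam m + lam n) 0 = F.zi (lam m) 0 * F.zi (lam n) 0 by rw [F.zi_add, add_zero]]
    group
  have hlam : lam 0 = 0 ∧ lam 1 = i2 ∧ lam 2 = 0 ∧ lam 4 = i1 ∧ lam 5 = i1 + i2 ∧ lam 6 = i1 := by
    simp only [lam, show zb 0 2 = 0 from rfl, show zb 0 0 = 0 from rfl, show zb 1 2 = 0 from rfl,
      show zb 1 0 = 1 from rfl, show zb 2 2 = 0 from rfl, show zb 2 0 = 0 from rfl, show zb 4 2 = 1 from rfl,
      show zb 4 0 = 0 from rfl, show zb 5 2 = 1 from rfl, show zb 5 0 = 1 from rfl, show zb 6 2 = 1 from rfl,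
      show zb 6 0 = 0 from rfl]
    simp
  obtain ⟨l0, l1, l2, l4, l5, l6⟩ := hlam
  have rr0 : rr 0 = 1 := by
    show F.zi (lam 0) 0 * rg 0 = 1
    rw [l0, F.zi_zero, C.gens.rg_trip.one, one_mul]
  let kap : ZMod 2 × Fin 8 × Fin 8 → G := fun p => s ^ p.1.val * qg p.2.1 * rr p.2.2
  let K : G → Prop := fun x => ∃ p, kap p = x
  have kmk : ∀ (e : ZMod 2) {m c : ℕ} (hm : m < 8) (hc : c < 8), K (s ^ e.val * qg m * rr c) :=
    fun e m c hm hc => ⟨(e, ⟨m, hm⟩, ⟨c, hc⟩), rfl⟩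
  have k_of_inE : ∀ x, C.inE x → K x := fun x ⟨e, m, hm, hx⟩ => by
    have := kmk e hm (c := 0) (by norm_num)
    rwa [rr0, mul_one, ← hx] at this
  have hs : ∀ x, K x → K (s * x) := fun x ⟨⟨e, m, c⟩, hx⟩ => by
    rw [← hx]
    refine ⟨(1 + e, m, c), ?_⟩
    show s ^ (1 + e).val * qg m * rr c = s * (s ^ e.val * qg m * rr c)
    rw [← C.s_pow, ZMod.val_one, pow_one]; group
  have hq : ∀ m' < 8, ∀ x, K x → K (qg m' * x) := fun m' hm' x ⟨⟨e, m, c⟩, hx⟩ => by
    rw [← hx]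
    refine ⟨(e, ⟨m' ^^^ m.1, hlt m' hm' m.1 m.2⟩, c), ?_⟩
    show s ^ e.val * qg (m' ^^^ m.1) * rr c = qg m' * (s ^ e.val * qg m * rr c)
    rw [C.gens.qg_trip.xor m' hm' m.1 m.2, show qg m' * (s ^ e.val * qg m * rr c) =
      (qg m' * s ^ e.val) * qg m * rr c by group,
      ((show Commute (qg m') s from (C.s_qg hm').symm).pow_right _).eq]
    group
  have rr_qg : ∀ c < 8, ∀ m < 8, Commute (rr c) (qg m) := fun c hc m hm =>
    (hzC _ _ (C.qg_cz hm).1).symm.mul_left (C.rg_qg hc hm)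
  have rr_s : ∀ c < 8, rr c * s = s * qg c * rr c := fun c hc => by
    have hsi : s⁻¹ = s := inv_eq_of_mul_eq_one_right C.s_sq
    have e : rg c * s = s * qg c * rg c := by
      calc rg c * s = s * (s * rg c * s⁻¹) := by rw [hsi, ← mul_assoc, ← mul_assoc, C.s_sq, one_mul]
        _ = s * (rg c * qg c) := by rw [C.s_rg c hc]
        _ = _ := by rw [(C.rg_qg hc hc).eq]; group
    show F.zi (lam c) 0 * rg c * s = s * qg c * (F.zi (lam c) 0 * rg c)
    calc F.zi (lam c) 0 * rg c * s = F.zi (lam c) 0 * (s * qg c) * rg c := by rw [mul_assoc _ (rg c), e]; group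
      _ = (s * qg c) * F.zi (lam c) 0 * rg c := by
        rw [(hzC _ _ (mul_mem (S.le C.gens.sev.s_mem) (C.qg_cz hc).1)).eq]
      _ = _ := by group
  have hr : ∀ c' < 8, ∀ x, K x → K (rr c' * x) := fun c' hc' x ⟨⟨e, m, c⟩, hx⟩ => by
    rw [← hx]
    show K (rr c' * (s ^ e.val * qg m * rr c))
    rcases two_cases e with rfl | rfl
    · refine ⟨(0, m, ⟨c' ^^^ c.1, hlt c' hc' c.1 c.2⟩), ?_⟩
      show s ^ (0 : ZMod 2).val * qg m * rr (c' ^^^ c.1) = _
      rw [ZMod.val_zero, pow_zero, one_mul, rr_add c' hc' c.1 c.2, ← mul_assoc, ← (rr_qg c' hc' m m.2).eq]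
      group
    · refine ⟨(1, ⟨c' ^^^ m.1, hlt c' hc' m.1 m.2⟩, ⟨c' ^^^ c.1, hlt c' hc' c.1 c.2⟩), ?_⟩
      show s ^ (1 : ZMod 2).val * qg (c' ^^^ m.1) * rr (c' ^^^ c.1) = _
      rw [ZMod.val_one, pow_one, C.gens.qg_trip.xor c' hc' m.1 m.2, rr_add c' hc' c.1 c.2,
        show rr c' * (s * qg m * rr c) = rr c' * s * qg m * rr c by group, rr_s c' hc',
        show s * qg c' * rr c' * qg m * rr c = s * qg c' * (rr c' * qg m) * rr c by group, (rr_qg c' hc' m m.2).eq]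
      group
  have kmul : ∀ x w, K x → K w → K (x * w) := fun x w ⟨⟨e, m, c⟩, hx⟩ hw => by
    rw [← hx, show kap (e, m, c) * w = s ^ e.val * (qg m * (rr c * w)) by
      show s ^ e.val * qg m * rr c * w = _; group]
    have := hq m m.2 _ (hr c c.2 w hw)
    rcases two_cases e with rfl | rfl
    · rwa [ZMod.val_zero, pow_zero, one_mul]
    · rw [ZMod.val_one, pow_one]; exact hs _ this
  have k_one : K 1 := k_of_inE 1 C.inE_one
  have kconj : ∀ t : G, (∀ x, C.inE x → C.inE (t * x * t⁻¹)) → (∀ c ∈ [1, 2, 4], K (t * rr c * t⁻¹)) →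
      ∀ x, K x → K (t * x * t⁻¹) := by
    intro t htE htr x ⟨⟨e, m, c⟩, hx⟩
    rw [← hx, show t * kap (e, m, c) * t⁻¹ = (t * (s ^ e.val * qg m) * t⁻¹) * (t * rr c * t⁻¹) by
      show t * (s ^ e.val * qg m * rr c) * t⁻¹ = _; group]
    refine kmul _ _ (k_of_inE _ (htE _ ⟨e, m, m.2, rfl⟩)) ?_
    have hstep : ∀ p < 8, ∀ q < 8, K (t * rr p * t⁻¹) → K (t * rr q * t⁻¹) → K (t * rr (p ^^^ q) * t⁻¹) :=
      fun p hp q hq h1 h2 => by
      rw [rr_add p hp q hq, show t * (rr p * rr q) * t⁻¹ = (t * rr p * t⁻¹) * (t * rr q * t⁻¹) by group]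
      exact kmul _ _ h1 h2
    have h1 := htr 1 (by simp)
    have h2 := htr 2 (by simp)
    have h4 := htr 4 (by simp)
    obtain ⟨c, hc⟩ := c
    show K (t * rr c * t⁻¹)
    interval_cases c
    · rw [rr0, mul_one, mul_inv_cancel]; exact k_one
    · exact h1
    · exact h2
    · exact hstep 1 (by norm_num) 2 (by norm_num) h1 h2
    · exact h4
    · exact hstep 1 (by norm_num) 4 (by norm_num) h1 h4
    · exact hstep 2 (by norm_num) 4 (by norm_num) h2 h4
    · exact hstep 3 (by norm_num) 4 (by norm_num) (hstep 1 (by norm_num) 2 (by norm_num) h1 h2) h4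
  have k_rr : ∀ c < 8, K (rr c) := fun c hc => by
    have := hr c hc 1 k_one
    rwa [mul_one] at this
  have rrconj : ∀ (t : G) (c : ℕ) (w : G), t ∈ centralizer ({z} : Set G) → t * rg c * t⁻¹ = w →
      t * rr c * t⁻¹ = F.zi (lam c) 0 * w := fun t c w ht e => by
    show t * (F.zi (lam c) 0 * rg c) * t⁻¹ = _
    rw [show t * (F.zi (lam c) 0 * rg c) * t⁻¹ = (t * F.zi (lam c) 0 * t⁻¹) * (t * rg c * t⁻¹) by group, e,
      conj_eq_iff_comm.2 (hzC _ _ ht).eq]
  have ka : ∀ x, K x → K (a * x * a⁻¹) := kconj a haE fun c hc => by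
    simp only [List.mem_cons, List.not_mem_nil, or_false] at hc
    rcases hc with rfl | rfl | rfl
    · rw [rrconj a 1 _ haC (conj_eq_iff_comm.2 a1.eq)]; exact k_rr 1 (by norm_num)
    · rw [rrconj a 2 _ haC ha6, l2, F.zi_zero, one_mul]
      have := k_rr 6 (by norm_num)
      simp only [rr, l6] at this
      exact this
    · rw [rrconj a 4 _ haC (conj_eq_iff_comm.2 a4.eq)]; exact k_rr 4 (by norm_num)
  have kb : ∀ x, K x → K (b * x * b⁻¹) := kconj b hbE fun c hc => by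
    simp only [List.mem_cons, List.not_mem_nil, or_false] at hc
    rcases hc with rfl | rfl | rfl
    · rw [rrconj b 1 _ hbC (conj_eq_iff_comm.2 b1.eq)]; exact k_rr 1 (by norm_num)
    · rw [rrconj b 2 _ hbC (conj_eq_iff_comm.2 b2.eq)]; exact k_rr 2 (by norm_num)
    · rw [rrconj b 4 _ hbC hb5, ← mul_assoc, F.zi_add, add_zero, l4]
      have := k_rr 5 (by norm_num)
      simp only [rr, l5] at this
      exact this
  let gen : Bool → G := fun q => if q then a else b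
  let dd : Fin 8 → G := fun i => ((W8 i).map gen).prod
  have hleft : ∀ q i, gen q * dd i = dd (leftT q i) := by
    have haba' : b * (a * (b * a)) = a * (b * (a * b)) := by
      calc b * (a * (b * a)) = b * (a * b * a) := by group
        _ = a * b * a * b := haba.eq.symm
        _ = _ := by group
    have haa : ∀ x, a * (a * x) = x := fun x => by rw [← mul_assoc, ha2, one_mul]
    have hbb : ∀ x, b * (b * x) = x := fun x => by rw [← mul_assoc, hb2, one_mul]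
    have hlast : b * (a * (b * (a * b))) = a * (b * a) := by rw [← haba', hbb]
    intro q i
    cases q <;> fin_cases i <;> simp [gen, dd, W8, leftT, ha2, hb2, haa, hbb, haba', hlast]
  have hwordmul : ∀ (w : List Bool) j, ∃ l, (w.map gen).prod * dd j = dd l := by
    intro w
    induction w with
    | nil => exact fun j => ⟨j, by simp⟩
    | cons q w ih =>
      intro j
      obtain ⟨l, hl⟩ := ih j
      exact ⟨leftT q l, by rw [List.map_cons, List.prod_cons, mul_assoc, hl, hleft]⟩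
  have hwordK : ∀ (w : List Bool) x, K x → K ((w.map gen).prod * x * (w.map gen).prod⁻¹) := by
    intro w
    induction w with
    | nil => exact fun x hx => by simpa using hx
    | cons q w ih =>
      intro x hx
      rw [List.map_cons, List.prod_cons, show gen q * (w.map gen).prod * x * (gen q * (w.map gen).prod)⁻¹ =
        gen q * ((w.map gen).prod * x * (w.map gen).prod⁻¹) * (gen q)⁻¹ by group]
      cases q
      · exact kb _ (ih x hx)
      · exact ka _ (ih x hx)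
  let f : (ZMod 2 × Fin 8 × Fin 8) × Fin 8 → G := fun p => kap p.1 * dd p.2
  have hdd0 : dd 0 = 1 := by simp [dd, W8]
  have fone : ∃ p, f p = 1 := by
    obtain ⟨p, hp⟩ := k_one
    exact ⟨(p, 0), by show kap p * dd 0 = 1; rw [hp, hdd0, mul_one]⟩
  have fmul : ∀ x w, (∃ p, f p = x) → (∃ p, f p = w) → ∃ p, f p = x * w := by
    rintro _ _ ⟨⟨p, i⟩, rfl⟩ ⟨⟨p', j⟩, rfl⟩
    obtain ⟨p'', hp''⟩ := kmul _ _ ⟨p, rfl⟩ (hwordK (W8 i) _ ⟨p', rfl⟩)
    obtain ⟨l, hl⟩ := hwordmul (W8 i) j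
    refine ⟨(p'', l), ?_⟩
    show kap p'' * dd l = kap p * dd i * (kap p' * dd j)
    rw [hp'', ← hl]
    show kap p * (dd i * kap p' * (dd i)⁻¹) * (dd i * dd j) = _
    group
  let L : Subgroup G :=
    { carrier := {x | ∃ p, f p = x}
      one_mem' := fone
      mul_mem' := fun {x w} hx hw => fmul x w hx hw
      inv_mem' := fun {x} hx => by
        have hpow : ∀ n : ℕ, ∃ p, f p = x ^ n := by
          intro n
          induction n with
          | zero => rw [pow_zero]; exact fone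
          | succ n ih => rw [pow_succ]; exact fmul _ _ ih hx
        have he : x⁻¹ = x ^ (orderOf x - 1) := by
          refine inv_eq_of_mul_eq_one_right ?_
          rw [← pow_succ', Nat.sub_add_cancel (orderOf_pos x), pow_orderOf_eq_one]
        show ∃ p, f p = x⁻¹
        rw [he]; exact hpow _ }
  have hdC : ∀ (w : List Bool), (w.map gen).prod ∈ centralizer ({z} : Set G) ∧
      (w.map gen).prod ∈ normalizer (bigA F : Set G) ∧
      ∀ n < 8, Tt w n < 8 ∧ act (ρ (w.map gen).prod) (inW (dA n)) = inW (dA (Tt w n)) := by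
    intro w
    induction w with
    | nil => exact ⟨by simp [one_mem], by simp [one_mem], fun n hn => ⟨hn, by simp [Tt, S.ρ_one, act_one]⟩⟩
    | cons q w ih =>
      obtain ⟨hC, hN, hact⟩ := ih
      rw [List.map_cons, List.prod_cons]
      have hgC : gen q ∈ centralizer ({z} : Set G) := by cases q <;> [exact hbC; exact haC]
      have hgN : gen q ∈ normalizer (bigA F : Set G) := by cases q <;> [exact hbN; exact haN]
      refine ⟨mul_mem hgC hC, mul_mem hgN hN, fun n hn => ?_⟩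
      obtain ⟨hlt', he⟩ := hact n hn
      rw [S.ρ_mul _ hgC _ hC, act_mul, he]
      cases q
      · refine ⟨(sig_tables.2.1 _ hlt').2, ?_⟩
        show act (ρ b) _ = _
        rw [hbρ, t_forms.2, inW, xc_vmk, yc_vmk, pr_vmk, (sig_tables.2.1 _ hlt').1]
        rfl
      · refine ⟨(sig_tables.1 _ hlt').2, ?_⟩
        show act (ρ a) _ = _
        rw [haρ, t_forms.1, inW, xc_vmk, yc_vmk, pr_vmk, (sig_tables.1 _ hlt').1]
        rfl
  have hkapQ : ∀ e (m c : Fin 8), s ^ (e : ZMod 2).val * qg m * F.zi (lam c) 0 ∈ Q := fun e m c =>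
    mul_mem (C.v_inE e m.2).1 (F.zi_mem _ _).1
  have hkapρ : ∀ e (m c : Fin 8) x, act (ρ (kap (e, m, c))) x = sieg (dG c) x := fun e m c x => by
    show act (ρ (s ^ e.val * qg m * (F.zi (lam c) 0 * rg c))) x = _
    rw [← mul_assoc, S.ρ_mul _ (S.le (hkapQ e m c)) _ (C.rg_cz c.2).1, S.ρ_of_mem (hkapQ e m c), one_mul,
      F.rho_R' (C.gens.rg_trip.mem c c.2).1, show F.phi (rg c) = dG c from C.gens.rg_phi c c.2]
  have hkapC : ∀ p, kap p ∈ centralizer ({z} : Set G) := fun ⟨e, m, c⟩ =>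
    mul_mem (S.le (C.v_inE e m.2).1) (mul_mem (S.le (F.zi_mem _ _).1) (C.rg_cz c.2).1)
  have hfρ : ∀ e (m c i : Fin 8), ∀ n < 8,
      act (ρ (f ((e, m, c), i))) (inW (dA n)) = sieg (dG c) (inW (dA (Tt (W8 i) n))) := fun e m c i n hn => by
    show act (ρ (kap (e, m, c) * ((W8 i).map gen).prod)) _ = _
    rw [S.ρ_mul _ (hkapC _) _ (hdC _).1, act_mul, ((hdC _).2.2 n hn).2, hkapρ]
  have hfinj : Function.Injective f := by
    rintro ⟨⟨e, m, c⟩, i⟩ ⟨⟨e', m', c'⟩, j⟩ h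
    have hij : i = j := Tt_facts.2 i j fun n hn => by
      have h1 := congrArg (fun x => pr (act (ρ x) (inW (dA n)))) h
      simp only [hfρ _ _ _ _ n hn] at h1
      simp only [inW, sieg_perp _ (yc_vmk _ _ _), pr_vmk] at h1
      exact (dA_inj _ (Tt_facts.1 i n hn) _ (Tt_facts.1 j n hn)).1 h1
    subst hij
    have hk : kap (e, m, c) = kap (e', m', c') := mul_right_cancel h
    have hc : c = c' := by
      have h1 := congrArg (fun x => pr (act (ρ x) f0)) hk
      simp only [hkapρ, sieg_f0] at h1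
      exact Fin.ext ((dA_inj _ c.2 _ c'.2).2 h1)
    subst hc
    have hsm : s ^ e.val * qg m = s ^ e'.val * qg m' := mul_right_cancel hk
    have hv := congrArg v hsm
    rw [(C.v_inE e m.2).2, (C.v_inE e' m'.2).2] at hv
    have h1 := congrArg yc hv
    have h2 := congrArg pr hv
    rw [yc_vmk, yc_vmk] at h1
    rw [pr_vmk, pr_vmk] at h2
    rw [h1, Fin.ext ((dA_inj _ m.2 _ m'.2).2 h2)]
  refine ⟨L, ?_, ?_, ?_⟩
  · rintro x ⟨⟨⟨e, m, c⟩, i⟩, rfl⟩
    show s ^ e.val * qg m * (F.zi (lam c) 0 * rg c) * dd i ∈ _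
    refine mul_mem (mul_mem (mul_mem (pow_mem C.s_N _) (C.qg_N m.2)) (mul_mem ?_ (C.rg_N c.2))) (hdC _).2.1
    exact le_normalizer (C.gens.U_le (C.gens.zi_U _ _))
  · rw [eq_bot_iff]
    rintro x ⟨⟨⟨⟨e, m, c⟩, i⟩, rfl⟩, hxA⟩
    have hfix := C.gens.A_fix hxA
    have hi : i = 0 := Tt_facts.2 i 0 fun n hn => by
      have h1 := congrArg pr (hfix.2 n hn)
      rw [hfρ _ _ _ _ n hn, inW, inW, sieg_perp _ (yc_vmk _ _ _), pr_vmk, pr_vmk] at h1
      rw [(dA_inj _ (Tt_facts.1 i n hn) n hn).1 h1]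
      rfl
    subst hi
    have hc : c = 0 := Fin.ext ((by decide +kernel :
        ∀ c < 8, (∀ n < 8, xc (sieg (dG c) (inW (dA n))) = 0) → c = 0) c c.2 fun n hn => by
      have h1 := congrArg xc (hfix.2 n hn)
      rw [hfρ _ _ _ _ n hn, show Tt (W8 0) n = n from rfl] at h1
      exact h1.trans (xc_vmk _ _ _))
    subst hc
    have hxQ : f ((e, m, 0), 0) = s ^ e.val * qg m := by
      show s ^ e.val * qg m * rr 0 * dd 0 = _
      rw [rr0, hdd0, mul_one, mul_one]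
    rw [hxQ] at hxA ⊢
    obtain ⟨hQ, hv⟩ := C.v_inE e m.2
    have hU := C.gens.Q_cap hQ hxA
    have h1 := (C.P.mem_R.1 hU.1).2
    rw [hv, yc_vmk] at h1
    obtain ⟨n, hn, h2⟩ := dA_perp _ hU.2
    rw [hv, pr_vmk] at h2
    have hm0 := (by decide +kernel : ∀ m < 8, ∀ n < 8, dG m = dA n → m = 0) m m.2 n hn h2
    rw [h1, hm0, ZMod.val_zero, pow_zero, C.gens.qg_trip.one, one_mul]
    exact one_mem _
  · let e : ((ZMod 2 × Fin 8 × Fin 8) × Fin 8) → ↥L := fun p => ⟨f p, p, rfl⟩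
    have he : Function.Bijective e :=
      ⟨fun p q h => hfinj (congrArg Subtype.val h), fun ⟨x, p, hp⟩ => ⟨p, Subtype.ext hp⟩⟩
    rw [← Nat.card_eq_of_bijective e he]
    simp [Nat.card_prod]

/-- The normalizer splits over the subgroup. -/
theorem exists_complement (hcard : Nat.card ↥(normalizer (bigA C.gens.pt'' : Set G)) = 2048 * 244823040) :
    ∃ K : Subgroup ↥(normalizer (bigA C.gens.pt'' : Set G)),
      ((bigA C.gens.pt'').subgroupOf (normalizer (bigA C.gens.pt'' : Set G))).IsComplement' K := by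
  obtain ⟨L, hLN, hLA, hL⟩ := C.exists_sylow_part
  set N := normalizer (bigA C.gens.pt'' : Set G)
  set K0 := (bigA C.gens.pt'').subgroupOf N
  haveI : K0.Normal := normal_subgroupOf_iff_le_normalizer le_normalizer |>.2 le_rfl
  haveI : IsMulCommutative ↥K0 := ⟨⟨fun x w => Subtype.ext (Subtype.ext (C.A_cm x.2 w.2))⟩⟩
  set L0 := L.subgroupOf N
  have hinf : L0 ⊓ K0 = ⊥ := by
    rw [eq_bot_iff]
    rintro x ⟨h1, h2⟩
    have h : (x : G) ∈ (⊥ : Subgroup G) := hLA ▸ (⟨h1, h2⟩ : (x : G) ∈ L ⊓ bigA C.gens.pt'')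
    exact Subgroup.mem_bot.2 (Subtype.ext (Subgroup.mem_bot.1 h))
  have hK0 : Nat.card ↥K0 = 2048 := by
    rw [Nat.card_congr (subgroupOfEquivOfLe le_normalizer).toEquiv, C.card_A]
  have hL0 : Nat.card ↥L0 = 1024 := by rw [Nat.card_congr (subgroupOfEquivOfLe hLN).toEquiv, hL]
  have hU : 2048 * 1024 ≤ Nat.card ↥(K0 ⊔ L0) := by
    let j : ↥K0 × ↥L0 → ↥(K0 ⊔ L0) := fun p =>
      ⟨p.1 * p.2, mul_mem (mem_sup_left p.1.2) (mem_sup_right p.2.2)⟩
    have hj : Function.Injective j := fun p q e =>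
      Subgroup.mul_injective_of_disjoint (disjoint_iff.2 (by rw [inf_comm]; exact hinf)) (congrArg Subtype.val e)
    have := Nat.card_le_card_of_injective j hj
    rwa [Nat.card_prod, hK0, hL0] at this
  have hidx := (K0 ⊔ L0).card_mul_index
  rw [hcard] at hidx
  have hodd : (Nat.card ↥K0).Coprime (K0 ⊔ L0).index := by
    rw [hK0]
    have hUe : Nat.card ↥(K0 ⊔ L0) = 2048 * 1024 := by
      have hle : Nat.card ↥(K0 ⊔ L0) ≤ Nat.card ↥K0 * Nat.card ↥L0 := by
        have hs : ((K0 ⊔ L0 : Subgroup ↥N) : Set ↥N) = (K0 : Set ↥N) * (L0 : Set ↥N) := Subgroup.normal_mul K0 L0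
        rw [← Nat.card_prod]
        refine Nat.card_le_card_of_surjective (fun p : ↥K0 × ↥L0 =>
          (⟨p.1 * p.2, mul_mem (mem_sup_left p.1.2) (mem_sup_right p.2.2)⟩ : ↥(K0 ⊔ L0))) ?_
        rintro ⟨x, hx⟩
        rw [← SetLike.mem_coe, hs] at hx
        obtain ⟨k, hk, l, hl, rfl⟩ := hx
        exact ⟨(⟨k, hk⟩, ⟨l, hl⟩), rfl⟩
      rw [hK0, hL0] at hle
      omega
    rw [hUe] at hidx
    have : (K0 ⊔ L0).index = 239085 := by omega
    rw [this]
    decide +kernel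
  exact CfsgLib.Coprime.gaschutz_exists (⟨le_sup_right, hinf, rfl⟩ : CfsgLib.Coprime.GzData K0 (K0 ⊔ L0) L0) hodd

end Co

end

end CfsgLib.Spor.CoOneGolay
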