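import Cfsg.Agent.Lib.Spor.CoOneGolay.Image
import Cfsg.Agent.Lib.Spor.CoOneGolay.Split
import Cfsg.Prelude.Def_Transfer

/-!
# The two-local subgroup with the code automorphisms
-/

set_option autoImplicit false
set_option synthInstance.maxSize 4096
set_option maxRecDepth 100000

namespace CfsgLib.Spor.CoOneGolay

open Subgroup CfsgLib.Spor CfsgLib.Spor.CoOneClasses
open CfsgLib.Spor.CoOneType (Vec Iso8 Setup)

noncomputable section

theorem other_index : cand 2 68 = false ∧ cand 2 1 = true := by decide +kernel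

variable {G : Type*} [Group G] [Finite G] {z : G} {Q : Subgroup G} {v : G → Vec} {ρ : G → Iso8}

/-- The elementary abelian subgroup of order two to the eleventh and its normalizer. -/
theorem golay_two_local (S : Setup z Q v ρ) {k : G} (hQ : k * z * k⁻¹ ∈ Q) (hne : k * z * k⁻¹ ≠ z) :
    ∃ A : Subgroup G, Cfsg.IsElementaryAbelian 2 A ∧ Nat.card A = 2 ^ 11 ∧ z ∈ A ∧
      ∃ _ : (A.subgroupOf (normalizer (A : Set G))).Normal,
        Nonempty (↥(normalizer (A : Set G)) ⧸ A.subgroupOf (normalizer (A : Set G)) ≃* ↥Cfsg.M24) ∧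
        (∃ K : Subgroup ↥(normalizer (A : Set G)), (A.subgroupOf (normalizer (A : Set G))).IsComplement' K) ∧
        ∃ a ∈ A, ∃ b ∈ A, a ≠ 1 ∧ b ≠ 1 ∧ (∀ n ∈ normalizer (A : Set G), n * a * n⁻¹ ≠ b) ∧
          ∀ c ∈ A, c ≠ 1 → ∃ n ∈ normalizer (A : Set G), n * c * n⁻¹ = a ∨ n * c * n⁻¹ = b := by
  obtain ⟨v', ρ', g, y, fr⟩ := exists_frame S hQ hne
  obtain ⟨d, h, s, qe, qg, re, rg, xe, C⟩ := exists_co fr
  set A := bigA C.gens.pt'' with hA
  set N := normalizer (A : Set G)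
  haveI hn : (A.subgroupOf N).Normal := normal_subgroupOf_iff_le_normalizer le_normalizer |>.2 le_rfl
  have hcard : Nat.card ↥N = 2048 * 244823040 := by
    rw [Subgroup.card_eq_card_quotient_mul_card_subgroup C.toM24.ker,
      Nat.card_congr (QuotientGroup.quotientKerEquivOfSurjective C.toM24 C.toM24_surj).toEquiv, card_M24,
      C.toM24_ker, Nat.card_congr (subgroupOfEquivOfLe le_normalizer).toEquiv, C.card_A]
  obtain ⟨K, hK⟩ := C.exists_complement hcard
  refine ⟨A, ⟨⟨⟨fun x w => Subtype.ext (C.A_cm x.2 w.2)⟩⟩, fun a ha => by rw [pow_two]; exact C.A_sq ha⟩,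
    by rw [C.card_A]; norm_num, C.gens.U_le C.gens.z_U, hn,
    ⟨(QuotientGroup.quotientMulEquivOfEq C.toM24_ker.symm).trans
      (QuotientGroup.quotientKerEquivOfSurjective C.toM24 C.toM24_surj)⟩,
    ⟨K, hK⟩, z, C.gens.U_le C.gens.z_U, C.el 68, C.el_mem 68, C.P.setup.z_ne, ?_, ?_, ?_⟩
  · intro e
    exact absurd (C.el_eq_one (by norm_num) e) (by norm_num)
  · intro n _ e
    have hz : C.Zc 68 := isConj_iff.2 ⟨n, e⟩
    rw [C.zc_final 68 (by norm_num), other_index.1] at hz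
    exact Bool.false_ne_true hz
  · intro c hc hc1
    obtain ⟨n, hnl, rfl⟩ := C.el_surj hc
    have hn0 : n ≠ 0 := fun e => hc1 (by rw [e, C.el_zero])
    cases hcn : cand 2 n with
    | true =>
      obtain ⟨m, hm, e⟩ := C.orb_all hnl hcn
      exact ⟨m⁻¹, inv_mem hm, Or.inl (by rw [← e]; group)⟩
    | false =>
      obtain ⟨m, hm, e⟩ := C.other_orbit hnl (by norm_num : 68 < 2048) hn0 (by norm_num) hcn other_index.1
      exact ⟨m, hm, Or.inr e⟩

end

end CfsgLib.Spor.CoOneGolay
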