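import Cfsg.Agent.Lib.Spor.CoOneGolay.Coord

/-!
# Elements of the normalizer in coordinates
-/

set_option autoImplicit false
set_option synthInstance.maxSize 4096
set_option maxRecDepth 100000

namespace CfsgLib.Spor.CoOneGolay

open Subgroup CfsgLib.Spor.CoOneClasses
open CfsgLib.Spor.CoOneType (Vec qf Iso8 Om Setup mem_cz conj_eq_iff_comm act act_one act_mul act_add act_injective
  qf_act pol_act iso_ext two_cases qf_nd)

noncomputable section

/-- The element of order seven on numbers. -/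
def dT (n : ℕ) : ℕ := n % 4 + 4 * mA (fa n) + 32 * mA (fb' n) + 256 * mX (fx n)

/-- The element of order three on numbers. -/
def hT (n : ℕ) : ℕ := n % 4 + 4 * sA (fa n) + 32 * sA (fb' n) + 256 * sX (fx n)

/-- The partner on numbers. -/
def sT (n : ℕ) : ℕ := n ^^^ (4 * fb' n) ^^^ ((n / 2) % 2)

/-- The polar form between the two three-spaces on numbers. -/
def pb (m a : ℕ) : ℕ := ([0, 1, 1, 0, 1, 0, 0, 1] : List ℕ).getD (m &&& a) 0

/-- A translation of the first part on numbers. -/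
def qM (m n : ℕ) : ℕ :=
  n ^^^ ([0, 1, 17, 0, 9].getD m 0) ^^^ pb m (fa n) ^^^ pb m (fb' n) ^^^ 2 * pb m (fb' n)

/-- A translation of the second part on numbers. -/
def rM (m n : ℕ) : ℕ :=
  n ^^^ ([0, 2, 130, 0, 66].getD m 0) ^^^ pb m (fa n) ^^^ 2 * pb m (fa n) ^^^ 2 * pb m (fb' n)

/-- The displacement of the opposite space. -/
def dl (g : ℕ) : ℕ := [0, 0, 4, 4, 2, 2, 6, 6].getD g 0

theorem pb_spec : ∀ m < 8, ∀ a < 8, bv (pl6 (dG m) (dA a)) = pb m a ∧ bv (pl6 (dA a) (dG m)) = pb m a := by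
  decide +kernel

theorem dl_spec : ∀ g < 8, sig e0 e1 (dG g) + dG g = dA (dl g) ∧ dl g < 8 := by decide +kernel

theorem dT_parts : (∀ n < 2048, dT (n % 4) ^^^ dT (4 * fa n) ^^^ dT (32 * fb' n) ^^^ dT (256 * fx n) = dT n) ∧
    (∀ n < 2048, hT (n % 4) ^^^ hT (4 * fa n) ^^^ hT (32 * fb' n) ^^^ hT (256 * fx n) = hT n) ∧
    (∀ n < 2048, sT (n % 4) ^^^ sT (4 * fa n) ^^^ sT (32 * fb' n) ^^^ sT (256 * fx n) = sT n) := by decide +kernel

variable {G : Type*} [Group G] [Finite G] {z : G} {Q : Subgroup G} {v : G → Vec} {ρ : G → Iso8} {g y d h s : G}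
  {qe qg re rg xe : ℕ → G}

namespace Co

variable (C : Co z Q v ρ g y d h s qe qg re rg xe)
include C

/-- An element normalizing the part in the extraspecial group normalizes the subgroup. -/
theorem norm_A {k : G} (hk : ∀ q ∈ isoR C.gens.pt'' dA, k⁻¹ * q * k ∈ isoR C.gens.pt'' dA) {a : G}
    (ha : a ∈ bigA C.gens.pt'') : k * a * k⁻¹ ∈ bigA C.gens.pt'' := by
  refine mem_centralizer_iff.2 fun q hq => ?_
  have e := mem_centralizer_iff.1 ha _ (hk q hq)
  calc q * (k * a * k⁻¹) = k * ((k⁻¹ * q * k) * a) * k⁻¹ := by group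
    _ = k * (a * (k⁻¹ * q * k)) * k⁻¹ := by rw [e]
    _ = _ := by group

theorem zi_conj {k : G} (hk : k ∈ centralizer ({z} : Set G)) (hki : k ∈ centralizer ({C.gens.pt''.pt} : Set G))
    (i j : ZMod 2) : k * C.gens.pt''.zi i j * k⁻¹ = C.gens.pt''.zi i j :=
  conj_eq_iff_comm.2 (C.gens.pt''.zi_comm hk hki i j)

theorem d_el : ∀ n < 2048, d * C.el n * d⁻¹ = C.el (dT n) := by
  refine C.conj_parts d dT dT_parts.1 (fun i j => ?_) (fun a ha => ?_) (fun b hb => ?_) fun x hx => ?_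
  · rw [C.zi_conj C.gens.sev.d_cz C.gens.sev.d_ci,
      (by decide +kernel : ∀ i j : ZMod 2, dT (bv i + 2 * bv j) = bv i + 2 * bv j) i j, C.el_zi]
  · rw [C.gens.qe_trip.d_q a ha, (by decide +kernel : ∀ a < 8, dT (4 * a) = 4 * mA a) a ha,
      C.el_qe (table_lt mA (by simp) a ha)]
  · rw [C.gens.re_trip.d_q b hb, (by decide +kernel : ∀ b < 8, dT (32 * b) = 32 * mA b) b hb,
      C.el_re (table_lt mA (by simp) b hb)]
  · rw [C.xe_trip.d_q x hx, (by decide +kernel : ∀ x < 8, dT (256 * x) = 256 * mX x) x hx,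
      C.el_xe (table_lt mX (by simp) x hx)]

theorem h_el : ∀ n < 2048, h * C.el n * h⁻¹ = C.el (hT n) := by
  refine C.conj_parts h hT dT_parts.2.1 (fun i j => ?_) (fun a ha => ?_) (fun b hb => ?_) fun x hx => ?_
  · rw [C.zi_conj C.gens.sev.h_cz C.gens.sev.h_ci,
      (by decide +kernel : ∀ i j : ZMod 2, hT (bv i + 2 * bv j) = bv i + 2 * bv j) i j, C.el_zi]
  · rw [C.gens.qe_trip.h_q a ha, (by decide +kernel : ∀ a < 8, hT (4 * a) = 4 * sA a) a ha,
      C.el_qe (table_lt sA (by simp) a ha)]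
  · rw [C.gens.re_trip.h_q b hb, (by decide +kernel : ∀ b < 8, hT (32 * b) = 32 * sA b) b hb,
      C.el_re (table_lt sA (by simp) b hb)]
  · rw [C.xe_trip.h_q x hx, (by decide +kernel : ∀ x < 8, hT (256 * x) = 256 * sX x) x hx,
      C.el_xe (table_lt sX (by simp) x hx)]

/-- An equivariant family in the four group is trivial. -/
theorem zi_vanish {M : ℕ → ℕ} (hM : M ∈ [mA, mG, mX]) {w : ℕ → G}
    (hw : ∀ n < 8, ∃ i j, w n = C.gens.pt''.zi i j) (hadd : ∀ m < 8, ∀ n < 8, w (m ^^^ n) = w m * w n)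
    (hd : ∀ n < 8, d * w n * d⁻¹ = w (M n)) : ∀ n < 8, w n = 1 := by
  classical
  choose I J hIJ using hw
  let f : ℕ → ZMod 2 := fun n => if h : n < 8 then I n h else 0
  let f' : ℕ → ZMod 2 := fun n => if h : n < 8 then J n h else 0
  have hwf : ∀ n < 8, w n = C.gens.pt''.zi (f n) (f' n) := fun n hn => by
    simp only [f, f', dif_pos hn]; exact hIJ n hn
  have hM' := table_lt M (by simp only [List.mem_cons] at hM ⊢; tauto)
  have h1 : ∀ m < 8, ∀ n < 8, f (m ^^^ n) = f m + f n ∧ f' (m ^^^ n) = f' m + f' n := fun m hm n hn => by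
    have h := hadd m hm n hn
    rw [hwf _ (xor_tables.1 m hm n hn).2.2.2.2, hwf m hm, hwf n hn, C.gens.pt''.zi_add] at h
    exact C.gens.pt''.zi_inj h
  have h2 : ∀ n < 8, f (M n) = f n ∧ f' (M n) = f' n := fun n hn => by
    have h := hd n hn
    rw [hwf n hn, C.zi_conj C.gens.sev.d_cz C.gens.sev.d_ci, hwf _ (hM' n hn)] at h
    exact C.gens.pt''.zi_inj h.symm
  intro n hn
  rw [hwf n hn, inv_zero hM (fun m hm n hn => (h1 m hm n hn).1) (fun n hn => (h2 n hn).1) n hn,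
    inv_zero hM (fun m hm n hn => (h1 m hm n hn).2) (fun n hn => (h2 n hn).2) n hn, C.gens.pt''.zi_zero]

theorem xc_qe : ∀ n < 8, xc (v (qe n)) = 0 := by
  have hm := fun n hn => (C.gens.qe_trip.mem n hn).1.1
  refine inv_zero (M := mA) (by simp) (fun m hm' n hn => ?_) fun n hn => ?_
  · rw [C.gens.qe_trip.xor m hm' n hn, C.P.setup.v_mul _ (hm m hm') _ (hm n hn), xc_add]
  · rw [← C.gens.qe_trip.d_q n hn, C.gens.sev.xc_d (hm n hn)]

theorem v_qe {n : ℕ} (hn : n < 8) : v (qe n) = inW (dA n) := by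
  rw [C.gens.pt''.v_of_R (C.gens.qe_trip.mem n hn).1, C.xc_qe n hn, C.gens.qe_pr n hn]; rfl

theorem s_el : ∀ n < 2048, s * C.el n * s⁻¹ = C.el (sT n) := by
  have F := C.gens.pt''
  have K := C.gens.sev
  have hsC : s ∈ centralizer ({z} : Set G) := C.P.setup.le K.s_mem
  have hsd : ∀ a : G, d * (s * a * s⁻¹) * d⁻¹ = s * (d * a * d⁻¹) * s⁻¹ := fun a => by
    calc d * (s * a * s⁻¹) * d⁻¹ = (d * s) * a * (d * s)⁻¹ := by group
      _ = (s * d) * a * (s * d)⁻¹ := by rw [K.s_d]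
      _ = _ := by group
  have hzi : ∀ i j, s * F.zi i j * s⁻¹ = F.zi (i + j) j := fun i j => by
    rw [conj_Q C.P.setup (F.zi_mem i j).1 K.s_mem, F.v_zi, pl_smul_right, K.s_v, pl_w0, yc_f0, mul_one]
    rcases two_cases j with rfl | rfl
    · rw [ZMod.val_zero, pow_zero, mul_one, add_zero]
    · rw [ZMod.val_one, pow_one]
      rw [show F.zi i 1 * z = F.zi i 1 * F.zi 1 0 by rw [F.zi_z], F.zi_add, add_zero]
  have hqe : ∀ a < 8, s * qe a * s⁻¹ = qe a := fun a ha => by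
    rw [conj_Q C.P.setup (C.gens.qe_trip.mem a ha).1.1 K.s_mem, K.s_v, C.v_qe ha, pl_comm, pl_f0]
    show qe a * z ^ (xc (vmk 0 0 _)).val = _
    rw [xc_vmk, ZMod.val_zero, pow_zero, mul_one]
  refine C.conj_parts s sT dT_parts.2.2 (fun i j => ?_) (fun a ha => ?_) (fun b hb => ?_) fun x hx => ?_
  · rw [hzi, ← C.el_zi, (by decide +kernel : ∀ i j : ZMod 2, sT (bv i + 2 * bv j) = bv (i + j) + 2 * bv j) i j]
  · rw [hqe a ha, (by decide +kernel : ∀ a < 8, sT (4 * a) = 4 * a) a ha, C.el_qe ha]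
  · have key : ∀ b < 8, (re b)⁻¹ * (s * re b * s⁻¹) * qe b = 1 := by
      have hc : ∀ b < 8, (re b)⁻¹ * (s * re b * s⁻¹) ∈ isoR F dA ∧
          pr (v ((re b)⁻¹ * (s * re b * s⁻¹))) = dA b := fun b hb => by
        obtain ⟨q', hq', hp, e⟩ := F.partner_conj (C.gens.re_trip.mem b hb).1 K.s_mem K.s_v
        have e' : (re b)⁻¹ * (s * re b * s⁻¹) = q' := by rw [e]; group
        rw [e']
        rw [show F.phi (re b) = dA b from C.gens.re_phi b hb] at hp
        exact ⟨⟨hq', fun n hn => by rw [hp, tot_A.pol b hb n hn]⟩, hp⟩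
      refine C.zi_vanish (M := mA) (by simp) (fun b hb => ?_) (fun m hm n hn => ?_) fun b hb => ?_
      · exact F.zi_of_zero (mul_mem (hc b hb).1.1 (C.gens.qe_trip.mem b hb).1) (by
          rw [F.pr_mul (hc b hb).1.1.1 (C.gens.qe_trip.mem b hb).1.1, (hc b hb).2, C.gens.qe_pr b hb, w6_add_self])
      · have hq := C.gens.qe_A hm
        have hcm := C.gens.U_le (hc m hm).1
        have h1 := C.gens.qe_trip.xor m hm n hn
        have h2 := C.gens.re_trip.xor m hm n hn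
        have hn' := C.gens.re_A hn
        have e1 := C.A_cm hcm hn'
        have e2 := C.A_cm (C.gens.U_le (hc n hn).1) hq
        calc (re (m ^^^ n))⁻¹ * (s * re (m ^^^ n) * s⁻¹) * qe (m ^^^ n)
            = (re n)⁻¹ * ((re m)⁻¹ * (s * re m * s⁻¹) * re n) * ((re n)⁻¹ * (s * re n * s⁻¹)) * (qe m * qe n) := by
              rw [h1, h2]; group
          _ = (re n)⁻¹ * (re n * ((re m)⁻¹ * (s * re m * s⁻¹))) * ((re n)⁻¹ * (s * re n * s⁻¹) * qe m) * qe n := by
              rw [e1]; group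
          _ = (re m)⁻¹ * (s * re m * s⁻¹) * (qe m * ((re n)⁻¹ * (s * re n * s⁻¹))) * qe n := by
              rw [← e2]; group
          _ = _ := by group
      · rw [← C.gens.re_trip.d_q b hb, ← C.gens.qe_trip.d_q b hb, ← hsd]
        group
    have h := key b hb
    have e : s * re b * s⁻¹ = re b * qe b := by
      calc s * re b * s⁻¹ = re b * ((re b)⁻¹ * (s * re b * s⁻¹) * qe b) * (qe b)⁻¹ := by group
        _ = _ := by rw [h, mul_one, inv_eq_of_mul_eq_one_right (C.A_sq (C.gens.qe_A hb))]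
    rw [e, (by decide +kernel : ∀ b < 8, sT (32 * b) = 32 * b ^^^ 4 * b) b hb, C.el_xor, C.el_re hb, C.el_qe hb]
  · have hxm : ∀ x < 8, s * xe x * s⁻¹ * (xe x)⁻¹ ∈ Q := fun x hx => by
      rw [show s * xe x * s⁻¹ * (xe x)⁻¹ = s * (xe x * s⁻¹ * (xe x)⁻¹) by group]
      exact mul_mem K.s_mem (C.P.setup.norm (C.gens.A_cz (C.xe_trip.mem x hx)).1 (inv_mem K.s_mem))
    have hnorm : ∀ q ∈ isoR F dA, s⁻¹ * q * s ∈ isoR F dA := fun q hq => by
      obtain ⟨i, j, n, hn, rfl⟩ := C.gens.mem_U hq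
      have e : s⁻¹ * (F.zi i j * qe n) * s = F.zi (i + j) j * qe n := by
        have e1 : s * (F.zi (i + j) j * qe n) * s⁻¹ = F.zi i j * qe n := by
          calc s * (F.zi (i + j) j * qe n) * s⁻¹ = (s * F.zi (i + j) j * s⁻¹) * (s * qe n * s⁻¹) := by group
            _ = _ := by rw [hzi, hqe n hn, add_assoc, CharTwo.add_self_eq_zero, add_zero]
        rw [← e1]; group
      rw [e]
      exact mul_mem (C.gens.zi_U _ _) (C.gens.qe_trip.mem n hn)
    have key := C.zi_vanish (M := mX) (by simp) (w := fun x => s * xe x * s⁻¹ * (xe x)⁻¹) (fun x hx => ?_)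
      (fun m hm n hn => ?_) (fun x hx => ?_) x hx
    · rw [mul_inv_eq_one.1 key, (by decide +kernel : ∀ x < 8, sT (256 * x) = 256 * x) x hx, C.el_xe hx]
    · have hA := C.norm_A hnorm (C.xe_trip.mem x hx)
      have hU := C.gens.Q_cap (hxm x hx) (mul_mem hA (inv_mem (C.xe_trip.mem x hx)))
      refine F.zi_of_zero hU.1 ?_
      have hc := (C.gens.A_cz (C.xe_trip.mem x hx)).1
      rw [show s * xe x * s⁻¹ * (xe x)⁻¹ = s * (xe x * s⁻¹ * (xe x)⁻¹) by group,
        F.setup.v_mul _ K.s_mem _ (F.setup.norm hc (inv_mem K.s_mem)), pr_add, F.setup.ρ_act _ hc _ (inv_mem K.s_mem),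
        F.setup.v_inv K.s_mem, K.s_v, C.xe_ρ x hx]
      exact (by decide +kernel : ∀ x < 8, pr f0 + pr (tXf x f0) = 0) x hx
    · show s * xe (m ^^^ n) * s⁻¹ * (xe (m ^^^ n))⁻¹ = _
      rw [C.xe_trip.xor m hm n hn]
      have e := C.A_cm (mul_mem (C.norm_A hnorm (C.xe_trip.mem n hn)) (inv_mem (C.xe_trip.mem n hn)))
        (inv_mem (C.xe_trip.mem m hm))
      calc s * (xe m * xe n) * s⁻¹ * (xe m * xe n)⁻¹
          = s * xe m * s⁻¹ * (s * xe n * s⁻¹ * (xe n)⁻¹ * (xe m)⁻¹) := by group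
        _ = s * xe m * s⁻¹ * ((xe m)⁻¹ * (s * xe n * s⁻¹ * (xe n)⁻¹)) := by rw [e]
        _ = _ := by group
    · show d * (s * xe x * s⁻¹ * (xe x)⁻¹) * d⁻¹ = _
      rw [← C.xe_trip.d_q x hx, ← hsd]; group

/-- The translations by the opposite space normalize the part in the extraspecial group. -/
theorem qg_U {m : ℕ} (hm : m < 8) : ∀ q ∈ isoR C.gens.pt'' dA, (qg m)⁻¹ * q * qg m ∈ isoR C.gens.pt'' dA := by
  intro q hq
  have hR := inv_mem (C.gens.qg_trip.mem m hm).1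
  have e := C.gens.pt''.conj_R hR hq.1
  rw [inv_inv] at e
  rw [e]
  exact mul_mem (C.gens.zi_U _ _) hq

theorem rg_U {m : ℕ} (hm : m < 8) : ∀ q ∈ isoR C.gens.pt'' dA, (rg m)⁻¹ * q * rg m ∈ isoR C.gens.pt'' dA := by
  intro q hq
  have h := C.gens.pt''.swap_rule hq.1 (C.gens.rg_trip.mem m hm).1
  have hc := C.gens.pt''.zi_comm (C.gens.pt''.R'_cz (C.gens.rg_trip.mem m hm).1)
    (C.gens.pt''.R'_ci (C.gens.rg_trip.mem m hm).1)
  have e : (rg m)⁻¹ * q * rg m = C.gens.pt''.zi (pl6 (pr (v q)) (C.gens.pt''.phi (rg m)))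
      (pl6 (pr (v q)) (C.gens.pt''.phi (rg m))) * q := by
    set p := pl6 (pr (v q)) (C.gens.pt''.phi (rg m))
    have hqr : q * rg m = C.gens.pt''.zi p p * (rg m * q) := by
      rw [h, ← mul_assoc (C.gens.pt''.zi p p), C.gens.pt''.zi_add, CharTwo.add_self_eq_zero, C.gens.pt''.zi_zero,
        one_mul]
    calc (rg m)⁻¹ * q * rg m = (rg m)⁻¹ * (q * rg m) := mul_assoc _ _ _
      _ = (rg m)⁻¹ * (C.gens.pt''.zi p p * rg m) * q := by rw [hqr]; group
      _ = (rg m)⁻¹ * (rg m * C.gens.pt''.zi p p) * q := by rw [hc]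
      _ = _ := by group
  rw [e]
  exact mul_mem (C.gens.zi_U _ _) hq

/-- An element of the second part inside the subgroup. -/
theorem R'_cap {r : G} (hr : r ∈ C.gens.pt''.R') (ha : r ∈ bigA C.gens.pt'') {b : ℕ} (hb : b < 8)
    (hp : C.gens.pt''.phi r = dA b) : ∃ i j, r = C.el (bv i + 2 * bv j + 32 * b) := by
  obtain ⟨i, j, e⟩ := C.gens.pt''.phi_eq (C.gens.re_trip.mem b hb).1 hr ((C.gens.re_phi b hb).trans hp.symm)
  refine ⟨i, j, ?_⟩
  have h := C.el_of i j (a := 0) (b := b) (x := 0) (by norm_num) hb (by norm_num)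
  rw [C.gens.qe_trip.one, C.xe_trip.one, mul_one, mul_one] at h
  rw [e, C.gens.pt''.central_R' (C.gens.re_trip.mem b hb).1]
  simpa using h.symm

end Co

end

end CfsgLib.Spor.CoOneGolay
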