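import Cfsg.Agent.Lib.Spor.CoOneGolay.Rule

/-!
# An element of the normalizer exchanging the two points

The second part is carried into the extraspecial group at the first point. The other family of singular three-spaces
is impossible, as there the centralizer is not abelian.
-/

set_option autoImplicit false
set_option synthInstance.maxSize 4096
set_option maxRecDepth 100000

namespace CfsgLib.Spor.CoOneGolay

open Subgroup CfsgLib.Spor.CoOneClasses
open CfsgLib.Spor.CoOneType (Vec qf Iso8 Om Setup mem_cz conj_eq_iff_comm act act_one act_mul act_add act_injective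
  qf_act pol_act iso_ext two_cases qf_nd)

noncomputable section

/-- The second family of three-spaces. -/
def dB (n : ℕ) : W6 := sw2 (dA n)

theorem third_vector : ∀ u : W6, q6 u = 0 → pl6 u e0 = 0 → pl6 u e1 = 0 → u ≠ 0 → u ≠ e0 → u ≠ e1 → u ≠ e0 + e1 →
    (∃ n < 8, u = dA n) ∨ ∃ n < 8, u = dB n := by decide +kernel

theorem dB_facts : dB 2 = e0 ∧ dB 4 = e1 ∧ dB 0 = 0 ∧ (∀ m < 8, ∀ n < 8, dB (m ^^^ n) = dB m + dB n ∧ (dB m = dB n → m = n)) ∧
    (∀ u : W6, (∀ n < 8, pl6 u (dB n) = 0) → ∃ n < 8, u = dB n) ∧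
    (∀ n < 8, pl6 (dB n) e0 = 0 ∧ pl6 (dB n) e1 = 0 ∧ pl6 (dB n) (dG 1) = 0 ∧ sw2 (dB n) = dA n) := by
  decide +kernel

theorem dG_form : pl6 (dG 1) e0 = 0 ∧ pl6 (dG 1) e1 = 0 ∧ pl6 e2 (dG 1) = 1 := by decide +kernel

variable {G : Type*} [Group G] [Finite G] {z : G} {Q : Subgroup G} {v : G → Vec} {ρ : G → Iso8} {g y d h s : G}
  {qe qg re rg xe : ℕ → G}

namespace Co

variable (C : Co z Q v ρ g y d h s qe qg re rg xe)
include C

/-- An element exchanging the points and carrying the second part into one of the two kinds of three-spaces. -/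
theorem exchange_pair : ∃ k : G, k * z * k⁻¹ = C.gens.pt''.pt ∧ k * C.gens.pt''.pt * k⁻¹ = z ∧ ∃ D : ℕ → W6,
    (D = dA ∨ D = dB) ∧ ∀ b < 8, k * re b * k⁻¹ ∈ C.gens.pt''.R ∧ ∃ n < 8, pr (v (k * re b * k⁻¹)) = D n := by
  set F := C.gens.pt''
  have S := F.setup
  have hF : F.pt = g * z * g⁻¹ := rfl
  have ht : g⁻¹ * z * g ∈ Q := mem_map_conj.1 F.z_mem
  have ht2 : g⁻¹ * z * g * (g⁻¹ * z * g) = 1 := by
    rw [show g⁻¹ * z * g * (g⁻¹ * z * g) = g⁻¹ * (z * z) * g by group, S.zz]; group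
  have ht1 : g⁻¹ * z * g ≠ 1 := fun e => S.z_ne (by
    calc z = g * (g⁻¹ * z * g) * g⁻¹ := by group
      _ = 1 := by rw [e]; group)
  have htz : g⁻¹ * z * g ≠ z := fun e => F.pt_ne (by
    rw [hF]
    calc g * z * g⁻¹ = g * (g⁻¹ * z * g) * g⁻¹ := by rw [e]
      _ = z := by group)
  obtain ⟨c, hc, hct⟩ := S.inv_conj ht F.mem ht2 F.pp (S.v_ne ht ht1 htz) (S.v_ne F.mem F.pt_ne_one F.pt_ne)
  set m := c * g⁻¹ with hm
  have hmz : m * z * m⁻¹ = F.pt := by rw [hm, hF, ← hct]; group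
  have hmp : m * F.pt * m⁻¹ = z := by
    rw [hm, hF, show c * g⁻¹ * (g * z * g⁻¹) * (c * g⁻¹)⁻¹ = c * z * c⁻¹ by group]
    exact conj_eq_iff_comm.2 (mem_cz.1 hc)
  have hR : ∀ b < 8, m * re b * m⁻¹ ∈ F.R := by
    intro b hb
    have hr := (C.gens.re_trip.mem b hb).1
    refine ⟨?_, mem_cz.2 ?_⟩
    · rw [show m * re b * m⁻¹ = c * (g⁻¹ * re b * g) * c⁻¹ by rw [hm]; group]
      exact S.norm hc (mem_map_conj.1 hr.1)
    · rw [← hmz, show m * re b * m⁻¹ * (m * z * m⁻¹) = m * (re b * z) * m⁻¹ by group, mem_cz.1 hr.2]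
      group
  set a : ℕ → W6 := fun b => pr (v (m * re b * m⁻¹)) with ha
  have hxlt := fun b (hb : b < 8) c (hc : c < 8) => (xor_tables.1 b hb c hc).2.2.2.2
  have hadd : ∀ b < 8, ∀ c < 8, a (b ^^^ c) = a b + a c := fun b hb c hc => by
    simp only [ha]
    rw [C.gens.re_trip.xor b hb c hc, show m * (re b * re c) * m⁻¹ = (m * re b * m⁻¹) * (m * re c * m⁻¹) by group,
      F.pr_mul (hR b hb).1 (hR c hc).1]
  have hq : ∀ b < 8, q6 (a b) = 0 := by
    intro b hb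
    have e : m * re b * m⁻¹ * (m * re b * m⁻¹) = 1 := by
      rw [show m * re b * m⁻¹ * (m * re b * m⁻¹) = m * (re b * re b) * m⁻¹ by group,
        C.A_sq (C.gens.re_A hb)]
      group
    rw [F.sq_R (hR b hb)] at e
    exact (F.zi_eq_one e).1
  have hpl : ∀ b < 8, ∀ c < 8, pl6 (a b) (a c) = 0 := fun b hb c hc => by
    have e := hq _ (hxlt b hb c hc)
    rw [hadd b hb c hc, q6_add, hq b hb, hq c hc, add_zero, zero_add] at e
    exact e
  have hne : ∀ b < 8, b ≠ 0 → a b ≠ 0 := by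
    intro b hb hb0 e
    obtain ⟨i, j, e'⟩ := F.zi_of_zero (hR b hb) e
    have hzi : re b = F.zi j i := by
      refine mul_left_cancel (a := m) (mul_right_cancel (b := m⁻¹) ?_)
      rw [e']
      show z ^ i.val * F.pt ^ j.val = _
      rw [show F.zi j i = z ^ j.val * F.pt ^ i.val from rfl,
        show m * (z ^ j.val * F.pt ^ i.val) * m⁻¹ = (m * z ^ j.val * m⁻¹) * (m * F.pt ^ i.val * m⁻¹) by group,
        ← conj_pow, ← conj_pow, hmz, hmp]
      exact ((show Commute F.pt z from F.pz).pow_pow _ _).eq.symm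
    have hp : F.phi (re b) = dA b := C.gens.re_phi b hb
    rw [hzi, F.phi_zi] at hp
    exact hb0 ((dA_inj _ hb 0 (by norm_num)).1 (hp.symm.trans dA_vals.2.2.2.2.2.2.1.symm))
  obtain ⟨w, hw, hwa⟩ := sing_reach (a 2) (hq 2 (by norm_num)) (hne 2 (by norm_num) (by norm_num))
  have hadm := singTbl_adm w hw
  have hwf : ∀ u, u ≠ 0 → wf w u ≠ 0 := fun u hu e => wf_ne hadm hu (e.trans wf_zero.symm)
  obtain ⟨w', hw', hwc⟩ := sing2_reach (wf w (a 4)) (by rw [q6_wf w hadm, hq 4 (by norm_num)])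
    (hwf _ (hne 4 (by norm_num) (by norm_num)))
    (fun e => by
      refine hwf (a 6) (hne 6 (by norm_num) (by norm_num)) ?_
      rw [show (6 : ℕ) = 2 ^^^ 4 from rfl, hadd 2 (by norm_num) 4 (by norm_num), wf_add, hwa, e, w6_add_self])
    (by rw [← hwa, pl6_wf w hadm, hpl 2 (by norm_num) 4 (by norm_num)])
  have hadm' := sing2Tbl_adm w' hw'
  have hadm'' : ∀ p ∈ w', Adm p := fun p hp => (hadm' p hp).1
  set f : W6 → W6 := fun u => wf w' (wf w u) with hf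
  have hfadd : ∀ u u', f (u + u') = f u + f u' := fun u u' => by simp only [hf, wf_add]
  have hfne : ∀ u, u ≠ 0 → f u ≠ 0 := fun u hu e => wf_ne hadm'' (hwf u hu) (e.trans wf_zero.symm)
  have h2 : f (a 2) = e0 := by simp only [hf]; rw [hwa, wf_fix w' fun p hp => (hadm' p hp).2]
  have h4 : f (a 4) = e1 := hwc
  have h1n : ∀ b < 8, b ≠ 0 → f (a b) ≠ 0 := fun b hb hb0 => hfne _ (hne b hb hb0)
  have hsum : ∀ b < 8, ∀ c < 8, f (a (b ^^^ c)) = f (a b) + f (a c) := fun b hb c hc => by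
    rw [hadd b hb c hc, hfadd]
  have hf0 : f (a 0) = 0 := by
    have e := hsum 0 (by norm_num) 0 (by norm_num)
    rw [show 0 ^^^ 0 = 0 from rfl, w6_add_self] at e
    exact e
  have hfpl : ∀ b < 8, ∀ c < 8, pl6 (f (a b)) (f (a c)) = 0 := fun b hb c hc => by
    simp only [hf]; rw [pl6_wf w' hadm'', pl6_wf w hadm, hpl b hb c hc]
  have hsep : ∀ b < 8, ∀ c < 8, b ≠ c → f (a b) ≠ f (a c) := fun b hb c hc hbc e => by
    refine h1n _ (hxlt b hb c hc) (fun e0' => hbc ?_) (by rw [hsum b hb c hc, e, w6_add_self])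
    have := congrArg (· ^^^ c) e0'
    simpa [Nat.xor_assoc] using this
  have hthird := third_vector (f (a 1)) (by simp only [hf]; rw [q6_wf w' hadm'', q6_wf w hadm, hq 1 (by norm_num)])
    (by rw [← h2]; exact hfpl 1 (by norm_num) 2 (by norm_num))
    (by rw [← h4]; exact hfpl 1 (by norm_num) 4 (by norm_num))
    (h1n 1 (by norm_num) (by norm_num))
    (by rw [← h2]; exact hsep 1 (by norm_num) 2 (by norm_num) (by norm_num))
    (by rw [← h4]; exact hsep 1 (by norm_num) 4 (by norm_num) (by norm_num))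
    (by rw [← h2, ← h4, ← hsum 2 (by norm_num) 4 (by norm_num)]
        exact hsep 1 (by norm_num) _ (by decide) (by decide))
  obtain ⟨T₁, hT₁, hT₁e⟩ := word_elt w hadm
  obtain ⟨T₂, hT₂, hT₂e⟩ := word_elt w' hadm''
  have hTe : ∀ x, act (T₂ * T₁) x = vmk (xc x) (yc x) (f (pr x)) := fun x => by
    rw [act_mul, hT₁e, hT₂e, xc_vmk, yc_vmk, pr_vmk]
  obtain ⟨k, hk, hki, hkρ⟩ := F.stab_lift (mul_mem hT₂ hT₁) (by
    rw [hTe, pr_w0, show f 0 = 0 by simp only [hf]; rw [wf_zero, wf_zero]]; rfl)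
  have hzk : k * z * k⁻¹ = z ∧ k * F.pt * k⁻¹ = F.pt :=
    ⟨conj_eq_iff_comm.2 (mem_cz.1 hk), conj_eq_iff_comm.2 (mem_cz.1 hki)⟩
  refine ⟨k * m, ?_, ?_, ?_⟩
  · rw [show k * m * z * (k * m)⁻¹ = k * (m * z * m⁻¹) * k⁻¹ by group, hmz, hzk.2]
  · rw [show k * m * F.pt * (k * m)⁻¹ = k * (m * F.pt * m⁻¹) * k⁻¹ by group, hmp, hzk.1]
  have himg : ∀ b < 8, k * m * re b * (k * m)⁻¹ ∈ F.R ∧ pr (v (k * m * re b * (k * m)⁻¹)) = f (a b) := fun b hb => by
    rw [show k * m * re b * (k * m)⁻¹ = k * (m * re b * m⁻¹) * k⁻¹ by group]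
    refine ⟨F.norm_R hk hki (hR b hb), ?_⟩
    rw [S.ρ_act k hk _ (hR b hb).1, hkρ, hTe, pr_vmk]
  have hext : ∀ D : ℕ → W6, D 0 = 0 → D 2 = e0 → D 4 = e1 → (∀ p < 8, ∀ q < 8, D (p ^^^ q) = D p + D q) →
      (∃ n < 8, f (a 1) = D n) → ∀ b < 8, ∃ n < 8, f (a b) = D n := by
    intro D d0 d2 d4 dadd ⟨n, hn, e⟩
    have step : ∀ b < 8, ∀ c < 8, (∃ n < 8, f (a b) = D n) → (∃ n < 8, f (a c) = D n) →
        ∃ n < 8, f (a (b ^^^ c)) = D n := fun b hb c hc ⟨p, hp, ep⟩ ⟨q, hq, eq'⟩ =>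
      ⟨p ^^^ q, hxlt p hp q hq, by rw [hsum b hb c hc, ep, eq', dadd p hp q hq]⟩
    have g1 : ∃ n < 8, f (a 1) = D n := ⟨n, hn, e⟩
    have g2 : ∃ n < 8, f (a 2) = D n := ⟨2, by norm_num, by rw [h2, d2]⟩
    have g4 : ∃ n < 8, f (a 4) = D n := ⟨4, by norm_num, by rw [h4, d4]⟩
    intro b hb
    interval_cases b
    · exact ⟨0, by norm_num, by rw [hf0, d0]⟩
    · exact g1
    · exact g2
    · exact step 1 (by norm_num) 2 (by norm_num) g1 g2
    · exact g4
    · exact step 1 (by norm_num) 4 (by norm_num) g1 g4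
    · exact step 2 (by norm_num) 4 (by norm_num) g2 g4
    · exact step 3 (by norm_num) 4 (by norm_num) (step 1 (by norm_num) 2 (by norm_num) g1 g2) g4
  rcases hthird with h | h
  · refine ⟨dA, Or.inl rfl, fun b hb => ⟨(himg b hb).1, ?_⟩⟩
    obtain ⟨n, hn, e⟩ := hext dA dA_vals.2.2.2.2.2.2.1 dA_vals.2.1 dA_vals.2.2.1
      (fun p hp q hq => (dA_add p hp q hq).1) h b hb
    exact ⟨n, hn, (himg b hb).2.trans e⟩
  · refine ⟨dB, Or.inr rfl, fun b hb => ⟨(himg b hb).1, ?_⟩⟩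
    obtain ⟨n, hn, e⟩ := hext dB dB_facts.2.2.1 dB_facts.1 dB_facts.2.1
      (fun p hp q hq => (dB_facts.2.2.2.1 p hp q hq).1) h b hb
    exact ⟨n, hn, (himg b hb).2.trans e⟩

/-- The exchange normalizes the subgroup. -/
theorem exists_exchange : ∃ k : G, k ∈ normalizer (bigA C.gens.pt'' : Set G) ∧ k * z * k⁻¹ = C.gens.pt''.pt ∧
    k * C.gens.pt''.pt * k⁻¹ = z ∧
    ∀ u ∈ isoR C.gens.pt'' dA, ∃ i j, ∃ b < 8, u = k * (C.gens.pt''.zi i j * re b) * k⁻¹ := by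
  classical
  obtain ⟨k, hkz, hkp, D, hD, hk⟩ := C.exchange_pair
  set F := C.gens.pt''
  have hDinj : ∀ p < 8, ∀ q < 8, D p = D q → p = q := by
    rcases hD with rfl | rfl
    · exact fun p hp q hq => (dA_inj p hp q hq).1
    · exact fun p hp q hq => (dB_facts.2.2.2.1 p hp q hq).2
  have hzi : ∀ i j, k * F.zi i j * k⁻¹ = F.zi j i := fun i j => by
    show k * (z ^ i.val * F.pt ^ j.val) * k⁻¹ = z ^ j.val * F.pt ^ i.val
    rw [show k * (z ^ i.val * F.pt ^ j.val) * k⁻¹ = (k * z ^ i.val * k⁻¹) * (k * F.pt ^ j.val * k⁻¹) by group,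
      ← conj_pow, ← conj_pow, hkz, hkp]
    exact ((show Commute F.pt z from F.pz).pow_pow _ _).eq
  choose N hN8 hN using fun b : Fin 8 => (hk b b.2).2
  have hNinj : Function.Injective (fun b : Fin 8 => (⟨N b, hN8 b⟩ : Fin 8)) := by
    intro b c e
    replace e : N b = N c := congrArg Fin.val e
    have hb := hk b b.2
    have hc := hk c c.2
    have hlt := (xor_tables.1 b b.2 c c.2).2.2.2.2
    obtain ⟨i, j, e'⟩ := F.zi_of_zero (mul_mem hb.1 hc.1) (by
      rw [F.pr_mul hb.1.1 hc.1.1, hN b, hN c, e, w6_add_self])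
    have : re (b.1 ^^^ c.1) = F.zi j i := by
      refine mul_left_cancel (a := k) (mul_right_cancel (b := k⁻¹) ?_)
      rw [hzi, C.gens.re_trip.xor b b.2 c c.2, ← e']; group
    have hp : F.phi (re (b.1 ^^^ c.1)) = dA (b.1 ^^^ c.1) := C.gens.re_phi _ hlt
    rw [this, F.phi_zi] at hp
    have h0 := (dA_inj _ hlt 0 (by norm_num)).1 (hp.symm.trans dA_vals.2.2.2.2.2.2.1.symm)
    apply Fin.ext
    have := congrArg (· ^^^ c.1) h0
    simpa [Nat.xor_assoc] using this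
  have hsurj := Finite.injective_iff_surjective.1 hNinj
  have hpre : ∀ q ∈ F.R, (∃ n < 8, pr (v q) = D n) → ∃ i j, ∃ b < 8, q = k * (F.zi i j * re b) * k⁻¹ := by
    intro q hq ⟨n, hn, e⟩
    obtain ⟨b, hb⟩ := hsurj ⟨n, hn⟩
    replace hb : N b = n := congrArg Fin.val hb
    obtain ⟨i, j, e'⟩ := F.zi_of_zero (mul_mem hq (inv_mem (hk b b.2).1)) (by
      rw [F.pr_mul hq.1 (inv_mem (hk b b.2).1.1), F.setup.v_inv (hk b b.2).1.1, hN b, hb, e, w6_add_self])
    refine ⟨j, i, b, b.2, ?_⟩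
    calc q = q * (k * re b * k⁻¹)⁻¹ * (k * re b * k⁻¹) := by group
      _ = k * F.zi j i * k⁻¹ * (k * re b * k⁻¹) := by rw [e', hzi]
      _ = _ := by group
  set A₁ := (bigA F).map (MulAut.conj k).toMonoidHom with hA₁
  have hmemX : ∀ i j b, b < 8 → k * (F.zi i j * re b) * k⁻¹ ∈ A₁ := fun i j b hb =>
    ⟨_, mul_mem (C.zi_A i j) (C.gens.re_A hb), rfl⟩
  have hcomm : ∀ x ∈ A₁, ∀ w ∈ A₁, x * w = w * x := by
    rintro _ ⟨x, hx, rfl⟩ _ ⟨w, hw, rfl⟩
    show k * x * k⁻¹ * (k * w * k⁻¹) = k * w * k⁻¹ * (k * x * k⁻¹)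
    rw [show k * x * k⁻¹ * (k * w * k⁻¹) = k * (x * w) * k⁻¹ by group, C.A_cm hx hw]; group
  have hcard : Nat.card A₁ = 2048 := by
    rw [hA₁, card_map_of_injective (show Function.Injective (MulAut.conj k).toMonoidHom from (MulAut.conj k).injective),
      C.card_A]
  rcases hD with rfl | rfl
  · have hU : ∀ u ∈ isoR F dA, ∃ i j, ∃ b < 8, u = k * (F.zi i j * re b) * k⁻¹ := fun u hu =>
      hpre u hu.1 (dA_perp _ hu.2)
    refine ⟨k, ?_, hkz, hkp, hU⟩
    have hle : A₁ ≤ bigA F := by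
      intro a ha
      refine mem_centralizer_iff.2 fun u hu => ?_
      obtain ⟨i, j, b, hb, rfl⟩ := hU u hu
      exact hcomm _ (hmemX i j b hb) a ha
    have heq : A₁ = bigA F := eq_of_le_of_card_ge hle (by rw [hcard, C.card_A])
    rw [mem_normalizer_iff]
    intro a
    have hconj : Function.Injective (MulAut.conj k).toMonoidHom := (MulAut.conj k).injective
    constructor
    · intro ha; rw [← heq]; exact ⟨a, ha, rfl⟩
    · intro ha
      rw [← heq] at ha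
      obtain ⟨b, hb, e⟩ := ha
      rwa [← hconj (a₂ := a) e]
  · exfalso
    set K := centralizer ({x | ∃ i j, ∃ b < 8, x = k * (F.zi i j * re b) * k⁻¹} : Set G) with hK
    have hA₁K : A₁ ≤ K := fun a ha => mem_centralizer_iff.2 fun x ⟨i, j, b, hb, e⟩ => by
      rw [e]; exact hcomm _ (hmemX i j b hb) a ha
    have hz_im : ∀ i j, F.zi i j ∈ ({x | ∃ i j, ∃ b < 8, x = k * (F.zi i j * re b) * k⁻¹} : Set G) := fun i j =>
      ⟨j, i, 0, by norm_num, by rw [C.gens.re_trip.one, mul_one, hzi]⟩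
    have hKcz : ∀ a ∈ K, a ∈ centralizer ({z} : Set G) ∧ a ∈ centralizer ({F.pt} : Set G) := fun a ha => by
      have h1 := mem_centralizer_iff.1 ha _ (hz_im 1 0)
      have h2 := mem_centralizer_iff.1 ha _ (hz_im 0 1)
      rw [F.zi_z] at h1; rw [F.zi_pt] at h2
      exact ⟨mem_cz.2 h1.symm, mem_cz.2 h2.symm⟩
    have hreal : ∀ n < 8, ∃ q ∈ F.R, pr (v q) = dB n ∧ q ∈ ({x | ∃ i j, ∃ b < 8, x = k * (F.zi i j * re b) * k⁻¹} : Set G) :=
      fun n hn => by
      obtain ⟨q, hq, e⟩ := F.R_surj (dB n)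
      exact ⟨q, hq, e, hpre q hq ⟨n, hn, e⟩⟩
    have hKQ : ∀ a ∈ K, a ∈ Q → ∃ i j, ∃ b < 8, a = k * (F.zi i j * re b) * k⁻¹ := by
      intro a ha haQ
      have haR : a ∈ F.R := ⟨haQ, (hKcz a ha).2⟩
      refine hpre a haR (dB_facts.2.2.2.2.1 _ fun n hn => ?_)
      obtain ⟨q, hq, e, hqs⟩ := hreal n hn
      have h := (F.setup.v_comm a haQ _ hq.1).2 (mem_centralizer_iff.1 ha _ hqs).symm
      rw [show QuadraticMap.polar qf (v a) (v q) = pl (v a) (v q) from rfl, pl_eq, (F.mem_R.1 haR).2,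
        (F.mem_R.1 hq).2, e] at h
      simpa using h
    obtain ⟨T, hT⟩ := exists_flip
    have hTT : T⁻¹ = T := inv_eq_of_mul_eq_one_right (iso_ext fun x => by
      rw [act_mul, hT, hT, act_one, flip_flip])
    have hKfix : ∀ a ∈ K, Fix (T * ρ a * T⁻¹) := by
      intro a ha
      obtain ⟨hc, hci⟩ := hKcz a ha
      have hw : act (ρ a) w0 = w0 := by
        rw [← F.val, ← F.setup.ρ_act a hc _ F.mem, conj_eq_iff_comm.2 (mem_cz.1 hci)]
      have hTw : act T w0 = w0 := by rw [hT, flip_facts.2.1]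
      refine ⟨by rw [hTT, act_mul, act_mul, hTw, hw, hTw], fun n hn => ?_⟩
      obtain ⟨q, hq, e, hqs⟩ := hreal n hn
      have hTn : act T (inW (dA n)) = inW (dB n) := by
        rw [hT, flipFun, inW, xc_vmk, yc_vmk, pr_vmk]; rfl
      have hv : act (ρ a) (v q) = v q := by
        rw [← F.setup.ρ_act a hc _ hq.1, conj_eq_iff_comm.2 (mem_centralizer_iff.1 ha _ hqs).symm]
      rw [F.v_of_R hq, e, show vmk (xc (v q)) 0 (dB n) = xc (v q) • w0 + inW (dB n) by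
        rcases two_cases (xc (v q)) with e | e <;> rw [e] <;> simp [inW, w0, vmk_add], act_add, act_smul, hw] at hv
      rw [hTT, act_mul, act_mul, hTn, add_left_cancel hv, hT, flipFun, inW, xc_vmk, yc_vmk, pr_vmk,
        (dB_facts.2.2.2.2.2 n hn).2.2.2]
      rfl
    let p : K → ZMod 2 × ZMod 2 × ZMod 2 × ZMod 2 × ZMod 2 × ZMod 2 := fun a =>
      (fpar (act (T * ρ a.1 * T⁻¹)) 0 1, fpar (act (T * ρ a.1 * T⁻¹)) 0 2, fpar (act (T * ρ a.1 * T⁻¹)) 0 3,
        fpar (act (T * ρ a.1 * T⁻¹)) 1 2, fpar (act (T * ρ a.1 * T⁻¹)) 1 3, fpar (act (T * ρ a.1 * T⁻¹)) 2 3)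
    have hp : ∀ a b : K, p a = p b → a.1 * b.1⁻¹ ∈ Q := by
      intro a b e
      simp only [p, Prod.mk.injEq] at e
      obtain ⟨h1, h2, h3, h4, h5, h6⟩ := e
      have hk' := fix_unique (hKfix _ a.2) (hKfix _ b.2) fun i j hij => by
        rcases pair_cases i j hij with h | h | h | h | h | h <;> simp only [Prod.mk.injEq] at h <;>
          obtain ⟨rfl, rfl⟩ := h
        exacts [h1, h2, h3, h4, h5, h6]
      have hρ : ρ a.1 = ρ b.1 := mul_left_cancel (a := T) (mul_right_cancel (b := T⁻¹) hk')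
      obtain ⟨hca, -⟩ := hKcz _ a.2
      obtain ⟨hcb, -⟩ := hKcz _ b.2
      refine (F.setup.ρ_ker _ (mul_mem hca (inv_mem hcb))).1 ?_
      rw [F.setup.ρ_mul _ hca _ (inv_mem hcb), F.setup.ρ_inv hcb, hρ, mul_inv_cancel]
    let rep : K → K := fun a => Function.invFun p (p a)
    have hrep : ∀ a, p (rep a) = p a := fun a => Function.invFun_eq ⟨a, rfl⟩
    have hres : ∀ a : K, ∃ t : ZMod 2 × ZMod 2 × Fin 8,
        a.1 * (rep a).1⁻¹ = k * (F.zi t.1 t.2.1 * re t.2.2) * k⁻¹ := fun a => by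
      obtain ⟨i, j, b, hb, e⟩ := hKQ _ (mul_mem a.2 (inv_mem (rep a).2)) (hp a _ (hrep a).symm)
      exact ⟨(i, j, ⟨b, hb⟩), e⟩
    choose res hresE using hres
    have hinj : Function.Injective fun a : K => (p a, res a) := by
      intro a b e
      simp only [Prod.mk.injEq] at e
      have e1 : rep a = rep b := by simp only [rep, e.1]
      have e2 : a.1 * (rep a).1⁻¹ = b.1 * (rep b).1⁻¹ := by rw [hresE a, hresE b, e.2]
      rw [e1] at e2
      exact Subtype.ext (mul_right_cancel e2)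
    have hKle : Nat.card K ≤ 2048 := by
      refine (Nat.card_le_card_of_injective _ hinj).trans (le_of_eq ?_)
      simp only [Nat.card_prod, Nat.card_zmod, Nat.card_fin]
    have hKA : A₁ = K := eq_of_le_of_card_ge hA₁K (by rw [hcard]; exact hKle)
    have him : ∀ x ∈ ({x | ∃ i j, ∃ b < 8, x = k * (F.zi i j * re b) * k⁻¹} : Set G),
        x ∈ F.R ∧ ∃ n < 8, pr (v x) = dB n := by
      rintro x ⟨i, j, b, hb, rfl⟩
      obtain ⟨hb', n, hn, e⟩ := hk b hb
      rw [show k * (F.zi i j * re b) * k⁻¹ = (k * F.zi i j * k⁻¹) * (k * re b * k⁻¹) by group, hzi]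
      exact ⟨mul_mem (F.zi_R j i) hb', n, hn, by rw [F.pr_mul (F.zi_R j i).1 hb'.1, F.pr_v_zi, zero_add, e]⟩
    have hyK : y ∈ K := mem_centralizer_iff.2 fun x hx => by
      obtain ⟨hxR, n, hn, e⟩ := him x hx
      exact (C.gens.sev.fr.quad.comm x hxR.1 (by rw [pl_inW, e, (dB_facts.2.2.2.2.2 n hn).1])
        (by rw [pl_inW, e, (dB_facts.2.2.2.2.2 n hn).2.1])).symm
    have hr := (C.gens.rg_trip.mem 1 (by norm_num)).1
    have hphi : F.phi (rg 1) = dG 1 := C.gens.rg_phi 1 (by norm_num)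
    have hrK : rg 1 ∈ K := mem_centralizer_iff.2 fun x hx => by
      obtain ⟨hxR, n, hn, e⟩ := him x hx
      rw [F.swap_rule hxR hr, e, hphi, (dB_facts.2.2.2.2.2 n hn).2.2.1, F.zi_zero, one_mul]
    have hyr : y * rg 1 = rg 1 * y := hcomm y (hKA ▸ hyK) _ (hKA ▸ hrK)
    have hform := C.gens.sev.fr.form _ hr (by rw [show C.gens.sev.fr.pt'.phi (rg 1) = dG 1 from hphi, dG_form.1])
      (by rw [show C.gens.sev.fr.pt'.phi (rg 1) = dG 1 from hphi, dG_form.2.1])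
    rw [show C.gens.sev.fr.pt'.phi (rg 1) = dG 1 from hphi, dG_form.2.2, conj_eq_iff_comm.2 hyr] at hform
    exact one_ne_zero (F.zi_eq_one (left_eq_mul.1 hform : F.zi 1 0 = 1)).1

end Co

end

end CfsgLib.Spor.CoOneGolay
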