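import Cfsg.Agent.Lib.Spor.CoOneGolay.Neighbour

/-!
# The set of conjugates of the central involution and its transitivity

Elements of one orbit of the normalizer have equally many partners; this leaves one of the candidates.
-/

set_option autoImplicit false
set_option synthInstance.maxSize 4096
set_option maxRecDepth 100000

namespace CfsgLib.Spor.CoOneGolay

open Subgroup CfsgLib.Spor.CoOneClasses
open CfsgLib.Spor.CoOneType (Vec qf Iso8 Om Setup mem_cz conj_eq_iff_comm act act_one act_mul act_add act_injective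
  qf_act pol_act iso_ext two_cases qf_nd)

noncomputable section

theorem rep_range : ∀ i < 5, 256 ≤ rep5 i ∧ rep5 i < 512 := by decide

theorem low_cases : ∀ n < 256, low n = true →
    (n < 32 ∧ n ≠ 0) ∨ (fa n = 0 ∧ n ≠ 0) ∨ (fa (sT n) = 0 ∧ sT (sT n) = n ∧ sT n < 256 ∧ sT n ≠ 0) := by decide +kernel

theorem unit_path : ∀ a < 8, a ≠ 0 → ∃ i < 7, mA^[i] 4 = a := by decide +kernel

theorem pb_hit : ∀ a < 8, a ≠ 0 → ∃ m ∈ [1, 2, 4], pl6 (dA a) (dG m) = 1 := by decide +kernel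

theorem known_shift : ∀ c < 8, ∀ i < 5, sel c i = true → (i = 1 ∧ c.testBit 0 = false) ∨ (i = 2 ∧ c.testBit 0 = true) ∨
    i = 3 ∨ i = 4 := by decide +kernel

theorem known_of_cand : known 3 262 = true ∧ known 5 262 = true ∧ cand 2 (1 : ℕ) = true ∧ cand 2 2 = true := by
  decide +kernel

theorem two_reps : (cls (red 260) = 1 ∧ cls (red 262) = 2 ∧ cls (red 288) = 3) := by decide +kernel

variable {G : Type*} [Group G] [Finite G] {z : G} {Q : Subgroup G} {v : G → Vec} {ρ : G → Iso8} {g y d h s : G}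
  {qe qg re rg xe : ℕ → G}

namespace Co

variable (C : Co z Q v ρ g y d h s qe qg re rg xe)

/-- The orbit of the central involution under the normalizer. -/
def Orb (_C : Co z Q v ρ g y d h s qe qg re rg xe) (x : G) : Prop :=
  ∃ k ∈ normalizer (bigA _C.gens.pt'' : Set G), k * z * k⁻¹ = x

/-- The number of partners. -/
def Kn (_C : Co z Q v ρ g y d h s qe qg re rg xe) (x : G) : ℕ :=
  Nat.card {a : G // a ∈ bigA _C.gens.pt'' ∧ IsConj z a ∧ IsConj z (x * a)}

include C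

theorem mem_N {k : G} (hk : ∀ a ∈ bigA C.gens.pt'', k * a * k⁻¹ ∈ bigA C.gens.pt'') :
    k ∈ normalizer (bigA C.gens.pt'' : Set G) := by
  have heq : (bigA C.gens.pt'').map (MulAut.conj k).toMonoidHom = bigA C.gens.pt'' :=
    eq_of_le_of_card_ge (by rintro _ ⟨a, ha, rfl⟩; exact hk a ha) (by
      rw [card_map_of_injective (show Function.Injective (MulAut.conj k).toMonoidHom from (MulAut.conj k).injective)])
  rw [mem_normalizer_iff]
  intro a
  refine ⟨hk a, fun ha => ?_⟩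
  rw [← heq] at ha
  obtain ⟨b, hb, e⟩ := ha
  rwa [← (MulAut.conj k).injective e]

theorem d_N : d ∈ normalizer (bigA C.gens.pt'' : Set G) := C.mem_N C.gens.A_d

theorem s_N : s ∈ normalizer (bigA C.gens.pt'' : Set G) := C.mem_N fun a ha => by
  obtain ⟨n, hn, rfl⟩ := C.el_surj ha
  rw [C.s_el n hn]; exact C.el_mem _

theorem qg_N {m : ℕ} (hm : m < 8) : qg m ∈ normalizer (bigA C.gens.pt'' : Set G) :=
  C.mem_N fun _ ha => C.norm_A (C.qg_U hm) ha

theorem rg_N {m : ℕ} (hm : m < 8) : rg m ∈ normalizer (bigA C.gens.pt'' : Set G) :=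
  C.mem_N fun _ ha => C.norm_A (C.rg_U hm) ha

theorem orb_conj {k x w : G} (hk : k ∈ normalizer (bigA C.gens.pt'' : Set G)) (hx : C.Orb x) (e : k * x * k⁻¹ = w) :
    C.Orb w := by
  obtain ⟨m, hm, rfl⟩ := hx
  exact ⟨k * m, mul_mem hk hm, by rw [← e]; group⟩

theorem orb_el_conj {k : G} {n m : ℕ} (hk : k ∈ normalizer (bigA C.gens.pt'' : Set G))
    (e : k * C.el n * k⁻¹ = C.el m) : C.Orb (C.el n) ↔ C.Orb (C.el m) :=
  ⟨fun h => C.orb_conj hk h e, fun h => C.orb_conj (inv_mem hk) h (by rw [← e]; group)⟩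

/-- A property stable under the normalizer inside the centralizer of `z` holds on the first part outside the centre
once it holds at the point. -/
theorem U_closed {Φ : G → Prop} (hcl : ∀ k x w, k ∈ normalizer (bigA C.gens.pt'' : Set G) →
      k ∈ centralizer ({z} : Set G) → Φ x → k * x * k⁻¹ = w → Φ w) (hpt : Φ C.gens.pt''.pt)
    {u : G} (hu : u ∈ isoR C.gens.pt'' dA) (h1 : u ≠ 1) (h2 : u ≠ z) : Φ u := by
  set F := C.gens.pt''
  obtain ⟨i, j, a, ha, rfl⟩ := C.gens.mem_U hu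
  by_cases ha0 : a = 0
  · subst ha0
    rw [C.gens.qe_trip.one, mul_one] at h1 ⊢
    rcases two_cases i with rfl | rfl <;> rcases two_cases j with rfl | rfl
    · exact absurd F.zi_zero h1
    · rwa [F.zi_pt]
    · rw [C.gens.qe_trip.one, mul_one] at *; exact absurd F.zi_z h2
    · have e : s * F.pt * s⁻¹ = C.el 3 := by
        rw [show F.pt = C.el 2 from C.el_two.symm, C.s_el 2 (by norm_num)]; rfl
      rw [← C.el_zi]
      exact hcl _ _ _ C.s_N (C.P.setup.le C.gens.sev.s_mem) hpt e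
  have hfl : ∀ c a, a < 8 → ∀ m < 8, Φ (F.zi c 0 * qe a) → Φ (F.zi (c + pl6 (dG m) (dA a)) 0 * qe a) := by
    intro c a ha m hm h
    refine hcl _ _ _ (C.qg_N hm) (C.qg_cz hm).1 h ?_
    rw [show qg m * (F.zi c 0 * qe a) * (qg m)⁻¹ = (qg m * F.zi c 0 * (qg m)⁻¹) * (qg m * qe a * (qg m)⁻¹) by group,
      C.zi_conj (C.qg_cz hm).1 (C.qg_cz hm).2, C.qg_qe hm ha, ← mul_assoc, F.zi_add, add_zero]
  have h4 : ∀ c, Φ (F.zi c 0 * qe 4) := by
    obtain ⟨P, hP, hPe⟩ := C.P.exists_P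
    obtain ⟨hN, hNA⟩ := C.lift_norm hP hPe
    obtain ⟨hm, hv⟩ := C.P.conj_mem_Q hP hPe F.mem
    have hmU := (hN _ C.gens.pt_U).1
    obtain ⟨i', j', b, hb, e⟩ := C.gens.mem_U hmU
    have hb' := (C.gens.qe_trip.mem b hb).1
    rw [show v F.pt = w0 from F.val, pi_vals.2.1] at hv
    have hp := congrArg pr hv
    have hy := congrArg yc hv
    have hx := congrArg xc hv
    rw [show P⁻¹ * (g * z * g⁻¹) * P = _ from e] at hp hx
    rw [F.setup.v_mul _ (F.zi_mem i' j').1 _ hb'.1, F.v_zi, xc_add, C.xc_qe b hb, add_zero, xc_smul_w0, inW,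
      xc_vmk] at hx
    rw [F.pr_mul (F.zi_mem i' j').1 hb'.1, F.pr_v_zi, zero_add, C.gens.qe_pr b hb, inW, pr_vmk,
      ← dA_vals.2.2.1] at hp
    obtain rfl := (dA_inj b hb 4 (by norm_num)).1 hp
    subst hx
    have hm4 : Φ (F.zi i' 0 * qe 4) := by
      rw [← e]
      exact hcl _ _ _ (inv_mem (C.mem_N fun a ha => (hNA a ha).2)) (inv_mem hP) hpt (by group)
    intro c
    rcases two_cases (c + i') with h0 | h0
    · rw [CharTwo.add_eq_zero] at h0; rw [h0]; exact hm4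
    · have := hfl i' 4 (by norm_num) 4 (by norm_num) hm4
      rwa [show pl6 (dG 4) (dA 4) = 1 by decide +kernel, show i' + 1 = c by
        rw [← h0, add_comm c, ← add_assoc, CharTwo.add_self_eq_zero, zero_add]] at this
  have hall : ∀ i c, Φ (F.zi c 0 * qe (mA^[i] 4)) ∧ mA^[i] 4 < 8 := by
    intro i
    induction i with
    | zero => exact fun c => ⟨h4 c, by norm_num⟩
    | succ i ih =>
      intro c
      obtain ⟨h, hlt⟩ := ih c
      rw [Function.iterate_succ_apply']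
      refine ⟨hcl _ _ _ C.d_N C.gens.sev.d_cz h ?_, table_lt mA (by simp) _ hlt⟩
      rw [show d * (F.zi c 0 * qe (mA^[i] 4)) * d⁻¹ = (d * F.zi c 0 * d⁻¹) * (d * qe (mA^[i] 4) * d⁻¹) by group,
        C.zi_conj C.gens.sev.d_cz C.gens.sev.d_ci, C.gens.qe_trip.d_q _ hlt]
  obtain ⟨l, -, hl⟩ := unit_path a ha ha0
  have ha' : ∀ c, Φ (F.zi c 0 * qe a) := fun c => hl ▸ (hall l c).1
  rcases two_cases j with rfl | rfl
  · exact ha' i
  · obtain ⟨m, hm, hp⟩ := pb_hit a ha ha0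
    have hm8 : m < 8 := by simp only [List.mem_cons, List.not_mem_nil, or_false] at hm; omega
    refine hcl _ _ _ (C.rg_N hm8) (C.rg_cz hm8).1 (ha' (i + 1)) ?_
    rw [show rg m * (F.zi (i + 1) 0 * qe a) * (rg m)⁻¹ = (rg m * F.zi (i + 1) 0 * (rg m)⁻¹) * (rg m * qe a * (rg m)⁻¹)
      by group, C.zi_conj (C.rg_cz hm8).1 (C.rg_cz hm8).2, C.rg_qe hm8 ha, hp, ← mul_assoc, F.zi_add, add_assoc,
      CharTwo.add_self_eq_zero, add_zero, zero_add]

/-- The involutions of the first part lie in the orbit. -/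
theorem orb_U {u : G} (hu : u ∈ isoR C.gens.pt'' dA) (h1 : u ≠ 1) : C.Orb u := by
  by_cases h2 : u = z
  · exact ⟨1, one_mem _, by rw [h2]; group⟩
  obtain ⟨k, hk, hkz, -, -⟩ := C.exists_exchange
  exact C.U_closed (Φ := C.Orb) (fun _ _ _ hk _ hx e => C.orb_conj hk hx e) ⟨k, hk, hkz⟩ hu h1 h2

/-- The conjugates outside the cosets of the third family lie in the orbit. -/
theorem orb_low {n : ℕ} (hn : n < 256) (h : low n = true) : C.Orb (C.el n) := by
  set F := C.gens.pt''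
  obtain ⟨k, hk, -, -, hX⟩ := C.exists_exchange
  have key : ∀ n < 256, fa n = 0 → n ≠ 0 → C.Orb (C.el n) := by
    intro n hn ha h0
    obtain ⟨hx, -, -⟩ := low_facts n hn
    have hb := (field_lt n).2.1
    have he : C.el n = F.zi (zb n 0) (zb n 1) * re (fb' n) := by
      rw [el, ha, hx, C.gens.qe_trip.one, C.xe_trip.one, mul_one, mul_one]
    have hinj : Function.Injective fun t : ZMod 2 × ZMod 2 × Fin 8 => F.zi t.1 t.2.1 * re t.2.2 := by
      rintro ⟨i, j, b⟩ ⟨i', j', b'⟩ e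
      obtain ⟨rfl, rfl⟩ := C.zr_inj b.2 b'.2 e
      have hre : re b = re b' := mul_left_cancel e
      have := congrArg F.phi hre
      rw [show F.phi (re b) = dA b from C.gens.re_phi _ b.2, show F.phi (re b') = dA b' from C.gens.re_phi _ b'.2]
        at this
      rw [Fin.ext ((dA_inj _ b.2 _ b'.2).1 this)]
    -- the second part maps onto the first
    let src : ↥(isoR F dA) → ZMod 2 × ZMod 2 × Fin 8 := fun u =>
      ((hX u.1 u.2).choose, (hX u.1 u.2).choose_spec.choose,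
        ⟨(hX u.1 u.2).choose_spec.choose_spec.choose, (hX u.1 u.2).choose_spec.choose_spec.choose_spec.1⟩)
    have hsrc : ∀ u : ↥(isoR F dA), u.1 = k * (F.zi (src u).1 (src u).2.1 * re (src u).2.2) * k⁻¹ := fun u =>
      (hX u.1 u.2).choose_spec.choose_spec.choose_spec.2
    let dst : Fin 32 → ↥(isoR F dA) := fun m => ⟨C.el m, C.el_mem_U m.2⟩
    have hdst : Function.Injective dst := fun a b e =>
      Fin.ext (C.el_inj (by omega) (by omega) (congrArg Subtype.val e))
    have hcomp : Function.Injective (src ∘ dst) := fun a b e => hdst (Subtype.ext (by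
      rw [hsrc (dst a), hsrc (dst b), show src (dst a) = src (dst b) from e]))
    have hsur : Function.Surjective (src ∘ dst) := (Fintype.bijective_iff_injective_and_card _).2
      ⟨hcomp, by simp [Fintype.card_prod, ZMod.card]⟩ |>.2
    obtain ⟨m, hm⟩ := hsur (zb n 0, zb n 1, ⟨fb' n, hb⟩)
    have e := hsrc (dst m)
    rw [show src (dst m) = _ from hm] at e
    simp only at e
    rw [← he] at e
    refine C.orb_conj (inv_mem hk) (C.orb_U (dst m).2 fun e1 => h0 (C.el_eq_one (by omega) ?_)) (by rw [e]; group)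
    rw [e1] at e
    calc C.el n = k⁻¹ * (k * C.el n * k⁻¹) * k := by group
      _ = 1 := by rw [← e]; group
  rcases low_cases n hn h with ⟨h32, h0⟩ | ⟨ha, h0⟩ | ⟨ha, hss, hlt, h0⟩
  · exact C.orb_U (C.el_mem_U h32) fun e => h0 (C.el_eq_one (by omega) e)
  · exact key n hn ha h0
  · rw [← hss]
    exact C.orb_conj C.s_N (key _ hlt ha h0) (C.s_el _ (by omega))

theorem word_orb (w : ℕ) {n : ℕ} (h1 : 256 ≤ n) (h2 : n < 512) (hn : C.Orb (C.el n)) : C.Orb (C.el (wapp w n)) := by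
  have key : ∀ (b : ℕ) (F : ℕ → ℕ), (∀ k, 256 ≤ k → k < 512 → C.Orb (C.el k) →
      256 ≤ F k ∧ F k < 512 ∧ C.Orb (C.el (F k))) →
      ∀ k, (256 ≤ k ∧ k < 512 ∧ C.Orb (C.el k)) →
        256 ≤ (if w.testBit b then F k else k) ∧ (if w.testBit b then F k else k) < 512 ∧
          C.Orb (C.el (if w.testBit b then F k else k)) := by
    rintro b F hF k ⟨k1, k2, k3⟩
    split_ifs
    · exact hF k k1 k2 k3
    · exact ⟨k1, k2, k3⟩
  have hm8 : ∀ m ∈ [1, 2, 4], m < 8 := by decide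
  have hq : ∀ m ∈ [1, 2, 4], ∀ k, 256 ≤ k → k < 512 → C.Orb (C.el k) →
      256 ≤ qM m k ∧ qM m k < 512 ∧ C.Orb (C.el (qM m k)) := fun m hm k k1 k2 h =>
    ⟨(move_range m hm k k2 k1).1, (move_range m hm k k2 k1).2.1,
      C.orb_conj (C.qg_N (hm8 m hm)) h (C.moves_coset m hm k k1 k2).1⟩
  have hr : ∀ m ∈ [1, 2, 4], ∀ k, 256 ≤ k → k < 512 → C.Orb (C.el k) →
      256 ≤ rM m k ∧ rM m k < 512 ∧ C.Orb (C.el (rM m k)) := fun m hm k k1 k2 h =>
    ⟨(move_range m hm k k2 k1).2.2.1, (move_range m hm k k2 k1).2.2.2.1,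
      C.orb_conj (C.rg_N (hm8 m hm)) h (C.moves_coset m hm k k1 k2).2⟩
  have hs : ∀ k, 256 ≤ k → k < 512 → C.Orb (C.el k) → 256 ≤ sT k ∧ sT k < 512 ∧ C.Orb (C.el (sT k)) :=
    fun k k1 k2 h => ⟨(move_range 1 (by simp) k k2 k1).2.2.2.2.1, (move_range 1 (by simp) k k2 k1).2.2.2.2.2,
      C.orb_conj C.s_N h (C.s_el k (by omega))⟩
  exact (key 6 sT hs _ (key 5 _ (hr 4 (by simp)) _ (key 4 _ (hr 2 (by simp)) _ (key 3 _ (hr 1 (by simp)) _
    (key 2 _ (hq 4 (by simp)) _ (key 1 _ (hq 2 (by simp)) _ (key 0 _ (hq 1 (by simp)) n ⟨h1, h2, hn⟩))))))).2.2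

theorem red_orb : ∀ n < 2048, 256 ≤ n → C.Orb (C.el (red n)) → C.Orb (C.el n) := by
  have key : ∀ i n, n < 2048 → 256 ≤ n → mX^[i] (fx n) = 1 → C.Orb (C.el (red n)) → C.Orb (C.el n) := by
    intro i
    induction i with
    | zero =>
      intro n hn hn' h1 h
      have hlt : n < 512 := (by decide +kernel : ∀ n < 2048, fx n = 1 → n < 512) n hn h1
      rwa [red_one n hlt hn'] at h
    | succ i ih =>
      intro n hn hn' h1 h
      obtain ⟨e1, e2, e3, -, -⟩ := red_dT n hn hn'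
      rw [Function.iterate_succ_apply, ← (fx_dT n hn).1] at h1
      rw [← e1] at h
      exact (C.orb_el_conj C.d_N (C.d_el n hn)).2 (ih (dT n) e3 e2 h1 h)
  intro n hn hn'
  obtain ⟨i, -, hi⟩ := steps_to_one (fx n) (field_lt n).2.2
    ((by decide +kernel : ∀ n < 2048, 256 ≤ n → fx n ≠ 0) n hn hn')
  exact key i n hn hn' hi

theorem class_orb {n : ℕ} (hn : n < 2048) (hn' : 256 ≤ n) (h : C.Orb (C.el (rep5 (cls (red n))))) :
    C.Orb (C.el n) := by
  refine C.red_orb n hn hn' ?_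
  obtain ⟨-, -, -, r1, r2⟩ := red_dT n hn hn'
  obtain ⟨k, hk⟩ := Nat.exists_eq_add_of_le r1
  rw [hk] at r2 h ⊢
  obtain ⟨hcls, hw⟩ := word_table k (by omega)
  rw [← hw]
  exact C.word_orb _ (rep_range _ hcls).1 (rep_range _ hcls).2 h

/-- The conjugates in the reference coset with vanishing second parameter lie in the orbit. -/
theorem orb_coset {n : ℕ} (hn : n < 32) (hz : C.Zc (256 + n)) : C.Orb (C.el (256 + n)) := by
  obtain ⟨P, hP, hPe⟩ := C.P.exists_P
  obtain ⟨hN, hNA⟩ := C.lift_norm hP hPe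
  obtain ⟨k, hk, -, hx⟩ := C.exists_shift hP hPe
  obtain ⟨hm, -⟩ := xor_shift n hn k hk
  have hxe : C.el 256 = xe 1 := C.el_xe (x := 1) (by norm_num)
  have he : C.el (256 + n) = C.el (n ^^^ k) * (P * re 2 * P⁻¹) := by
    rw [(split32 n hn).2.1, C.el_xor, hxe, hx, ← mul_assoc, ← C.el_xor]
  obtain ⟨p, hp, ep⟩ := C.U_el (hN _ (C.el_mem_U hm)).1
  have hlt : p ^^^ (32 * 2) < 256 := Nat.xor_lt_two_pow (n := 8) (lt_trans hp (by norm_num)) (by norm_num)
  have hinner : P⁻¹ * C.el (256 + n) * P = C.el (p ^^^ 32 * 2) := by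
    rw [he, C.el_xor p, ep, C.el_re (by norm_num)]; group
  have hPN : P ∈ normalizer (bigA C.gens.pt'' : Set G) := C.mem_N fun a ha => (hNA a ha).2
  have hzin : C.Zc (p ^^^ 32 * 2) := (C.Zc_congr (k := P⁻¹) (n := 256 + n) (m := p ^^^ 32 * 2)
    (by rw [inv_inv]; exact hinner)).2 hz
  exact C.orb_conj hPN (C.orb_low hlt ((C.low_rule hlt).1 hzin)) (by rw [← hinner]; group)

theorem orb_known {c : ℕ} (hc : ∀ n < 2048, C.Zc n ↔ cand c n = true) (hc8 : c < 8) {n : ℕ} (hn : n < 2048)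
    (h : known c n = true) : C.Orb (C.el n) := by
  unfold known at h
  by_cases hlt : n < 256
  · rw [if_pos hlt] at h; exact C.orb_low hlt h
  rw [if_neg hlt, decide_eq_true_eq] at h
  refine C.class_orb hn (by omega) ?_
  rw [h]
  by_cases h0 : c.testBit 0 = true
  · rw [if_pos h0]
    refine C.orb_coset (n := 6) (by norm_num) ((hc _ (by norm_num)).2 ?_)
    show (if 256 + 6 < 256 then low _ else sel c (cls (red 262))) = true
    rw [if_neg (by norm_num), two_reps.2.1]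
    simp [sel, h0]
  · rw [if_neg h0]
    refine C.orb_coset (n := 4) (by norm_num) ((hc _ (by norm_num)).2 ?_)
    show (if 256 + 4 < 256 then low _ else sel c (cls (red 260))) = true
    rw [if_neg (by norm_num), two_reps.1]
    simp [sel, h0]

theorem orb_far {c : ℕ} (hc : ∀ n < 2048, C.Zc n ↔ cand c n = true) (hc24 : c ∈ [2, 4]) {q : ℕ} (hq : q < 2048)
    (h1 : cand c q = true) (h2 : cand c (q ^^^ 2) = true) : C.Orb (C.el q) := by
  obtain ⟨k, hk, hkz, -, -⟩ := C.exists_exchange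
  have hc8 : c < 8 := by simp only [List.mem_cons, List.not_mem_nil, or_false] at hc24; omega
  have hmem : k⁻¹ * C.el q * k ∈ bigA C.gens.pt'' := (Subgroup.mem_normalizer_iff.1 hk _).2 (by
    rw [show k * (k⁻¹ * C.el q * k) * k⁻¹ = C.el q by group]; exact C.el_mem q)
  obtain ⟨p, hp, ep⟩ := C.el_surj hmem
  have e1 : k⁻¹ * C.el q * k⁻¹⁻¹ = C.el p := by rw [inv_inv, ep]
  have hp2 := xor_lt_2048 hq (show 2 < 2048 by norm_num)
  have hp1 := xor_lt_2048 hp (show 1 < 2048 by norm_num)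
  have e2 : k⁻¹ * C.el (q ^^^ 2) * k⁻¹⁻¹ = C.el (p ^^^ 1) := by
    rw [C.el_xor, C.el_xor, C.el_two, C.el_one, ← hkz, ← e1]; group
  have hz1 : cand c p = true := (hc p hp).1 ((C.Zc_congr e1).2 ((hc q hq).2 h1))
  have hz2 : cand c (p ^^^ 1) = true := (hc _ hp1).1 ((C.Zc_congr e2).2 ((hc _ hp2).2 h2))
  exact C.orb_conj hk (C.orb_known hc hc8 hp (near_known c hc24 p hp hz1 hz2)) (by rw [ep]; group)

theorem Kn_conj {k : G} (hk : k ∈ normalizer (bigA C.gens.pt'' : Set G)) (x : G) : C.Kn (k * x * k⁻¹) = C.Kn x := by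
  refine Nat.card_congr ((MulAut.conj k).symm.toEquiv.subtypeEquiv fun a => ?_)
  show _ ↔ k⁻¹ * a * k ∈ _ ∧ IsConj z (k⁻¹ * a * k) ∧ IsConj z (x * (k⁻¹ * a * k))
  have hc : ∀ w : G, IsConj z (k⁻¹ * w * k) ↔ IsConj z w := fun w =>
    ⟨fun h => h.trans (isConj_iff.2 ⟨k, by group⟩), fun h => h.trans (isConj_iff.2 ⟨k⁻¹, by group⟩)⟩
  have hA : k⁻¹ * a * k ∈ bigA C.gens.pt'' ↔ a ∈ bigA C.gens.pt'' :=
    (Subgroup.mem_normalizer_iff.1 hk _).trans (by rw [show k * (k⁻¹ * a * k) * k⁻¹ = a by group])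
  rw [hA, hc, show x * (k⁻¹ * a * k) = k⁻¹ * (k * x * k⁻¹ * a) * k by group, hc]

theorem Kn_el {c : ℕ} (hc : ∀ n < 2048, C.Zc n ↔ cand c n = true) {p : ℕ} (hp : p < 2048) :
    C.Kn (C.el p) = cnt c p := by
  classical
  let L := (List.range 2048).filter fun q => cand c q && cand c (p ^^^ q)
  have hL : ∀ q, q ∈ L ↔ q < 2048 ∧ cand c q = true ∧ cand c (p ^^^ q) = true := fun q => by
    simp only [L, List.mem_filter, List.mem_range, Bool.and_eq_true]
  let f : {q // q ∈ L} → {a : G // a ∈ bigA C.gens.pt'' ∧ IsConj z a ∧ IsConj z (C.el p * a)} := fun q =>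
    ⟨C.el q, C.el_mem _, (hc _ ((hL q).1 q.2).1).2 ((hL q).1 q.2).2.1, by
      rw [← C.el_xor]
      exact (hc _ (xor_lt_2048 hp ((hL q).1 q.2).1)).2 ((hL q).1 q.2).2.2⟩
  have hf : Function.Bijective f := by
    refine ⟨fun a b e => Subtype.ext (C.el_inj ((hL a).1 a.2).1 ((hL b).1 b.2).1 (congrArg Subtype.val e)), ?_⟩
    rintro ⟨a, ha, h1, h2⟩
    obtain ⟨q, hq, rfl⟩ := C.el_surj ha
    rw [← C.el_xor] at h2
    exact ⟨⟨q, (hL q).2 ⟨hq, (hc q hq).1 h1, (hc _ (xor_lt_2048 hp hq)).1 h2⟩⟩, rfl⟩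
  have hnd : L.Nodup := List.nodup_range.filter _
  show Nat.card _ = L.length
  rw [← Nat.card_eq_of_bijective f hf, Nat.card_eq_fintype_card, Fintype.card_of_subtype L.toFinset (fun x => List.mem_toFinset), List.toFinset_card_of_nodup hnd]

/-- The conjugates of the central involution in the subgroup. -/
theorem zc_final : ∀ n < 2048, C.Zc n ↔ cand 2 n = true := by
  obtain ⟨c, hc8, hc⟩ := C.exists_cand
  have horb : ∀ p < 2048, C.Orb (C.el p) → cnt c p = cnt c 1 := by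
    intro p hp ⟨k, hk, e⟩
    rw [← C.Kn_el hc hp, ← C.Kn_el hc (p := 1) (by norm_num), C.el_one, ← e, C.Kn_conj hk]
  have h2 : cnt c 2 = cnt c 1 := horb 2 (by norm_num) (C.orb_low (by norm_num) (by decide +kernel))
  obtain ⟨a0, a0', a1, a1', a6, a6', a7, a7'⟩ := cnt_facts
  obtain ⟨a3, a3', a5, a5', a4, a4'⟩ := cnt_facts'
  interval_cases c
  · rw [a0, a0'] at h2; norm_num at h2
  · rw [a1, a1'] at h2; norm_num at h2
  · exact hc
  · have h := horb 262 (by norm_num) (C.orb_known hc (by norm_num) (by norm_num) known_of_cand.1)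
    rw [a3, a3'] at h; norm_num at h
  · have h := horb 289 (by norm_num) (C.orb_far hc (by simp) (by norm_num) cand_four.1 cand_four.2.1)
    rw [a4, a4'] at h; norm_num at h
  · have h := horb 262 (by norm_num) (C.orb_known hc (by norm_num) (by norm_num) known_of_cand.2.1)
    rw [a5, a5'] at h; norm_num at h
  · rw [a6, a6'] at h2; norm_num at h2
  · rw [a7, a7'] at h2; norm_num at h2

/-- The normalizer is transitive on the conjugates of the central involution. -/
theorem orb_all {n : ℕ} (hn : n < 2048) (h : cand 2 n = true) : C.Orb (C.el n) := by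
  have hc := C.zc_final
  unfold cand at h
  split_ifs at h with hlt
  · exact C.orb_low hlt h
  obtain ⟨-, -, -, r1, r2⟩ := red_dT n hn (by omega)
  obtain ⟨k, hk⟩ := Nat.exists_eq_add_of_le r1
  have hcls : cls (red n) < 5 := by rw [hk]; exact (word_table k (by omega)).1
  refine C.class_orb hn (by omega) ?_
  rcases known_shift 2 (by norm_num) _ hcls h with ⟨e, -⟩ | ⟨-, e⟩ | e | e
  · rw [e]; exact C.orb_known hc (by norm_num) (by decide) (by decide +kernel : known 2 260 = true)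
  · exact absurd e (by decide)
  · rw [e]; exact C.orb_far hc (by simp) (by decide) far_rep.1 far_rep.2
  · rw [e] at h; exact absurd h (by decide)

end Co

end

end CfsgLib.Spor.CoOneGolay
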