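import Cfsg.Agent.Lib.Spor.CoOneGolay.Shift
import Cfsg.Agent.Lib.Spor.CoOneGolay.Data

/-!
# The conjugates of the central involution in coordinates: reduction to eight candidates

A lift of the cyclic permutation of the three hyperbolic pairs carries the part of the reference coset with vanishing
second parameter to products at the pair of points, whose classes are known.
-/

set_option autoImplicit false
set_option synthInstance.maxSize 4096
set_option maxRecDepth 100000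

namespace CfsgLib.Spor.CoOneGolay

open Subgroup CfsgLib.Spor.CoOneClasses
open CfsgLib.Spor.CoOneType (Vec qf Iso8 Om Setup mem_cz conj_eq_iff_comm act act_one act_mul act_add act_injective
  qf_act pol_act iso_ext two_cases qf_nd)

noncomputable section

/-- The vectors of the first part of the subgroup. -/
def W0v (x : Vec) : Prop := yc x = 0 ∧ ∀ n < 8, pl6 (pr x) (dA n) = 0

theorem pi_W0 : ∀ x : Vec, W0v x → W0v (piFun x) ∧ W0v (piFun (piFun x)) := by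
  unfold W0v; decide +kernel

theorem pi_parts : ∀ j : ZMod 2, ∀ a < 8,
    pr (piFun (piFun (j • w0 + inW (dA a)))) = dA (4 * bv j + 2 * (a / 4) + a % 2) ∧
      4 * bv j + 2 * (a / 4) + a % 2 < 8 ∧
      ((4 * bv j + 2 * (a / 4) + a % 2 = 0 ∨ 4 * bv j + 2 * (a / 4) + a % 2 = 2) ↔ (j = 0 ∧ a % 2 = 0)) := by
  decide +kernel

theorem pair_sing : ∀ a < 8, ∀ c < 8, c ≠ 0 → a ≠ 0 → a ≠ c → SingPair (dA a) (dA c) := by
  unfold SingPair; decide +kernel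

theorem xor_shift : ∀ n < 32, ∀ k < 32, n ^^^ k < 32 ∧ (fa k % 2 = 1 →
    ((zb (n ^^^ k) 1 = 0 ∧ fa (n ^^^ k) % 2 = 0) ↔ (fa n % 2 = 1 ∧ n.testBit 1 = k.testBit 1))) := by decide +kernel

theorem low_facts : ∀ n < 256, fx n = 0 ∧ (low n = true ↔ n ≠ 0 ∧ (fb' n = 0 ∨ fa n = 0 ∨ fa n = fb' n)) ∧
    (fb' n = 0 → n < 32) := by decide +kernel

theorem split32 : ∀ n < 32, n % 4 = bv (zb n 0) + 2 * bv (zb n 1) ∧ 256 + n = n ^^^ 256 ∧ fb' n = 0 ∧ fx n = 0 ∧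
    fa (256 + n) = fa n := by decide +kernel

variable {G : Type*} [Group G] [Finite G] {z : G} {Q : Subgroup G} {v : G → Vec} {ρ : G → Iso8} {g y d h s : G}
  {qe qg re rg xe : ℕ → G}

namespace Co

variable (C : Co z Q v ρ g y d h s qe qg re rg xe)

/-- Conjugacy of an element to the central involution. -/
def Zc (_C : Co z Q v ρ g y d h s qe qg re rg xe) (n : ℕ) : Prop := IsConj z (_C.el n)

include C

theorem Zc_congr {k : G} {m n : ℕ} (e : k * C.el n * k⁻¹ = C.el m) : C.Zc m ↔ C.Zc n :=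
  ⟨fun h => h.trans (isConj_iff.2 ⟨k, e⟩ : IsConj (C.el n) (C.el m)).symm,
    fun h => h.trans (isConj_iff.2 ⟨k, e⟩)⟩

theorem W0_iff {q : G} : q ∈ isoR C.gens.pt'' dA ↔ q ∈ Q ∧ W0v (v q) :=
  ⟨fun h => ⟨h.1.1, (C.P.mem_R.1 h.1).2, h.2⟩, fun h => ⟨C.P.mem_R.2 ⟨h.1, h.2.1⟩, h.2.2⟩⟩

/-- A lift of the cyclic permutation normalizes the first part and the subgroup. -/
theorem lift_norm {P : G} (hP : P ∈ centralizer ({z} : Set G)) (hPe : ∀ x, act (ρ P) x = piFun x) :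
    (∀ q ∈ isoR C.gens.pt'' dA, P⁻¹ * q * P ∈ isoR C.gens.pt'' dA ∧ P * q * P⁻¹ ∈ isoR C.gens.pt'' dA) ∧
      ∀ a ∈ bigA C.gens.pt'', P⁻¹ * a * P ∈ bigA C.gens.pt'' ∧ P * a * P⁻¹ ∈ bigA C.gens.pt'' := by
  have h1 : ∀ q ∈ isoR C.gens.pt'' dA, P⁻¹ * q * P ∈ isoR C.gens.pt'' dA ∧ P * q * P⁻¹ ∈ isoR C.gens.pt'' dA := by
    intro q hq
    obtain ⟨hQ, hw⟩ := C.W0_iff.1 hq
    obtain ⟨m1, e1⟩ := C.P.conj_mem_Q hP hPe hQ
    refine ⟨C.W0_iff.2 ⟨m1, by rw [e1]; exact (pi_W0 _ hw).2⟩, C.W0_iff.2 ⟨C.P.setup.norm hP hQ, ?_⟩⟩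
    rw [C.P.setup.ρ_act P hP q hQ, hPe]
    exact (pi_W0 _ hw).1
  refine ⟨h1, fun a ha => ⟨?_, C.norm_A (fun q hq => (h1 q hq).1) ha⟩⟩
  have h := C.norm_A (k := P⁻¹) (fun q hq => by rw [inv_inv]; exact (h1 q hq).2) ha
  rwa [inv_inv] at h

theorem v_el {n : ℕ} (hn : n < 32) : v (C.el n) = zb n 1 • w0 + inW (dA (fa n)) := by
  obtain ⟨-, -, hb, hx, -⟩ := split32 n hn
  have hm := C.gens.qe_trip.mem _ (field_lt n).1
  rw [el, hb, hx, C.gens.re_trip.one, C.xe_trip.one, mul_one, mul_one,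
    C.P.setup.v_mul _ (C.gens.pt''.zi_mem _ _).1 _ hm.1.1, C.gens.pt''.v_zi, C.v_qe (field_lt n).1]

theorem el_mem_U {n : ℕ} (hn : n < 32) : C.el n ∈ isoR C.gens.pt'' dA := by
  obtain ⟨-, -, hb, hx, -⟩ := split32 n hn
  rw [el, hb, hx, C.gens.re_trip.one, C.xe_trip.one, mul_one, mul_one]
  exact mul_mem (C.gens.zi_U _ _) (C.gens.qe_trip.mem _ (field_lt n).1)

theorem U_el {u : G} (hu : u ∈ isoR C.gens.pt'' dA) : ∃ n < 32, C.el n = u := by
  obtain ⟨i, j, a, ha, rfl⟩ := C.gens.mem_U hu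
  refine ⟨bv i + 2 * bv j + 4 * a + 32 * 0 + 256 * 0, ?_, ?_⟩
  · exact (by decide +kernel : ∀ i j : ZMod 2, ∀ a < 8, bv i + 2 * bv j + 4 * a + 32 * 0 + 256 * 0 < 32) i j a ha
  · rw [C.el_of i j ha (b := 0) (x := 0) (by norm_num) (by norm_num), C.gens.re_trip.one, C.xe_trip.one, mul_one,
      mul_one]

/-- The classes of the products with parameters in the singular three-space. -/
theorem pair_rule {a c : ℕ} (ha : a < 8) (hc : c < 8) (hc0 : c ≠ 0) {x : G} (hx : C.gens.pt''.Form (dA a) (dA c) x) :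
    IsConj z x ↔ (a = 0 ∨ a = c) := by
  set F := C.gens.pt''
  constructor
  · intro hz
    by_contra hcon
    push Not at hcon
    exact F.sing_not_z hx (pair_sing a ha c hc hc0 hcon.1 hcon.2) hz
  · intro hac
    have hne : dA c ≠ 0 := fun e => hc0 ((dA_inj _ hc 0 (by norm_num)).1 (e.trans dA_vals.2.2.2.2.2.2.1.symm))
    have key : ∀ w, F.Form 0 (dA c) w → IsConj z w := by
      intro w hw
      have hw2 : w * w = 1 := (F.form_invol hw).2
        ⟨by rw [pl6_zero_left]; decide +kernel, by rw [pl6_zero_left]; exact (dA_form c hc).1⟩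
      have hwQ := F.form_notMem hw hne
      have hwi : w ∈ F.Qi := by
        obtain ⟨q, hq, r, hr, hqa, -, rfl⟩ := hw
        obtain ⟨i, j, rfl⟩ := F.zi_of_zero hq hqa
        exact mul_mem (F.zi_mem i j).2 hr.1
      rcases F.Qi_three (L := z) (E := z) hwi hw2 hwQ with h | h | h <;> exact h.symm
    rcases hac with rfl | rfl
    · rw [dA_vals.2.2.2.2.2.2.1] at hx
      exact key x hx
    · obtain ⟨w, hw1, hw2⟩ := F.form_shift hx
      rw [w6_add_self] at hw2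
      exact (key w hw2).trans (F.cconj_isConj hw1).symm

/-- The conjugates outside the cosets of the third family. -/
theorem low_rule {n : ℕ} (hn : n < 256) : C.Zc n ↔ low n = true := by
  obtain ⟨hx, hlow, h32⟩ := low_facts n hn
  rw [hlow]
  rcases Nat.eq_zero_or_pos n with rfl | hpos
  · refine iff_of_false (fun h => ?_) (by simp)
    rw [Zc, C.el_zero] at h
    exact C.P.setup.z_ne (isConj_one_left.1 h)
  by_cases hb : fb' n = 0
  · refine iff_of_true ?_ ⟨hpos.ne', Or.inl hb⟩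
    have hm := C.el_mem_U (h32 hb)
    have hne : C.el n ≠ 1 := fun e => hpos.ne' (C.el_eq_one (by omega) e)
    rcases C.gens.pt''.Q_three (L := z) (E := z) hm.1.1 (C.A_sq (C.el_mem n)) hne with h | h | h <;> exact h.symm
  · obtain ⟨ha, hbl, -⟩ := field_lt n
    have hf : C.gens.pt''.Form (dA (fa n)) (dA (fb' n)) (C.el n) :=
      ⟨C.gens.pt''.zi (zb n 0) (zb n 1) * qe (fa n), mul_mem (C.gens.pt''.zi_R _ _) (C.gens.qe_trip.mem _ ha).1,
        re (fb' n), (C.gens.re_trip.mem _ hbl).1,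
        by rw [C.gens.pt''.pr_mul (C.gens.pt''.zi_mem _ _).1 (C.gens.qe_trip.mem _ ha).1.1, C.gens.pt''.pr_v_zi,
          zero_add, C.gens.qe_pr _ ha],
        C.gens.re_phi _ hbl, by rw [el, hx, C.xe_trip.one, mul_one]⟩
    rw [Zc, C.pair_rule ha hbl hb hf]
    exact ⟨fun h => ⟨hpos.ne', Or.inr h⟩, fun h => h.2.resolve_left hb⟩

/-- The reference involution is a shifted element of the second part up to the first part, the shift being odd. -/
theorem exists_shift {P : G} (hP : P ∈ centralizer ({z} : Set G)) (hPe : ∀ x, act (ρ P) x = piFun x) :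
    ∃ k < 32, fa k % 2 = 1 ∧ xe 1 = C.el k * (P * re 2 * P⁻¹) := by
  set F := C.gens.pt''
  obtain ⟨hN, hNA⟩ := C.lift_norm hP hPe
  have hr := (C.gens.re_trip.mem 2 (by norm_num)).1
  have hy : P * re 2 * P⁻¹ ∈ bigA F := (hNA _ (C.gens.re_A (by norm_num))).2
  have hx := C.xe_trip.mem 1 (by norm_num)
  have cy := (C.gens.A_cz hy).1
  have hu : xe 1 * (P * re 2 * P⁻¹)⁻¹ ∈ isoR F dA := C.gens.A_ker (mul_mem hx (inv_mem hy)) fun w => by
    have e : ρ (P * re 2 * P⁻¹) = ρ (xe 1) := iso_ext fun w => by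
      rw [C.P.shifted_rho hP hPe hr, show C.P.phi (re 2) = dA 2 from C.gens.re_phi 2 (by norm_num), dA_vals.2.1,
        (piFun_facts w).2.2.1, C.xe_one.1 w]
      rfl
    rw [C.P.setup.ρ_mul _ (C.gens.A_cz hx).1 _ (inv_mem cy), C.P.setup.ρ_inv cy, e, mul_inv_cancel, act_one]
  obtain ⟨k, hk, e⟩ := C.U_el hu
  refine ⟨k, hk, ?_, by rw [e]; group⟩
  obtain ⟨σ, τ, -, -, hq, -, s1, t1, -⟩ := C.cm_consts
  have hfacts : pl6 (dG 1) e0 = 0 ∧ pl6 (dG 1) e1 = 0 ∧ dl 1 = 0 := by decide +kernel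
  have hm := (C.gens.qg_trip.mem 1 (by norm_num)).1.1
  have hcomm : P * re 2 * P⁻¹ * qg 1 = qg 1 * (P * re 2 * P⁻¹) :=
    C.P.shifted_comm hP hPe hr hm (by rw [pl_inW, C.gens.qg_pr 1 (by norm_num), hfacts.1]) (by
      rw [show C.P.phi (re 2) = dA 2 from C.gens.re_phi 2 (by norm_num), dA_vals.2.1, ← pl_inW]
      have h := pol_act (ρ P) (piFun (piFun (v (qg 1)))) (inW e0)
      rw [hPe, hPe, (piFun_facts (v (qg 1))).2.1, pi_vals.2.2.2.1] at h
      refine h.symm.trans ?_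
      show pl (v (qg 1)) (inW e1) = 0
      rw [pl_inW, C.gens.qg_pr 1 (by norm_num), hfacts.2.1])
  have hqk : qg 1 * C.el k * (qg 1)⁻¹ * (C.el k)⁻¹ = F.zi (pl6 (dG 1) (dA (fa k))) 0 := by
    obtain ⟨-, -, hb, hxk, -⟩ := split32 k hk
    have hc := C.qg_cz (m := 1) (by norm_num)
    rw [el, hb, hxk, C.gens.re_trip.one, C.xe_trip.one, mul_one, mul_one,
      show qg 1 * (F.zi (zb k 0) (zb k 1) * qe (fa k)) * (qg 1)⁻¹ =
        (qg 1 * F.zi (zb k 0) (zb k 1) * (qg 1)⁻¹) * (qg 1 * qe (fa k) * (qg 1)⁻¹) by group,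
      C.zi_conj hc.1 hc.2, C.qg_qe (by norm_num) (field_lt k).1,
      ← mul_assoc (F.zi (zb k 0) (zb k 1)), F.zi_add, add_comm (zb k 0), add_comm (zb k 1), ← F.zi_add]
    group
  have h1 := hq 1 (by norm_num)
  rw [show xe 1 = C.el k * (P * re 2 * P⁻¹) by rw [e]; group, s1, t1, hfacts.2.2, C.gens.qe_trip.one, mul_one,
    show qg 1 * (C.el k * (P * re 2 * P⁻¹)) * (qg 1)⁻¹ * (C.el k * (P * re 2 * P⁻¹))⁻¹ =
      qg 1 * C.el k * (qg 1)⁻¹ * ((qg 1 * (P * re 2 * P⁻¹)) * (qg 1)⁻¹ * (P * re 2 * P⁻¹)⁻¹) * (C.el k)⁻¹ by group,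
    ← hcomm, show P * re 2 * P⁻¹ * qg 1 * (qg 1)⁻¹ * (P * re 2 * P⁻¹)⁻¹ = 1 by group, mul_one, hqk] at h1
  exact (by decide +kernel : ∀ a < 8, pl6 (dG 1) (dA a) = 1 → a % 2 = 1) _ (field_lt k).1 (F.zi_inj h1).1

/-- The conjugates in the reference coset with vanishing second parameter. -/
theorem coset_rule : ∃ t : Bool, ∀ n < 32, C.Zc (256 + n) ↔ (fa n % 2 = 1 ∧ n.testBit 1 = t) := by
  obtain ⟨P, hP, hPe⟩ := C.P.exists_P
  obtain ⟨hN, hNA⟩ := C.lift_norm hP hPe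
  obtain ⟨k, hk, hodd, hx⟩ := C.exists_shift hP hPe
  refine ⟨k.testBit 1, fun n hn => ?_⟩
  obtain ⟨hm, hiff⟩ := xor_shift n hn k hk
  set m := n ^^^ k
  have he : C.el (256 + n) = C.el m * (P * re 2 * P⁻¹) := by
    have hxe : C.el 256 = xe 1 := C.el_xe (x := 1) (by norm_num)
    rw [(split32 n hn).2.1, C.el_xor, hxe, hx, ← mul_assoc, ← C.el_xor]
  have hmU := C.el_mem_U hm
  obtain ⟨e1, e2, e3⟩ := pi_parts (zb m 1) (fa m) (field_lt m).1
  have hf : C.gens.pt''.Form (dA (4 * bv (zb m 1) + 2 * (fa m / 4) + fa m % 2)) (dA 2)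
      (P⁻¹ * C.el m * P * re 2) :=
    ⟨_, (hN _ hmU).1.1, re 2, (C.gens.re_trip.mem 2 (by norm_num)).1,
      by rw [(C.P.conj_mem_Q hP hPe hmU.1.1).2, C.v_el hm, e1], C.gens.re_phi 2 (by norm_num), rfl⟩
  have hconj : IsConj (P⁻¹ * C.el m * P * re 2) (C.el (256 + n)) := isConj_iff.2 ⟨P, by rw [he]; group⟩
  rw [← hiff hodd, ← e3, ← C.pair_rule e2 (by norm_num) (by norm_num) hf]
  exact ⟨fun h => h.trans hconj.symm, fun h => h.trans hconj⟩

theorem sT_Zc {n : ℕ} (hn : n < 2048) : C.Zc (sT n) ↔ C.Zc n := C.Zc_congr (C.s_el n hn)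

theorem dT_Zc {n : ℕ} (hn : n < 2048) : C.Zc (dT n) ↔ C.Zc n := C.Zc_congr (C.d_el n hn)

theorem word_Zc (w : ℕ) {n : ℕ} (h1 : 256 ≤ n) (h2 : n < 512) : C.Zc (wapp w n) ↔ C.Zc n := by
  have key : ∀ (b : ℕ) (F : ℕ → ℕ), (∀ k, 256 ≤ k → k < 512 → 256 ≤ F k ∧ F k < 512 ∧ (C.Zc (F k) ↔ C.Zc k)) →
      ∀ k, (256 ≤ k ∧ k < 512 ∧ (C.Zc k ↔ C.Zc n)) →
        256 ≤ (if w.testBit b then F k else k) ∧ (if w.testBit b then F k else k) < 512 ∧
          (C.Zc (if w.testBit b then F k else k) ↔ C.Zc n) := by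
    rintro b F hF k ⟨k1, k2, k3⟩
    split_ifs
    · obtain ⟨f1, f2, f3⟩ := hF k k1 k2
      exact ⟨f1, f2, f3.trans k3⟩
    · exact ⟨k1, k2, k3⟩
  have hq : ∀ m ∈ [1, 2, 4], ∀ k, 256 ≤ k → k < 512 → 256 ≤ qM m k ∧ qM m k < 512 ∧ (C.Zc (qM m k) ↔ C.Zc k) :=
    fun m hm k k1 k2 => ⟨(move_range m hm k k2 k1).1, (move_range m hm k k2 k1).2.1,
      C.Zc_congr (C.moves_coset m hm k k1 k2).1⟩
  have hr : ∀ m ∈ [1, 2, 4], ∀ k, 256 ≤ k → k < 512 → 256 ≤ rM m k ∧ rM m k < 512 ∧ (C.Zc (rM m k) ↔ C.Zc k) :=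
    fun m hm k k1 k2 => ⟨(move_range m hm k k2 k1).2.2.1, (move_range m hm k k2 k1).2.2.2.1,
      C.Zc_congr (C.moves_coset m hm k k1 k2).2⟩
  have hs : ∀ k, 256 ≤ k → k < 512 → 256 ≤ sT k ∧ sT k < 512 ∧ (C.Zc (sT k) ↔ C.Zc k) := fun k k1 k2 =>
    ⟨(move_range 1 (by simp) k k2 k1).2.2.2.2.1, (move_range 1 (by simp) k k2 k1).2.2.2.2.2, C.sT_Zc (by omega)⟩
  exact (key 6 sT hs _ (key 5 _ (hr 4 (by simp)) _ (key 4 _ (hr 2 (by simp)) _ (key 3 _ (hr 1 (by simp)) _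
    (key 2 _ (hq 4 (by simp)) _ (key 1 _ (hq 2 (by simp)) _ (key 0 _ (hq 1 (by simp)) n ⟨h1, h2, Iff.rfl⟩))))))).2.2

theorem red_Zc : ∀ n < 2048, 256 ≤ n → (C.Zc n ↔ C.Zc (red n)) := by
  have key : ∀ i n, n < 2048 → 256 ≤ n → mX^[i] (fx n) = 1 → (C.Zc n ↔ C.Zc (red n)) := by
    intro i
    induction i with
    | zero =>
      intro n hn hn' h1
      have hlt : n < 512 := (by decide +kernel : ∀ n < 2048, fx n = 1 → n < 512) n hn h1
      rw [red_one n hlt hn']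
    | succ i ih =>
      intro n hn hn' h1
      obtain ⟨e1, e2, e3, -, -⟩ := red_dT n hn hn'
      rw [Function.iterate_succ_apply, ← (fx_dT n hn).1] at h1
      rw [← C.dT_Zc hn, ih (dT n) e3 e2 h1, e1]
  intro n hn hn'
  obtain ⟨i, -, hi⟩ := steps_to_one (fx n) (field_lt n).2.2
    ((by decide +kernel : ∀ n < 2048, 256 ≤ n → fx n ≠ 0) n hn hn')
  exact key i n hn hn' hi

/-- The set of conjugates is one of eight candidates. -/
theorem exists_cand : ∃ c < 8, ∀ n < 2048, C.Zc n ↔ cand c n = true := by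
  classical
  obtain ⟨t, ht⟩ := C.coset_rule
  let b1 : Bool := decide (C.Zc 288)
  let b2 : Bool := decide (C.Zc 289)
  set c := (if t then 1 else 0) + (if b1 then 2 else 0) + (if b2 then 4 else 0) with hc
  have hbits : c < 8 ∧ c.testBit 0 = t ∧ c.testBit 1 = b1 ∧ c.testBit 2 = b2 := by
    rw [hc]; cases t <;> cases b1 <;> cases b2 <;> decide
  obtain ⟨hc8, hc0, hc1, hc2⟩ := hbits
  refine ⟨c, hc8, fun n hn => ?_⟩
  unfold cand
  split_ifs with h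
  · exact C.low_rule h
  rw [Nat.not_lt] at h
  obtain ⟨-, -, -, r1, r2⟩ := red_dT n hn h
  rw [C.red_Zc n hn h]
  obtain ⟨k, hk⟩ := Nat.exists_eq_add_of_le r1
  rw [hk] at r2 ⊢
  obtain ⟨hcls, hw⟩ := word_table k (by omega)
  have hZ : ∀ i < 5, (C.Zc (rep5 i) ↔ sel c i = true) := by
    intro i hi
    interval_cases i
    · show C.Zc (256 + 0) ↔ false = true
      rw [ht 0 (by norm_num)]
      simp [fa]
    · show C.Zc (256 + 4) ↔ (!c.testBit 0) = true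
      rw [ht 4 (by norm_num), hc0]
      cases t <;> simp [fa, Nat.testBit]
    · show C.Zc (256 + 6) ↔ c.testBit 0 = true
      rw [ht 6 (by norm_num), hc0]
      cases t <;> simp [fa, Nat.testBit]
    · show C.Zc 288 ↔ c.testBit 1 = true
      rw [hc1]; simp [b1]
    · show C.Zc 289 ↔ c.testBit 2 = true
      rw [hc2]; simp [b2]
  have hrng : ∀ i < 5, 256 ≤ rep5 i ∧ rep5 i < 512 := by decide
  conv_lhs => rw [← hw]
  rw [C.word_Zc _ (hrng _ hcls).1 (hrng _ hcls).2, hZ _ hcls]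

end Co

end

end CfsgLib.Spor.CoOneGolay
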