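import Cfsg.Agent.Lib.Spor.CoOneGolay.Field

/-!
# Elements of order seven and three at a pair of points, and the projections they give

For a subgroup of exponent two at one of the two extraspecial groups the element of order seven gives complements to
the four group, generated by the images of one element.
-/

set_option autoImplicit false
set_option synthInstance.maxSize 4096
set_option maxRecDepth 100000

namespace CfsgLib.Spor.CoOneGolay

open Subgroup CfsgLib.Spor.CoOneClasses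
open CfsgLib.Spor.CoOneType (Vec qf Iso8 Om Setup mem_cz conj_eq_iff_comm act act_one act_mul act_add act_injective
  qf_act pol_act iso_ext two_cases qf_nd)

noncomputable section

/-- A power given by a bit. -/
def pw {G : Type*} [One G] (a : G) (p : Bool) : G := if p then a else 1

/-- A product of three elements given by a number below eight. -/
def sp {G : Type*} [Monoid G] (a b c : G) (n : ℕ) : G :=
  pw a (n.testBit 0) * pw b (n.testBit 1) * pw c (n.testBit 2)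

section Triples

variable {G : Type*} [Group G] (H : Subgroup G) (hsq : ∀ x ∈ H, x * x = 1) (hcm : ∀ x ∈ H, ∀ y ∈ H, x * y = y * x)

theorem pw_mem {a : G} (ha : a ∈ H) (p : Bool) : pw a p ∈ H := by cases p <;> simp [pw, ha]

theorem sp_mem {a b c : G} (ha : a ∈ H) (hb : b ∈ H) (hc : c ∈ H) (n : ℕ) : sp a b c n ∈ H :=
  mul_mem (mul_mem (pw_mem H ha _) (pw_mem H hb _)) (pw_mem H hc _)

include hsq hcm in
theorem sp_xor {a b c : G} (ha : a ∈ H) (hb : b ∈ H) (hc : c ∈ H) (m n : ℕ) :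
    sp a b c (m ^^^ n) = sp a b c m * sp a b c n := by
  have hp : ∀ x ∈ H, ∀ p q : Bool, pw x (Bool.xor p q) = pw x p * pw x q := fun x hx p q => by
    cases p <;> cases q <;> simp [pw, hsq x hx]
  simp only [sp, Nat.testBit_xor, hp a ha, hp b hb, hp c hc]
  have c1 : Commute (pw a (n.testBit 0)) (pw b (m.testBit 1)) := hcm _ (pw_mem H ha _) _ (pw_mem H hb _)
  have c2 : Commute (pw a (n.testBit 0) * pw b (n.testBit 1)) (pw c (m.testBit 2)) :=
    hcm _ (mul_mem (pw_mem H ha _) (pw_mem H hb _)) _ (pw_mem H hc _)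
  calc pw a (m.testBit 0) * pw a (n.testBit 0) * (pw b (m.testBit 1) * pw b (n.testBit 1)) *
        (pw c (m.testBit 2) * pw c (n.testBit 2))
      = pw a (m.testBit 0) * (pw a (n.testBit 0) * pw b (m.testBit 1)) * pw b (n.testBit 1) *
        (pw c (m.testBit 2) * pw c (n.testBit 2)) := by group
    _ = pw a (m.testBit 0) * pw b (m.testBit 1) * ((pw a (n.testBit 0) * pw b (n.testBit 1)) *
        pw c (m.testBit 2)) * pw c (n.testBit 2) := by rw [c1.eq]; group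
    _ = pw a (m.testBit 0) * pw b (m.testBit 1) * pw c (m.testBit 2) *
        (pw a (n.testBit 0) * pw b (n.testBit 1) * pw c (n.testBit 2)) := by rw [c2.eq]; group

theorem sp_basis (a b c : G) : sp a b c 0 = 1 ∧ sp a b c 1 = a ∧ sp a b c 2 = b ∧ sp a b c 4 = c := by
  simp [sp, pw, Nat.testBit]

include hsq hcm in
/-- An additive function of a number below eight is a product of three elements. -/
theorem eq_sp {a b c : G} (ha : a ∈ H) (hb : b ∈ H) (hc : c ∈ H) {f : ℕ → G} (h0 : f 0 = 1) (h1 : f 1 = a)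
    (h2 : f 2 = b) (h4 : f 4 = c) (hf : ∀ m < 8, ∀ n < 8, f (m ^^^ n) = f m * f n) :
    ∀ n < 8, f n = sp a b c n := by
  obtain ⟨s0, s1, s2, s4⟩ := sp_basis a b c
  have s := sp_xor H hsq hcm ha hb hc
  intro n hn
  interval_cases n
  · rw [h0, s0]
  · rw [h1, s1]
  · rw [h2, s2]
  · rw [show 3 = 1 ^^^ 2 from rfl, hf _ (by norm_num) _ (by norm_num), s, h1, h2, s1, s2]
  · rw [h4, s4]
  · rw [show 5 = 1 ^^^ 4 from rfl, hf _ (by norm_num) _ (by norm_num), s, h1, h4, s1, s4]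
  · rw [show 6 = 2 ^^^ 4 from rfl, hf _ (by norm_num) _ (by norm_num), s, h2, h4, s2, s4]
  · rw [show 7 = 3 ^^^ 4 from rfl, hf _ (by norm_num) _ (by norm_num), show 3 = 1 ^^^ 2 from rfl,
      hf _ (by norm_num) _ (by norm_num), s, s, h1, h2, h4, s1, s2, s4]

include hsq hcm in
/-- Conjugation acts on the products by a linear map of the numbers. -/
theorem sp_conj {a b c : G} (ha : a ∈ H) (hb : b ∈ H) (hc : c ∈ H) (k : G) (L : ℕ → ℕ)
    (hL : ∀ m < 8, ∀ n < 8, L (m ^^^ n) = L m ^^^ L n) (hL0 : L 0 = 0)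
    (ea : k * a * k⁻¹ = sp a b c (L 1)) (eb : k * b * k⁻¹ = sp a b c (L 2))
    (ec : k * c * k⁻¹ = sp a b c (L 4)) :
    ∀ n < 8, k * sp a b c n * k⁻¹ = sp a b c (L n) := by
  intro n hn
  obtain ⟨s0, s1, s2, s4⟩ := sp_basis a b c
  have s := sp_xor H hsq hcm ha hb hc
  have hcmul : ∀ x y : G, k * (x * y) * k⁻¹ = k * x * k⁻¹ * (k * y * k⁻¹) := fun x y => by group
  interval_cases n
  · rw [hL0, s0]; group
  · rw [s1, ea]
  · rw [s2, eb]
  · rw [show 3 = 1 ^^^ 2 from rfl, hL _ (by norm_num) _ (by norm_num), s, s, hcmul, s1, s2, ea, eb]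
  · rw [s4, ec]
  · rw [show 5 = 1 ^^^ 4 from rfl, hL _ (by norm_num) _ (by norm_num), s, s, hcmul, s1, s4, ea, ec]
  · rw [show 6 = 2 ^^^ 4 from rfl, hL _ (by norm_num) _ (by norm_num), s, s, hcmul, s2, s4, eb, ec]
  · rw [show 7 = 3 ^^^ 4 from rfl, hL _ (by norm_num) _ (by norm_num), show 3 = 1 ^^^ 2 from rfl,
      hL _ (by norm_num) _ (by norm_num), s, s, s, s, hcmul, hcmul, s1, s2, s4, ea, eb, ec]

end Triples

section Projections

variable {G : Type*} [Group G]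

/-- Conjugation by a power. -/
def cj (d : G) (i : ℕ) (a : G) : G := d ^ i * a * (d ^ i)⁻¹

/-- The first projection. -/
def px (d a : G) : G := a * cj d 1 a * cj d 2 a * cj d 4 a

/-- The second projection. -/
def py (d a : G) : G := a * cj d 3 a * cj d 5 a * cj d 6 a

theorem cj_zero (d a : G) : cj d 0 a = a := by simp [cj]

theorem cj_cj (d : G) (i j : ℕ) (a : G) : cj d i (cj d j a) = cj d (i + j) a := by
  simp only [cj, pow_add]; group

theorem cj_mul (d : G) (i : ℕ) (a b : G) : cj d i (a * b) = cj d i a * cj d i b := by simp only [cj]; group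

theorem cj_seven {d : G} (h7 : d ^ 7 = 1) (i : ℕ) (a : G) : cj d (i + 7) a = cj d i a := by
  simp only [cj, pow_add, h7, mul_one]

variable {H : Subgroup G} (hsq : ∀ x ∈ H, x * x = 1) (hcm : ∀ x ∈ H, ∀ y ∈ H, x * y = y * x)
  {d : G} (h7 : d ^ 7 = 1) (hH : ∀ x ∈ H, d * x * d⁻¹ ∈ H)

include hH in
theorem cj_mem {a : G} (ha : a ∈ H) (i : ℕ) : cj d i a ∈ H := by
  induction i with
  | zero => simpa [cj] using ha
  | succ i ih =>
    rw [show i + 1 = 1 + i by omega, ← cj_cj, show cj d 1 (cj d i a) = d * cj d i a * d⁻¹ by simp [cj]]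
    exact hH _ ih

include hH in
theorem px_mem {a : G} (ha : a ∈ H) : px d a ∈ H :=
  mul_mem (mul_mem (mul_mem ha (cj_mem hH ha 1)) (cj_mem hH ha 2)) (cj_mem hH ha 4)

include hH in
theorem py_mem {a : G} (ha : a ∈ H) : py d a ∈ H :=
  mul_mem (mul_mem (mul_mem ha (cj_mem hH ha 3)) (cj_mem hH ha 5)) (cj_mem hH ha 6)

include hsq hcm h7 hH in
/-- The relation satisfied by the first projection. -/
theorem px_rel {a : G} (ha : a ∈ H) : cj d 3 (px d a) = cj d 1 (px d a) * px d a := by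
  let M : CommGroup H := { (inferInstance : Group H) with mul_comm := fun x y => Subtype.ext (hcm _ x.2 _ y.2) }
  let e : ℕ → H := fun i => ⟨cj d i a, cj_mem hH ha i⟩
  have h : e 3 * e 4 * e 5 * e 0 = e 1 * e 2 * e 3 * e 5 * (e 0 * e 1 * e 2 * e 4) := by
    have hx : ∀ x : H, x * x = 1 := fun x => Subtype.ext (hsq _ x.2)
    calc e 3 * e 4 * e 5 * e 0 = e 1 * e 1 * (e 2 * e 2) * (e 3 * e 4 * e 5 * e 0) := by
          rw [hx, hx, one_mul, one_mul]
      _ = _ := by ac_rfl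
  have h' := congrArg Subtype.val h
  simp only [e, Subgroup.coe_mul] at h'
  simp only [px, cj_mul, cj_cj, Nat.reduceAdd]
  rw [show (7 : ℕ) = 0 + 7 from rfl, cj_seven h7]
  simpa [cj_zero] using h'

include hsq hcm h7 hH in
/-- The relation satisfied by the second projection. -/
theorem py_rel {a : G} (ha : a ∈ H) : cj d 3 (py d a) = cj d 2 (py d a) * py d a := by
  let M : CommGroup H := { (inferInstance : Group H) with mul_comm := fun x y => Subtype.ext (hcm _ x.2 _ y.2) }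
  let e : ℕ → H := fun i => ⟨cj d i a, cj_mem hH ha i⟩
  have h : e 3 * e 6 * e 1 * e 2 = e 2 * e 5 * e 0 * e 1 * (e 0 * e 3 * e 5 * e 6) := by
    have hx : ∀ x : H, x * x = 1 := fun x => Subtype.ext (hsq _ x.2)
    calc e 3 * e 6 * e 1 * e 2 = e 0 * e 0 * (e 5 * e 5) * (e 3 * e 6 * e 1 * e 2) := by
          rw [hx, hx, one_mul, one_mul]
      _ = _ := by ac_rfl
  have h' := congrArg Subtype.val h
  simp only [e, Subgroup.coe_mul] at h'
  simp only [py, cj_mul, cj_cj, Nat.reduceAdd]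
  rw [show (7 : ℕ) = 0 + 7 from rfl, show (8 : ℕ) = 1 + 7 from rfl, show (9 : ℕ) = 2 + 7 from rfl,
    cj_seven h7, cj_seven h7, cj_seven h7]
  simpa [cj_zero] using h'

theorem proj_fixed (d : G) {a : G} (ha : d * a = a * d) (h2 : a * a = 1) : px d a = 1 ∧ py d a = 1 := by
  have h : ∀ i, cj d i a = a := fun i => conj_eq_iff_comm.2 ((show Commute d a from ha).pow_left i).eq
  simp only [px, py, h, mul_assoc, h2, mul_one, and_self]

include hcm hH in
theorem px_mul {a b : G} (ha : a ∈ H) (hb : b ∈ H) : px d (a * b) = px d a * px d b := by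
  let M : CommGroup H := { (inferInstance : Group H) with mul_comm := fun x y => Subtype.ext (hcm _ x.2 _ y.2) }
  let e : ℕ → H := fun i => ⟨cj d i a, cj_mem hH ha i⟩
  let f : ℕ → H := fun i => ⟨cj d i b, cj_mem hH hb i⟩
  have h : (e 0 * f 0) * (e 1 * f 1) * (e 2 * f 2) * (e 4 * f 4) =
      e 0 * e 1 * e 2 * e 4 * (f 0 * f 1 * f 2 * f 4) := by ac_rfl
  have h' := congrArg Subtype.val h
  simp only [e, f, Subgroup.coe_mul, cj_zero] at h'
  simpa only [px, cj_mul] using h'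

include hcm hH in
theorem py_mul {a b : G} (ha : a ∈ H) (hb : b ∈ H) : py d (a * b) = py d a * py d b := by
  let M : CommGroup H := { (inferInstance : Group H) with mul_comm := fun x y => Subtype.ext (hcm _ x.2 _ y.2) }
  let e : ℕ → H := fun i => ⟨cj d i a, cj_mem hH ha i⟩
  let f : ℕ → H := fun i => ⟨cj d i b, cj_mem hH hb i⟩
  have h : (e 0 * f 0) * (e 3 * f 3) * (e 5 * f 5) * (e 6 * f 6) =
      e 0 * e 3 * e 5 * e 6 * (f 0 * f 3 * f 5 * f 6) := by ac_rfl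
  have h' := congrArg Subtype.val h
  simp only [e, f, Subgroup.coe_mul, cj_zero] at h'
  simpa only [py, cj_mul] using h'

end Projections

/-- The elements of order seven and three and the partner. -/
structure Sev {G : Type*} [Group G] [Finite G] (z : G) (Q : Subgroup G) (v : G → Vec) (ρ : G → Iso8)
    (g y d h s : G) : Prop where
  fr : Frame z Q v ρ g y
  d_cz : d ∈ centralizer ({z} : Set G)
  d_ci : d ∈ centralizer ({fr.pt'.pt} : Set G)
  d_act : ∀ x, act (ρ d) x = gdF x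
  d7 : d ^ 7 = 1
  h_cz : h ∈ centralizer ({z} : Set G)
  h_ci : h ∈ centralizer ({fr.pt'.pt} : Set G)
  h_act : ∀ x, act (ρ h) x = ghF x
  h3 : h ^ 3 = 1
  h_d : h * d * h⁻¹ = d ^ 2
  s_mem : s ∈ Q
  s_v : v s = f0
  s_d : d * s = s * d
  s_h : h * s = s * h

theorem exists_solve : ∀ a : W6, ∃ u : W6, u + gd6 (gd6 u) = a := by decide +kernel

variable {G : Type*} [Group G] [Finite G] {z : G} {Q : Subgroup G} {v : G → Vec} {ρ : G → Iso8}

theorem pow_four_Q (S : Setup z Q v ρ) {a : G} (ha : a ∈ Q) : a ^ 4 = 1 := by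
  rw [show 4 = 2 + 2 from rfl, pow_add, pow_two]
  rcases S.core.sq_eq a ha with e | e <;> rw [e]
  · rw [one_mul]
  · exact S.zz

omit [Finite G] in
/-- An element fixing a vector in the coordinates fixes a lift when its order is odd. -/
theorem fix_lift (S : Setup z Q v ρ) {c a : G} (hc : c ∈ centralizer ({z} : Set G)) {n : ℕ} (hn : Odd n)
    (h1 : c ^ n = 1) (ha : a ∈ Q) (hv : act (ρ c) (v a) = v a) : c * a = a * c := by
  rcases (S.v_eq (S.norm hc ha) ha).1 ((S.ρ_act c hc a ha).trans hv) with e | e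
  · exact conj_eq_iff_comm.1 e
  exfalso
  have hit : ∀ i : ℕ, c ^ i * a * (c ^ i)⁻¹ = a * z ^ i := by
    intro i
    induction i with
    | zero => simp
    | succ i ih =>
      calc c ^ (i + 1) * a * (c ^ (i + 1))⁻¹ = c * (c ^ i * a * (c ^ i)⁻¹) * c⁻¹ := by rw [pow_succ']; group
        _ = (c * a * c⁻¹) * (c * z ^ i * c⁻¹) := by rw [ih]; group
        _ = a * z * z ^ i := by rw [e, conj_eq_iff_comm.2 ((show Commute c z from mem_cz.1 hc).pow_right i).eq]
        _ = _ := by rw [pow_succ']; group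
  have h := hit n
  rw [h1, one_mul, inv_one, mul_one] at h
  obtain ⟨k, rfl⟩ := hn
  rw [pow_succ, pow_mul, pow_two, S.zz, one_pow, one_mul] at h
  exact S.z_ne (left_eq_mul.1 h)

theorem exists_sev {g y : G} (fr : Frame z Q v ρ g y) : ∃ d h s, Sev z Q v ρ g y d h s := by
  set F := fr.pt'
  have S := F.setup
  obtain ⟨T, hT, hTe, hT7⟩ := exists_gd
  obtain ⟨d₀, hd₀, hd₀i, hd₀ρ⟩ := F.stab_lift hT (by rw [hTe, gd_fix.1])
  set d := d₀ ^ 8 with hd
  have hdC : d ∈ centralizer ({z} : Set G) := pow_mem hd₀ 8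
  have hdi : d ∈ centralizer ({F.pt} : Set G) := Subgroup.pow_mem _ hd₀i 8
  have hρd : ρ d = T := by rw [hd, S.ρ_pow hd₀, hd₀ρ, show 8 = 7 + 1 from rfl, pow_add, hT7, one_mul, pow_one]
  have hd0Q : d₀ ^ 7 ∈ Q := (S.ρ_ker _ (pow_mem hd₀ 7)).1 (by rw [S.ρ_pow hd₀, hd₀ρ, hT7])
  have hd7 : d ^ 7 = 1 := by
    rw [hd, ← pow_mul, show 8 * 7 = 7 * 8 from rfl, pow_mul, show 8 = 4 * 2 from rfl, pow_mul,
      pow_four_Q S hd0Q, one_pow]
  have hda : ∀ x, act (ρ d) x = gdF x := fun x => by rw [hρd, hTe]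
  obtain ⟨U, hU, hUe⟩ := exists_gh
  obtain ⟨h₀, hh₀, hh₀i, hh₀ρ⟩ := F.stab_lift hU (by rw [hUe, gd_fix.2.2.1])
  set e := h₀ * d * h₀⁻¹ with he
  have heC : e ∈ centralizer ({z} : Set G) := mul_mem (mul_mem hh₀ hdC) (inv_mem hh₀)
  have hei : e ∈ centralizer ({F.pt} : Set G) :=
    Subgroup.mul_mem _ (Subgroup.mul_mem _ hh₀i hdi) (Subgroup.inv_mem _ hh₀i)
  set a := e * (d ^ 2)⁻¹ with ha
  have hρe : ρ e = T ^ 2 := iso_ext fun x => by
    rw [he, S.ρ_mul _ (mul_mem hh₀ hdC) _ (inv_mem hh₀), S.ρ_mul _ hh₀ _ hdC, S.ρ_inv hh₀, act_mul, act_mul,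
      hh₀ρ, hρd, hTe, hUe, gd_gh, ← hUe, ← act_mul U, mul_inv_cancel, act_one, ← hTe, ← hTe, ← act_mul, pow_two]
  have haR : a ∈ F.R := by
    refine ⟨(S.ρ_ker _ (mul_mem heC (inv_mem (pow_mem hdC 2)))).1 ?_,
      Subgroup.mul_mem _ hei (Subgroup.inv_mem _ (Subgroup.pow_mem _ hdi 2))⟩
    rw [S.ρ_mul _ heC _ (inv_mem (pow_mem hdC 2)), S.ρ_inv (pow_mem hdC 2), hρe, S.ρ_pow hdC, hρd, mul_inv_cancel]
  obtain ⟨u, hu⟩ := exists_solve (pr (v a))
  obtain ⟨r, hr, hru⟩ := F.R_surj u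
  set m := r * (d ^ 2 * r⁻¹ * (d ^ 2)⁻¹) with hm
  have hmR : m ∈ F.R := mul_mem hr (F.norm_R (pow_mem hdC 2) (Subgroup.pow_mem _ hdi 2) (inv_mem hr))
  have hmv : pr (v m) = u + gd6 (gd6 u) := by
    rw [hm, F.pr_mul hr.1 (F.norm_R (pow_mem hdC 2) (Subgroup.pow_mem _ hdi 2) (inv_mem hr)).1, hru,
      S.ρ_act _ (pow_mem hdC 2) _ (inv_mem hr.1), S.v_inv hr.1, S.ρ_pow hdC, pow_two, act_mul, hda, hda, gdF, gdF,
      pr_vmk, pr_vmk, hru]
  obtain ⟨i, j, hij⟩ : ∃ i j, m⁻¹ * a = F.zi i j := F.zi_of_zero (mul_mem (inv_mem hmR) haR) (by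
    rw [F.pr_mul (inv_mem hmR.1) haR.1, S.v_inv hmR.1, hmv, hu, w6_add_self])
  have he' : e = r * d ^ 2 * r⁻¹ * F.zi i j := by
    rw [show e = a * d ^ 2 by rw [ha]; group, show a = m * F.zi i j by rw [← hij]; group, hm]
    have := F.zi_comm (pow_mem hdC 2) (Subgroup.pow_mem _ hdi 2) i j
    calc r * (d ^ 2 * r⁻¹ * (d ^ 2)⁻¹) * F.zi i j * d ^ 2
        = r * (d ^ 2 * r⁻¹ * (d ^ 2)⁻¹) * (F.zi i j * d ^ 2) := by group
      _ = r * (d ^ 2 * r⁻¹ * (d ^ 2)⁻¹) * (d ^ 2 * F.zi i j) := by rw [this]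
      _ = _ := by group
  set h₁ := r⁻¹ * h₀ with hh₁
  have hrC : r ∈ centralizer ({z} : Set G) := S.le hr.1
  have hh₁C : h₁ ∈ centralizer ({z} : Set G) := mul_mem (inv_mem hrC) hh₀
  have hh₁i : h₁ ∈ centralizer ({F.pt} : Set G) := Subgroup.mul_mem _ (Subgroup.inv_mem _ hr.2) hh₀i
  have hρh₁ : ρ h₁ = U := by rw [hh₁, S.ρ_mul _ (inv_mem hrC) _ hh₀, S.ρ_inv hrC, S.ρ_of_mem hr.1, hh₀ρ]; group
  have h1d : h₁ * d * h₁⁻¹ = d ^ 2 := by
    have hzd : Commute (d ^ 2) (F.zi i j) := F.zi_comm (pow_mem hdC 2) (Subgroup.pow_mem _ hdi 2) i j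
    have h1 : h₁ * d * h₁⁻¹ = d ^ 2 * F.zi i j := by
      calc h₁ * d * h₁⁻¹ = r⁻¹ * e * r := by rw [hh₁, he]; group
        _ = d ^ 2 * (r⁻¹ * F.zi i j * r) := by rw [he']; group
        _ = _ := by rw [mul_assoc r⁻¹, ← F.central_R hr, inv_mul_cancel_left]
    have h7 : (d ^ 2 * F.zi i j) ^ 7 = 1 := by rw [← h1, conj_pow, hd7]; group
    have h2 : F.zi i j ^ 2 = 1 := by
      rw [pow_two, F.zi_add, CharTwo.add_self_eq_zero, CharTwo.add_self_eq_zero, F.zi_zero]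
    rw [hzd.mul_pow, ← pow_mul, show 2 * 7 = 7 * 2 from rfl, pow_mul, hd7, one_pow, one_mul,
      show 7 = 2 * 3 + 1 from rfl, pow_succ, pow_mul, h2, one_pow, one_mul] at h7
    rw [h1, h7, mul_one]
  have hit : ∀ n : ℕ, h₁ ^ n * d * (h₁ ^ n)⁻¹ = d ^ 2 ^ n := by
    intro n
    induction n with
    | zero => simp
    | succ n ih =>
      calc h₁ ^ (n + 1) * d * (h₁ ^ (n + 1))⁻¹ = h₁ * (h₁ ^ n * d * (h₁ ^ n)⁻¹) * h₁⁻¹ := by rw [pow_succ']; group
        _ = (h₁ * d * h₁⁻¹) ^ 2 ^ n := by rw [ih, conj_pow]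
        _ = _ := by rw [h1d, ← pow_mul, ← pow_succ']
  have hU3 : U ^ 3 = 1 := iso_ext fun x => by
    simp only [pow_succ, pow_zero, one_mul, act_mul, act_one, hUe, ghF, xc_vmk, yc_vmk, pr_vmk,
      (gh6_facts _).2.1, vmk_eta]
  set h := h₁ ^ 4 with hh
  have hhC : h ∈ centralizer ({z} : Set G) := pow_mem hh₁C 4
  have hρh : ρ h = U := by rw [hh, S.ρ_pow hh₁C, hρh₁, pow_succ, hU3, one_mul]
  have hh3 : h ^ 3 = 1 := by
    rw [hh, ← pow_mul, show 4 * 3 = 3 * 4 from rfl, pow_mul]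
    exact pow_four_Q S ((S.ρ_ker _ (pow_mem hh₁C 3)).1 (by rw [S.ρ_pow hh₁C, hρh₁, hU3]))
  obtain ⟨s, hs, hsv⟩ := S.v_surj f0
  refine ⟨d, h, s, fr, hdC, hdi, hda, hd7, hhC, Subgroup.pow_mem _ hh₁i 4, fun x => by rw [hρh, hUe], hh3, ?_, hs,
    hsv, fix_lift S hdC ⟨3, rfl⟩ hd7 hs (by rw [hda, hsv, gd_fix.2.1]),
    fix_lift S hhC ⟨1, rfl⟩ hh3 hs (by rw [hρh, hUe, hsv, gd_fix.2.2.2])⟩
  rw [hh, hit, show 2 ^ 4 = 7 * 2 + 2 from rfl, pow_add, pow_mul, hd7, one_pow, one_mul]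

end

end CfsgLib.Spor.CoOneGolay
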