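import Cfsg.Agent.Lib.Spor.CoOneGolay.Moves

/-!
# The translations on the coset of the reference involution
-/

set_option autoImplicit false
set_option synthInstance.maxSize 4096
set_option maxRecDepth 100000

namespace CfsgLib.Spor.CoOneGolay

open Subgroup CfsgLib.Spor.CoOneClasses
open CfsgLib.Spor.CoOneType (Vec qf Iso8 Om Setup mem_cz conj_eq_iff_comm act act_one act_mul act_add act_injective
  qf_act pol_act iso_ext two_cases qf_nd)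

noncomputable section

theorem shift_facts : (∀ g < 8, sig e0 e1 (dG g) + dG g = dA (dl g) ∧ dl g < 8) ∧
    (∀ g < 8, ∀ g' < 8, dl (g ^^^ g') = dl g ^^^ dl g') ∧ (∀ g < 8, sA (dl g) = dl (sG g)) ∧
    (∀ g < 8, ∀ g' < 8, dl g' ^^^ dl g = dl (g ^^^ g')) := by decide +kernel

theorem pb_zero_one : ∀ c : ZMod 2, bv c + 2 * bv 0 = bv c ∧ bv 0 + 2 * bv c = 2 * bv c ∧ bv c + 2 * bv c = 3 * bv c := by
  decide +kernel

theorem trans_parts : (∀ m ∈ [1, 2, 4], ∀ k < 256,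
    qM m (256 + k) = (k % 4) ^^^ (pb m (fa k) ^^^ 4 * fa k) ^^^ (3 * pb m (fb' k) ^^^ 32 * fb' k) ^^^
      (256 ^^^ [0, 1, 17, 0, 9].getD m 0) ∧
    rM m (256 + k) = (k % 4) ^^^ (3 * pb m (fa k) ^^^ 4 * fa k) ^^^ (2 * pb m (fb' k) ^^^ 32 * fb' k) ^^^
      (256 ^^^ [0, 2, 130, 0, 66].getD m 0) ∧
    fa (256 + k) = fa k ∧ fb' (256 + k) = fb' k ∧ fx (256 + k) = 1 ∧ (256 + k) % 4 = k % 4) := by decide +kernel

variable {G : Type*} [Group G] [Finite G] {z : G} {Q : Subgroup G} {v : G → Vec} {ρ : G → Iso8} {g y d h s : G}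
  {qe qg re rg xe : ℕ → G}

namespace Co

variable (C : Co z Q v ρ g y d h s qe qg re rg xe)
include C

theorem pair_mul (i j i' j' : ZMod 2) {e e' : G} (he : e ∈ bigA C.gens.pt'') (_he' : e' ∈ bigA C.gens.pt'') :
    C.gens.pt''.zi i j * e * (C.gens.pt''.zi i' j' * e') = C.gens.pt''.zi (i + i') (j + j') * (e * e') := by
  calc C.gens.pt''.zi i j * e * (C.gens.pt''.zi i' j' * e') = C.gens.pt''.zi i j * (e * C.gens.pt''.zi i' j') * e' := by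
        group
    _ = C.gens.pt''.zi i j * (C.gens.pt''.zi i' j' * e) * e' := by rw [C.A_cm he (C.zi_A i' j')]
    _ = _ := by rw [← C.gens.pt''.zi_add]; group

theorem zq_inj {i j i' j' : ZMod 2} {a a' : ℕ} (ha : a < 8) (ha' : a' < 8)
    (e : C.gens.pt''.zi i j * qe a = C.gens.pt''.zi i' j' * qe a') : i = i' ∧ j = j' := by
  have h0 : ∀ i j a, a < 8 → C.gens.pt''.zi i j * qe a = C.el (bv i + 2 * bv j + 4 * a + 32 * 0 + 256 * 0) :=
    fun i j a ha => by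
      rw [C.el_of i j ha (b := 0) (x := 0) (by norm_num) (by norm_num), C.gens.re_trip.one, C.xe_trip.one, mul_one,
        mul_one]
  obtain ⟨l, e1, e2, -⟩ := encode i j a ha 0 (by norm_num) 0 (by norm_num)
  obtain ⟨l', e1', e2', -⟩ := encode i' j' a' ha' 0 (by norm_num) 0 (by norm_num)
  rw [h0 i j a ha, h0 i' j' a' ha'] at e
  have eq := C.el_inj l l' e
  exact ⟨e1.symm.trans ((congrArg (zb · 0) eq).trans e1'), e2.symm.trans ((congrArg (zb · 1) eq).trans e2')⟩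

theorem zr_inj {i j i' j' : ZMod 2} {b b' : ℕ} (hb : b < 8) (hb' : b' < 8)
    (e : C.gens.pt''.zi i j * re b = C.gens.pt''.zi i' j' * re b') : i = i' ∧ j = j' := by
  have h0 : ∀ i j b, b < 8 → C.gens.pt''.zi i j * re b = C.el (bv i + 2 * bv j + 4 * 0 + 32 * b + 256 * 0) :=
    fun i j b hb => by
      rw [C.el_of i j (a := 0) (b := b) (x := 0) (by norm_num) hb (by norm_num), C.gens.qe_trip.one, C.xe_trip.one,
        mul_one, mul_one]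
  obtain ⟨l, e1, e2, -⟩ := encode i j 0 (by norm_num) b hb 0 (by norm_num)
  obtain ⟨l', e1', e2', -⟩ := encode i' j' 0 (by norm_num) b' hb' 0 (by norm_num)
  rw [h0 i j b hb, h0 i' j' b' hb'] at e
  have eq := C.el_inj l l' e
  exact ⟨e1.symm.trans ((congrArg (zb · 0) eq).trans e1'), e2.symm.trans ((congrArg (zb · 1) eq).trans e2')⟩

theorem qg_qe {m a : ℕ} (hm : m < 8) (ha : a < 8) :
    qg m * qe a * (qg m)⁻¹ = C.gens.pt''.zi (pl6 (dG m) (dA a)) 0 * qe a := by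
  rw [C.gens.pt''.conj_R (C.gens.qg_trip.mem m hm).1 (C.gens.qe_trip.mem a ha).1, C.gens.qg_pr m hm, C.gens.qe_pr a ha]

theorem qg_re {m b : ℕ} (hm : m < 8) (hb : b < 8) :
    qg m * re b * (qg m)⁻¹ = C.gens.pt''.zi (pl6 (dG m) (dA b)) (pl6 (dG m) (dA b)) * re b := by
  rw [C.gens.pt''.conj_R' (C.gens.qg_trip.mem m hm).1 (C.gens.re_trip.mem b hb).1, C.gens.qg_pr m hm,
    show C.gens.pt''.phi (re b) = dA b from C.gens.re_phi b hb]

theorem rg_qe {m a : ℕ} (hm : m < 8) (ha : a < 8) :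
    rg m * qe a * (rg m)⁻¹ = C.gens.pt''.zi (pl6 (dA a) (dG m)) (pl6 (dA a) (dG m)) * qe a := by
  rw [C.gens.pt''.swap_rule (C.gens.qe_trip.mem a ha).1 (C.gens.rg_trip.mem m hm).1, C.gens.qe_pr a ha,
    show C.gens.pt''.phi (rg m) = dG m from C.gens.rg_phi m hm]
  group

theorem rg_re {m b : ℕ} (hm : m < 8) (hb : b < 8) :
    rg m * re b * (rg m)⁻¹ = C.gens.pt''.zi 0 (pl6 (dG m) (dA b)) * re b := by
  rw [conj_RR' C.gens.pt'' (C.gens.rg_trip.mem m hm).1 (C.gens.re_trip.mem b hb).1,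
    show C.gens.pt''.phi (rg m) = dG m from C.gens.rg_phi m hm,
    show C.gens.pt''.phi (re b) = dA b from C.gens.re_phi b hb]

theorem qg_cz {m : ℕ} (hm : m < 8) :
    qg m ∈ centralizer ({z} : Set G) ∧ qg m ∈ centralizer ({C.gens.pt''.pt} : Set G) :=
  ⟨C.P.setup.le (C.gens.qg_trip.mem m hm).1.1, (C.gens.qg_trip.mem m hm).1.2⟩

theorem rg_cz {m : ℕ} (hm : m < 8) :
    rg m ∈ centralizer ({z} : Set G) ∧ rg m ∈ centralizer ({C.gens.pt''.pt} : Set G) :=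
  ⟨C.P.R'_cz (C.gens.rg_trip.mem m hm).1, C.P.R'_ci (C.gens.rg_trip.mem m hm).1⟩

theorem xe_one : (∀ w, act (ρ (xe 1)) w = vmk (xc w) (yc w) (sig e0 e1 (pr w))) ∧
    ∃ i j, ∃ a < 8, xe 1 = y * (C.gens.pt''.zi i j * qe a) := by
  have h1 : ∀ w, act (ρ (xe 1)) w = tAf w := fun w => by
    rw [C.xe_ρ 1 (by norm_num), (tX_facts.2.1 w).1]
  refine ⟨h1, ?_⟩
  have hy := C.gens.y_A
  have hx := C.xe_trip.mem 1 (by norm_num)
  have cy := (C.gens.A_cz hy).1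
  have hu : y⁻¹ * xe 1 ∈ isoR C.gens.pt'' dA := C.gens.A_ker (mul_mem (inv_mem hy) hx) fun w => by
    rw [C.P.setup.ρ_mul _ (inv_mem cy) _ (C.gens.A_cz hx).1, C.P.setup.ρ_inv cy, act_mul, h1,
      ← C.gens.sev.fr.quad.rho, ← act_mul, inv_mul_cancel, act_one]
  obtain ⟨i, j, a, ha, e⟩ := C.gens.mem_U hu
  exact ⟨i, j, a, ha, by rw [← e, mul_inv_cancel_left]⟩

/-- The shape of the commutators with the reference involution. -/
theorem qcm_form {m : ℕ} (hm : m < 8) : ∃ i j, qg m * xe 1 * (qg m)⁻¹ * (xe 1)⁻¹ = C.gens.pt''.zi i j * qe (dl m) := by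
  obtain ⟨hf, -⟩ := C.xe_one
  obtain ⟨e1, hd⟩ := shift_facts.1 m hm
  have hq := (C.gens.qg_trip.mem m hm).1
  have hx := C.gens.A_cz (C.xe_trip.mem 1 (by norm_num))
  have hc := C.gens.pt''.norm_R hx.1 hx.2 (inv_mem hq)
  have hmem : qg m * (xe 1 * (qg m)⁻¹ * (xe 1)⁻¹) ∈ C.gens.pt''.R := mul_mem hq hc
  have hqe := (C.gens.qe_trip.mem _ hd).1
  obtain ⟨i, j, e⟩ := C.gens.pt''.zi_of_zero (mul_mem hmem (inv_mem hqe)) (by
    rw [C.gens.pt''.pr_mul hmem.1 (inv_mem hqe.1), C.P.setup.v_inv hqe.1, C.gens.qe_pr _ hd,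
      C.gens.pt''.pr_mul hq.1 hc.1, C.P.setup.ρ_act _ hx.1 _ (inv_mem hq.1), C.P.setup.v_inv hq.1, hf, pr_vmk,
      C.gens.qg_pr m hm, add_comm (dG m), e1, w6_add_self])
  exact ⟨i, j, by rw [← e]; group⟩

/-- The shape of the commutators with the reference involution, second part. -/
theorem rcm_form {m : ℕ} (hm : m < 8) : ∃ i j, rg m * xe 1 * (rg m)⁻¹ * (xe 1)⁻¹ = C.gens.pt''.zi i j * re (dl m) := by
  obtain ⟨hf, -⟩ := C.xe_one
  obtain ⟨e1, hd⟩ := shift_facts.1 m hm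
  have hr := (C.gens.rg_trip.mem m hm).1
  have hx := C.gens.A_cz (C.xe_trip.mem 1 (by norm_num))
  have hc := C.gens.pt''.norm_R' hx.1 hx.2 (inv_mem hr)
  have hmem : rg m * (xe 1 * (rg m)⁻¹ * (xe 1)⁻¹) ∈ C.gens.pt''.R' := mul_mem hr hc
  obtain ⟨i, j, e⟩ := C.gens.pt''.phi_eq (C.gens.re_trip.mem _ hd).1 hmem (by
    rw [show C.gens.pt''.phi (re (dl m)) = dA (dl m) from C.gens.re_phi _ hd, C.gens.pt''.phi_mul hr hc,
      C.gens.sev.phi_of hx.1 hf (by decide +kernel) (inv_mem hr), C.gens.pt''.phi_inv hr,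
      show C.gens.pt''.phi (rg m) = dG m from C.gens.rg_phi m hm, add_comm (dG m), e1])
  refine ⟨i, j, ?_⟩
  rw [← C.gens.pt''.central_R' (C.gens.re_trip.mem _ hd).1, ← e]; group

/-- The constants of the two kinds of translations. -/
theorem cm_consts : ∃ σ τ σ' τ' : ℕ → ZMod 2,
    (∀ m < 8, qg m * xe 1 * (qg m)⁻¹ * (xe 1)⁻¹ = C.gens.pt''.zi (σ m) (τ m) * qe (dl m)) ∧
    (∀ m < 8, rg m * xe 1 * (rg m)⁻¹ * (xe 1)⁻¹ = C.gens.pt''.zi (σ' m) (τ' m) * re (dl m)) ∧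
    σ 1 = 1 ∧ τ 1 = 0 ∧ σ 2 = 1 ∧ τ 2 = 0 ∧ σ 4 = 1 ∧ τ 4 = 0 ∧
    σ' 1 = 0 ∧ τ' 1 = 1 ∧ σ' 2 = 0 ∧ τ' 2 = 1 ∧ σ' 4 = 0 ∧ τ' 4 = 1 := by
  classical
  choose I J hIJ using fun (m : Fin 8) => C.qcm_form m.2
  choose I' J' hIJ' using fun (m : Fin 8) => C.rcm_form m.2
  let σ : ℕ → ZMod 2 := fun m => I ⟨m % 8, Nat.mod_lt _ (by norm_num)⟩
  let τ : ℕ → ZMod 2 := fun m => J ⟨m % 8, Nat.mod_lt _ (by norm_num)⟩
  let σ' : ℕ → ZMod 2 := fun m => I' ⟨m % 8, Nat.mod_lt _ (by norm_num)⟩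
  let τ' : ℕ → ZMod 2 := fun m => J' ⟨m % 8, Nat.mod_lt _ (by norm_num)⟩
  have hq : ∀ m < 8, qg m * xe 1 * (qg m)⁻¹ * (xe 1)⁻¹ = C.gens.pt''.zi (σ m) (τ m) * qe (dl m) := fun m hm => by
    simp only [σ, τ, Nat.mod_eq_of_lt hm]; exact hIJ ⟨m, hm⟩
  have hr : ∀ m < 8, rg m * xe 1 * (rg m)⁻¹ * (xe 1)⁻¹ = C.gens.pt''.zi (σ' m) (τ' m) * re (dl m) := fun m hm => by
    simp only [σ', τ', Nat.mod_eq_of_lt hm]; exact hIJ' ⟨m, hm⟩
  have hlt := fun m (hm : m < 8) => (shift_facts.1 m hm).2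
  have hxlt := fun m (hm : m < 8) n (hn : n < 8) => (xor_tables.1 m hm n hn).2.2.2.2
  have hqA := fun m (hm : m < 8) => C.gens.qe_A (hlt m hm)
  have hrA := fun m (hm : m < 8) => C.gens.re_A (hlt m hm)
  have coc : ∀ m < 8, ∀ n < 8, σ (m ^^^ n) = σ n + σ m + pl6 (dG m) (dA (dl n)) ∧ τ (m ^^^ n) = τ n + τ m := by
    intro m hm n hn
    have e : qg (m ^^^ n) * xe 1 * (qg (m ^^^ n))⁻¹ * (xe 1)⁻¹ =
        qg m * (qg n * xe 1 * (qg n)⁻¹ * (xe 1)⁻¹) * (qg m)⁻¹ * (qg m * xe 1 * (qg m)⁻¹ * (xe 1)⁻¹) := by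
      rw [C.gens.qg_trip.xor m hm n hn]; group
    rw [hq _ (hxlt m hm n hn), hq m hm, hq n hn,
      show qg m * (C.gens.pt''.zi (σ n) (τ n) * qe (dl n)) * (qg m)⁻¹ =
        (qg m * C.gens.pt''.zi (σ n) (τ n) * (qg m)⁻¹) * (qg m * qe (dl n) * (qg m)⁻¹) by group,
      C.zi_conj (C.qg_cz hm).1 (C.qg_cz hm).2, C.qg_qe hm (hlt n hn),
      ← mul_assoc (C.gens.pt''.zi (σ n) (τ n)), C.gens.pt''.zi_add, C.pair_mul _ _ _ _ (hqA n hn) (hqA m hm),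
      ← C.gens.qe_trip.xor _ (hlt n hn) _ (hlt m hm), shift_facts.2.2.2 m hm n hn] at e
    obtain ⟨u1, u2⟩ := C.zq_inj (hlt _ (hxlt m hm n hn)) (hlt _ (hxlt m hm n hn)) e
    rw [u1, u2, add_zero]
    exact ⟨by abel, rfl⟩
  have coc' : ∀ m < 8, ∀ n < 8, σ' (m ^^^ n) = σ' n + σ' m ∧ τ' (m ^^^ n) = τ' n + τ' m + pl6 (dG m) (dA (dl n)) := by
    intro m hm n hn
    have e : rg (m ^^^ n) * xe 1 * (rg (m ^^^ n))⁻¹ * (xe 1)⁻¹ =
        rg m * (rg n * xe 1 * (rg n)⁻¹ * (xe 1)⁻¹) * (rg m)⁻¹ * (rg m * xe 1 * (rg m)⁻¹ * (xe 1)⁻¹) := by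
      rw [C.gens.rg_trip.xor m hm n hn]; group
    rw [hr _ (hxlt m hm n hn), hr m hm, hr n hn,
      show rg m * (C.gens.pt''.zi (σ' n) (τ' n) * re (dl n)) * (rg m)⁻¹ =
        (rg m * C.gens.pt''.zi (σ' n) (τ' n) * (rg m)⁻¹) * (rg m * re (dl n) * (rg m)⁻¹) by group,
      C.zi_conj (C.rg_cz hm).1 (C.rg_cz hm).2, C.rg_re hm (hlt n hn),
      ← mul_assoc (C.gens.pt''.zi (σ' n) (τ' n)), C.gens.pt''.zi_add, C.pair_mul _ _ _ _ (hrA n hn) (hrA m hm),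
      ← C.gens.re_trip.xor _ (hlt n hn) _ (hlt m hm), shift_facts.2.2.2 m hm n hn] at e
    obtain ⟨u1, u2⟩ := C.zr_inj (hlt _ (hxlt m hm n hn)) (hlt _ (hxlt m hm n hn)) e
    rw [u1, u2, add_zero]
    exact ⟨rfl, by abel⟩
  have hG := fun m (hm : m < 8) => table_lt sG (by simp) m hm
  have inv : ∀ m < 8, σ (sG m) = σ m ∧ τ (sG m) = τ m := by
    intro m hm
    have e : qg (sG m) * xe 1 * (qg (sG m))⁻¹ * (xe 1)⁻¹ = h * (qg m * xe 1 * (qg m)⁻¹ * (xe 1)⁻¹) * h⁻¹ := by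
      rw [← C.gens.qg_trip.h_q m hm]
      conv_lhs => rw [show xe 1 = h * xe 1 * h⁻¹ from (C.xe_trip.h_q 1 (by norm_num)).symm]
      group
    rw [hq _ (hG m hm), hq m hm,
      show h * (C.gens.pt''.zi (σ m) (τ m) * qe (dl m)) * h⁻¹ =
        (h * C.gens.pt''.zi (σ m) (τ m) * h⁻¹) * (h * qe (dl m) * h⁻¹) by group,
      C.zi_conj C.gens.sev.h_cz C.gens.sev.h_ci, C.gens.qe_trip.h_q _ (hlt m hm), shift_facts.2.2.1 m hm] at e
    exact C.zq_inj (hlt _ (hG m hm)) (hlt _ (hG m hm)) e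
  have inv' : ∀ m < 8, σ' (sG m) = σ' m ∧ τ' (sG m) = τ' m := by
    intro m hm
    have e : rg (sG m) * xe 1 * (rg (sG m))⁻¹ * (xe 1)⁻¹ = h * (rg m * xe 1 * (rg m)⁻¹ * (xe 1)⁻¹) * h⁻¹ := by
      rw [← C.gens.rg_trip.h_q m hm]
      conv_lhs => rw [show xe 1 = h * xe 1 * h⁻¹ from (C.xe_trip.h_q 1 (by norm_num)).symm]
      group
    rw [hr _ (hG m hm), hr m hm,
      show h * (C.gens.pt''.zi (σ' m) (τ' m) * re (dl m)) * h⁻¹ =
        (h * C.gens.pt''.zi (σ' m) (τ' m) * h⁻¹) * (h * re (dl m) * h⁻¹) by group,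
      C.zi_conj C.gens.sev.h_cz C.gens.sev.h_ci, C.gens.re_trip.h_q _ (hlt m hm), shift_facts.2.2.1 m hm] at e
    exact C.zr_inj (hlt _ (hG m hm)) (hlt _ (hG m hm)) e
  have a2 : σ (sG 2) = σ 2 ∧ τ (sG 2) = τ 2 := inv 2 (by norm_num)
  have a4 : σ (sG 4) = σ 4 ∧ τ (sG 4) = τ 4 := inv 4 (by norm_num)
  have b2 : σ' (sG 2) = σ' 2 ∧ τ' (sG 2) = τ' 2 := inv' 2 (by norm_num)
  have b4 : σ' (sG 4) = σ' 4 ∧ τ' (sG 4) = τ' 4 := inv' 4 (by norm_num)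
  simp only [show sG 2 = 6 from rfl, show sG 4 = 2 from rfl] at a2 a4 b2 b4
  have p : pl6 (dG 2) (dA (dl 4)) = 1 := by decide +kernel
  obtain ⟨c1, c2⟩ := coc 2 (by norm_num) 4 (by norm_num)
  obtain ⟨c3, c4⟩ := coc' 2 (by norm_num) 4 (by norm_num)
  simp only [show 2 ^^^ 4 = 6 from rfl] at c1 c2 c3 c4
  rw [a2.1, ← a4.1, p, CharTwo.add_self_eq_zero, zero_add] at c1
  rw [a2.2, ← a4.2, CharTwo.add_self_eq_zero] at c2
  rw [b2.1, ← b4.1, CharTwo.add_self_eq_zero] at c3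
  rw [b2.2, ← b4.2, p, CharTwo.add_self_eq_zero, zero_add] at c4
  -- the two remaining constants
  obtain ⟨-, i, j, a, ha, hx0⟩ := C.xe_one
  set p' := pl6 (dG 1) (dA a) with hp'
  have hyc : ∀ s t, y * C.gens.pt''.zi s t * y⁻¹ = C.gens.pt''.zi s t := fun s t =>
    C.zi_conj C.gens.sev.fr.quad.cz C.gens.sev.fr.quad.ci s t
  have hu : ∀ k : G, k ∈ centralizer ({z} : Set G) → k ∈ centralizer ({C.gens.pt''.pt} : Set G) → ∀ c : ZMod 2,
      ∀ c' : ZMod 2, k * qe a * k⁻¹ = C.gens.pt''.zi c c' * qe a →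
      k * xe 1 * k⁻¹ * (xe 1)⁻¹ = k * y * k⁻¹ * y⁻¹ * C.gens.pt''.zi c c' := by
    intro k hk hk' c c' hkq
    rw [hx0]
    calc k * (y * (C.gens.pt''.zi i j * qe a)) * k⁻¹ * (y * (C.gens.pt''.zi i j * qe a))⁻¹
        = k * y * k⁻¹ * (k * C.gens.pt''.zi i j * k⁻¹) * (k * qe a * k⁻¹) * (qe a)⁻¹ *
          (C.gens.pt''.zi i j)⁻¹ * y⁻¹ := by group
      _ = k * y * k⁻¹ * (C.gens.pt''.zi i j * C.gens.pt''.zi c c') * (C.gens.pt''.zi i j)⁻¹ * y⁻¹ := by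
        rw [C.zi_conj hk hk', hkq]; group
      _ = k * y * k⁻¹ * (C.gens.pt''.zi c c' * C.gens.pt''.zi i j) * (C.gens.pt''.zi i j)⁻¹ * y⁻¹ := by
        rw [C.gens.pt''.zi_add, C.gens.pt''.zi_add, add_comm i, add_comm j]
      _ = k * y * k⁻¹ * y⁻¹ * (y * C.gens.pt''.zi c c' * y⁻¹) := by group
      _ = _ := by rw [hyc]
  have hg2 : pl6 (dG 1) e0 = 0 ∧ pl6 (dG 1) e1 = 0 ∧ pl6 e2 (dG 1) = 1 ∧ dl 1 = 0 := by decide +kernel
  have hq1 : qg 1 * y * (qg 1)⁻¹ * y⁻¹ = 1 := by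
    have hm := (C.gens.qg_trip.mem 1 (by norm_num)).1.1
    have e := C.gens.sev.fr.quad.comm _ hm (by rw [pl_inW, C.gens.qg_pr 1 (by norm_num), hg2.1])
      (by rw [pl_inW, C.gens.qg_pr 1 (by norm_num), hg2.2.1])
    rw [← e]; group
  have hr1 : rg 1 * y * (rg 1)⁻¹ * y⁻¹ = C.gens.pt''.zi 1 0 := by
    have hm := (C.gens.rg_trip.mem 1 (by norm_num)).1
    have e := C.gens.sev.fr.form _ hm
      (by rw [show C.gens.sev.fr.pt'.phi (rg 1) = dG 1 from C.gens.rg_phi 1 (by norm_num), hg2.1])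
      (by rw [show C.gens.sev.fr.pt'.phi (rg 1) = dG 1 from C.gens.rg_phi 1 (by norm_num), hg2.2.1])
    rw [show C.gens.sev.fr.pt'.phi (rg 1) = dG 1 from C.gens.rg_phi 1 (by norm_num), hg2.2.2.1] at e
    have hz : (C.gens.pt''.zi 1 0)⁻¹ = C.gens.pt''.zi 1 0 := inv_eq_of_mul_eq_one_right (by
      rw [C.gens.pt''.zi_add, CharTwo.add_self_eq_zero, add_zero, C.gens.pt''.zi_zero])
    calc rg 1 * y * (rg 1)⁻¹ * y⁻¹ = rg 1 * (y * rg 1 * y⁻¹)⁻¹ := by group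
      _ = rg 1 * (rg 1 * C.gens.pt''.zi 1 0)⁻¹ := by rw [e]
      _ = rg 1 * C.gens.pt''.zi 1 0 * (rg 1)⁻¹ := by rw [mul_inv_rev, hz]; group
      _ = _ := C.zi_conj (C.rg_cz (by norm_num)).1 (C.rg_cz (by norm_num)).2 1 0
  have d1 := hu _ (C.qg_cz (m := 1) (by norm_num)).1 (C.qg_cz (m := 1) (by norm_num)).2 p' 0
    (C.qg_qe (by norm_num) ha)
  have d2 := hu _ (C.rg_cz (m := 1) (by norm_num)).1 (C.rg_cz (m := 1) (by norm_num)).2 p' p'
    (by rw [C.rg_qe (by norm_num) ha, pl6_comm])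
  rw [hq 1 (by norm_num), hq1, one_mul, hg2.2.2.2, C.gens.qe_trip.one, mul_one] at d1
  rw [hr 1 (by norm_num), hr1, C.gens.pt''.zi_add, hg2.2.2.2, C.gens.re_trip.one, mul_one, zero_add] at d2
  obtain ⟨f1, f2⟩ := C.gens.pt''.zi_inj d1
  obtain ⟨f3, f4⟩ := C.gens.pt''.zi_inj d2
  have hlast : σ' 1 = 0 := by
    set B : ℕ → ℕ → G := fun x m => rg m * xe x * (rg m)⁻¹ * (xe x)⁻¹
    have hBm : B 5 3 = B 4 3 * B 1 3 := by
      have hA := C.norm_A (C.rg_U (m := 3) (by norm_num)) (C.xe_trip.mem 1 (by norm_num))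
      have m4 := inv_mem (C.xe_trip.mem 4 (by norm_num))
      have e := C.A_cm (mul_mem hA (inv_mem (C.xe_trip.mem 1 (by norm_num)))) m4
      show rg 3 * xe (4 ^^^ 1) * (rg 3)⁻¹ * (xe (4 ^^^ 1))⁻¹ = _
      rw [C.xe_trip.xor 4 (by norm_num) 1 (by norm_num)]
      calc rg 3 * (xe 4 * xe 1) * (rg 3)⁻¹ * (xe 4 * xe 1)⁻¹
          = rg 3 * xe 4 * (rg 3)⁻¹ * (rg 3 * xe 1 * (rg 3)⁻¹ * (xe 1)⁻¹ * (xe 4)⁻¹) := by group
        _ = rg 3 * xe 4 * (rg 3)⁻¹ * ((xe 4)⁻¹ * (rg 3 * xe 1 * (rg 3)⁻¹ * (xe 1)⁻¹)) := by rw [e]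
        _ = _ := by simp only [B]; group
    have hBd : ∀ x < 8, ∀ m < 8, d * B x m * d⁻¹ = B (mX x) (mG m) := fun x hx m hm => by
      simp only [B, ← C.xe_trip.d_q x hx, ← C.gens.rg_trip.d_q m hm]; group
    have hzd : ∀ (s t : ZMod 2) (b : ℕ), b < 8 →
        d * (C.gens.pt''.zi s t * re b) * d⁻¹ = C.gens.pt''.zi s t * re (mA b) := fun s t b hb => by
      rw [← C.gens.re_trip.d_q b hb,
        show d * (C.gens.pt''.zi s t * re b) * d⁻¹ = (d * C.gens.pt''.zi s t * d⁻¹) * (d * re b * d⁻¹) by group,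
        C.zi_conj C.gens.sev.d_cz C.gens.sev.d_ci]
    have g1 : B 2 4 = C.gens.pt''.zi (σ' 2) (τ' 2) * re 3 := by
      have e := hBd 1 (by norm_num) 2 (by norm_num)
      rw [show B 1 2 = _ from hr 2 (by norm_num), hzd _ _ _ (hlt 2 (by norm_num))] at e
      exact e.symm
    have g2 : B 4 1 = C.gens.pt''.zi (σ' 2) (τ' 2) * re 6 := by
      have e := hBd 2 (by norm_num) 4 (by norm_num)
      rw [g1, hzd _ _ _ (by norm_num)] at e
      exact e.symm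
    have g3 : B 5 3 = C.gens.pt''.zi (σ' 2) (τ' 2) * re 7 := by
      have e := hBd 4 (by norm_num) 1 (by norm_num)
      rw [g2, hzd _ _ _ (by norm_num)] at e
      exact e.symm
    have k1 : B 2 1 = C.gens.pt''.zi (σ' 4) (τ' 4) * re 4 := by
      have e := hBd 1 (by norm_num) 4 (by norm_num)
      rw [show B 1 4 = _ from hr 4 (by norm_num), hzd _ _ _ (hlt 4 (by norm_num))] at e
      exact e.symm
    have k2 : B 4 3 = C.gens.pt''.zi (σ' 4) (τ' 4) * re 3 := by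
      have e := hBd 2 (by norm_num) 1 (by norm_num)
      rw [k1, hzd _ _ _ (by norm_num)] at e
      exact e.symm
    rw [g3, k2, show B 1 3 = _ from hr 3 (by norm_num),
      C.pair_mul _ _ _ _ (C.gens.re_A (by norm_num)) (C.gens.re_A (hlt 3 (by norm_num))),
      ← C.gens.re_trip.xor 3 (by norm_num) _ (hlt 3 (by norm_num))] at hBm
    obtain ⟨l1, -⟩ := C.zr_inj (by norm_num) (hxlt 3 (by norm_num) _ (hlt 3 (by norm_num))) hBm
    obtain ⟨l2, -⟩ := coc' 1 (by norm_num) 2 (by norm_num)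
    simp only [show 1 ^^^ 2 = 3 from rfl] at l2
    rw [l2, ← b4.1, c3, zero_add, zero_add] at l1
    exact l1.symm
  rw [hlast] at f3
  have hp1 : p' = 1 := by
    rcases two_cases p' with e | e
    · rw [e, add_zero] at f3; exact absurd f3 (by decide)
    · exact e
  rw [hp1] at f1 f4
  exact ⟨σ, τ, σ', τ', hq, hr, f1, f2, c1, c2, a4.1.symm.trans c1, a4.2.symm.trans c2, hlast, f4, c3, c4, b4.1.symm.trans c3, b4.2.symm.trans c4⟩

/-- The translations on the coset of the reference involution. -/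
theorem moves_coset : ∀ m ∈ [1, 2, 4], ∀ n, 256 ≤ n → n < 512 →
    qg m * C.el n * (qg m)⁻¹ = C.el (qM m n) ∧ rg m * C.el n * (rg m)⁻¹ = C.el (rM m n) := by
  obtain ⟨σ, τ, σ', τ', hq, hr, s1, t1, s2, t2, s4, t4, s1', t1', s2', t2', s4', t4'⟩ := C.cm_consts
  intro m hm n hn hn'
  obtain ⟨k, rfl⟩ := Nat.exists_eq_add_of_le hn
  have hk : k < 256 := by omega
  obtain ⟨hqM, hrM, hfa, hfb, hfx, hmod⟩ := trans_parts m hm k hk
  have hm8 : m < 8 := by simp only [List.mem_cons, List.not_mem_nil, or_false] at hm; omega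
  obtain ⟨ha, hb, -⟩ := field_lt k
  have hbase : C.el (256 + k) = C.el (k % 4) * qe (fa k) * re (fb' k) * xe 1 := by
    rw [C.el_parts (n := 256 + k) (by omega), hmod, hfa, hfb, hfx, C.el_qe ha, C.el_re hb, C.el_xe (by norm_num)]
  have h4 : C.el (k % 4) = C.gens.pt''.zi (zb k 0) (zb k 1) := by
    rw [(by decide +kernel : ∀ k < 256, k % 4 = bv (zb k 0) + 2 * bv (zb k 1)) k hk, C.el_zi]
  have hc : ∀ (w : G) (a b c e : G), w * (a * b * c * e) * w⁻¹ =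
      (w * a * w⁻¹) * (w * b * w⁻¹) * (w * c * w⁻¹) * (w * e * w⁻¹ * e⁻¹ * e) := fun w a b c e => by group
  have hb1 : ∀ a < 8, C.el (pb m a) = C.gens.pt''.zi (pl6 (dG m) (dA a)) 0 ∧
      C.el (2 * pb m a) = C.gens.pt''.zi 0 (pl6 (dG m) (dA a)) ∧
      C.el (3 * pb m a) = C.gens.pt''.zi (pl6 (dG m) (dA a)) (pl6 (dG m) (dA a)) := fun a ha => by
    obtain ⟨e1, e2, e3⟩ := pb_zero_one (pl6 (dG m) (dA a))
    rw [← (pb_spec m hm8 a ha).1, ← C.el_zi _ 0, ← C.el_zi 0, ← C.el_zi, e1, e2, e3]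
    exact ⟨rfl, rfl, rfl⟩
  have hxe : C.el (256 * 1) = xe 1 := C.el_xe (by norm_num)
  have hconst : ∀ i j a, a < 8 → C.el (bv i + 2 * bv j + 4 * a + 32 * 0 + 256 * 0) = C.gens.pt''.zi i j * qe a :=
    fun i j a ha => by rw [C.el_of i j ha (b := 0) (x := 0) (by norm_num) (by norm_num), C.gens.re_trip.one,
      C.xe_trip.one, mul_one, mul_one]
  have hconst' : ∀ i j b, b < 8 → C.el (bv i + 2 * bv j + 4 * 0 + 32 * b + 256 * 0) = C.gens.pt''.zi i j * re b :=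
    fun i j b hb => by rw [C.el_of i j (a := 0) (b := b) (x := 0) (by norm_num) hb (by norm_num),
      C.gens.qe_trip.one, C.xe_trip.one, mul_one, mul_one]
  have hlt := (shift_facts.1 m hm8).2
  constructor
  · have hK : C.el (256 ^^^ [0, 1, 17, 0, 9].getD m 0) = qg m * xe 1 * (qg m)⁻¹ * (xe 1)⁻¹ * xe 1 := by
      rw [hq m hm8, C.el_xor, show C.el 256 = xe 1 from hxe, C.A_cm (C.xe_trip.mem 1 (by norm_num)) (C.el_mem _)]
      congr 1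
      rw [← hconst _ _ _ hlt]
      simp only [List.mem_cons, List.not_mem_nil, or_false] at hm
      rcases hm with rfl | rfl | rfl
      · rw [s1, t1]; rfl
      · rw [s2, t2]; rfl
      · rw [s4, t4]; rfl
    rw [hbase, hqM, C.el_xor, C.el_xor, C.el_xor, C.el_xor, C.el_xor (3 * _), (hb1 _ ha).1, (hb1 _ hb).2.2,
      C.el_qe ha, C.el_re hb, hK, hc, h4, C.zi_conj (C.qg_cz hm8).1 (C.qg_cz hm8).2, C.qg_qe hm8 ha, C.qg_re hm8 hb]
  · have hK : C.el (256 ^^^ [0, 2, 130, 0, 66].getD m 0) = rg m * xe 1 * (rg m)⁻¹ * (xe 1)⁻¹ * xe 1 := by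
      rw [hr m hm8, C.el_xor, show C.el 256 = xe 1 from hxe, C.A_cm (C.xe_trip.mem 1 (by norm_num)) (C.el_mem _)]
      congr 1
      rw [← hconst' _ _ _ hlt]
      simp only [List.mem_cons, List.not_mem_nil, or_false] at hm
      rcases hm with rfl | rfl | rfl
      · rw [s1', t1']; rfl
      · rw [s2', t2']; rfl
      · rw [s4', t4']; rfl
    rw [hbase, hrM, C.el_xor, C.el_xor, C.el_xor, C.el_xor, C.el_xor (2 * _), (hb1 _ ha).2.2, (hb1 _ hb).2.1,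
      C.el_qe ha, C.el_re hb, hK, hc, h4, C.zi_conj (C.rg_cz hm8).1 (C.rg_cz hm8).2, C.rg_qe hm8 ha,
      C.rg_re hm8 hb, pl6_comm (dA (fa k))]

end Co

end

end CfsgLib.Spor.CoOneGolay
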