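import Cfsg.Agent.Lib.Spor.CoOneGolay.Fixer

/-!
# The elementary abelian subgroup of order two to the eleventh
-/

set_option autoImplicit false
set_option synthInstance.maxSize 4096
set_option maxRecDepth 100000

namespace CfsgLib.Spor.CoOneGolay

open Subgroup CfsgLib.Spor.CoOneClasses
open CfsgLib.Spor.CoOneType (Vec qf Iso8 Om Setup mem_cz conj_eq_iff_comm act act_one act_mul act_add act_injective
  qf_act pol_act iso_ext two_cases qf_nd)

noncomputable section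

/-- The subgroup of order two to the eleventh. -/
def bigA {G : Type*} [Group G] [Finite G] {z : G} {Q : Subgroup G} {v : G → Vec} {ρ : G → Iso8} {g : G}
    (F : Pt z Q v ρ g) : Subgroup G :=
  centralizer (isoR F dA : Set G)

theorem tX6_comp : ∀ a < 8, ∀ b < 8, ∀ u : W6, tX6 (a ^^^ b) u = tX6 a (tX6 b u) := by decide +kernel

theorem tX6_gd : ∀ a < 8, ∀ u : W6, gd6 (tX6 a u) = tX6 (mX a) (gd6 u) := by decide +kernel

theorem tX6_vals : ∀ u : W6, tX6 1 u = sig e0 e1 u ∧ tX6 0 u = u ∧ tX6 2 u = sig (dA 4) (dA 3) u := by decide +kernel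

theorem sig_pl : (∀ u : W6, ∀ n < 8, pl6 (sig e0 e1 u + u) (dA n) = 0) ∧
    (∀ u : W6, ∀ n < 8, pl6 (sig (dA 4) (dA 3) u + u) (dA n) = 0) ∧
    (∀ n < 8, sig e0 e1 (dA n) = dA n ∧ pl6 (dA n) e0 = 0 ∧ pl6 (dA n) e1 = 0 ∧ pl6 e2 (dA n) = 0) := by
  decide +kernel

theorem tAf_fix : tAf w0 = w0 ∧ tAf f0 = f0 := by decide +kernel

theorem tX_facts : (∀ a < 8, ∀ b < 8, ∀ w : Vec, tXf (a ^^^ b) w = tXf a (tXf b w)) ∧
    (∀ w : Vec, tXf 1 w = tAf w ∧ tXf 0 w = w ∧ ghF (tAf (ghF (ghF w))) = tAf w) ∧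
    (∀ a < 8, ∀ w : Vec, gdF (tXf a (gdF (gdF (gdF (gdF (gdF (gdF w))))))) = tXf (mX a) w) ∧
    (∀ _w : Vec, tAf w0 = w0 ∧ tAf f0 = f0) ∧ (∀ u : W6, ∀ n < 8, pl6 (sig e0 e1 u + u) (dA n) = 0) ∧
    (∀ n < 8, sig e0 e1 (dA n) = dA n ∧ pl6 (dA n) e0 = 0 ∧ pl6 (dA n) e1 = 0 ∧ pl6 e2 (dA n) = 0) := by
  refine ⟨fun a ha b hb w => ?_, fun w => ⟨?_, ?_, ?_⟩, fun a ha w => ?_, fun _ => tAf_fix, sig_pl.1, sig_pl.2.2⟩
  · simp only [tXf, xc_vmk, yc_vmk, pr_vmk, tX6_comp a ha b hb]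
  · rw [tXf, (tX6_vals _).1]; rfl
  · rw [tXf, (tX6_vals _).2.1, vmk_eta]
  · simp only [ghF, tAf, xc_vmk, yc_vmk, pr_vmk, (gh6_facts _).2.2, (gh6_facts _).2.1]
  · simp only [gdF, tXf, xc_vmk, yc_vmk, pr_vmk, tX6_gd a ha, (gd6_facts _).2.1]

theorem inW_add (u u' : W6) : inW (u + u') = inW u + inW u' := by simp [inW, vmk_add]

variable {G : Type*} [Group G] [Finite G] {z : G} {Q : Subgroup G} {v : G → Vec} {ρ : G → Iso8} {g y d h s : G}
  {qe qg re rg : ℕ → G}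

namespace Gens

variable (D : Gens z Q v ρ g y d h s qe qg re rg)
include D

theorem pt'' : Pt z Q v ρ g := D.sev.pt'

theorem zi_U (i j : ZMod 2) : D.pt''.zi i j ∈ isoR D.pt'' dA :=
  ⟨D.pt''.zi_R i j, fun n _ => by rw [D.pt''.pr_v_zi, pl6_zero_left]⟩

theorem mem_U {q : G} (hq : q ∈ isoR D.pt'' dA) : ∃ i j, ∃ n < 8, q = D.pt''.zi i j * qe n := by
  obtain ⟨n, hn, e⟩ := dA_perp _ hq.2
  have hm := D.qe_trip.mem n hn
  obtain ⟨i, j, e'⟩ := D.pt''.zi_of_zero (mul_mem hq.1 hm.1) (by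
    rw [D.pt''.pr_mul hq.1.1 hm.1.1, e, D.qe_pr n hn, w6_add_self])
  refine ⟨i, j, n, hn, ?_⟩
  rw [← e', mul_assoc, (isoR_props _ tot_A).1 _ hm, mul_one]

theorem pt_U : D.pt''.pt ∈ isoR D.pt'' dA := by
  have h := D.zi_U 0 1
  rwa [D.pt''.zi_pt] at h

theorem z_U : z ∈ isoR D.pt'' dA := by
  have h := D.zi_U 1 0
  rwa [D.pt''.zi_z] at h

theorem A_cz {a : G} (ha : a ∈ bigA D.pt'') :
    a ∈ centralizer ({z} : Set G) ∧ a ∈ centralizer ({D.pt''.pt} : Set G) :=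
  ⟨mem_cz.2 (mem_centralizer_iff.1 ha z D.z_U).symm, mem_cz.2 (mem_centralizer_iff.1 ha _ D.pt_U).symm⟩

theorem A_zi {a : G} (ha : a ∈ bigA D.pt'') (i j : ZMod 2) : a * D.pt''.zi i j = D.pt''.zi i j * a :=
  (mem_centralizer_iff.1 ha _ (D.zi_U i j)).symm

theorem U_le : isoR D.pt'' dA ≤ bigA D.pt'' := fun _ hx =>
  mem_centralizer_iff.2 fun w hw => (isoR_props _ tot_A).2 w hw _ hx

theorem A_fix {a : G} (ha : a ∈ bigA D.pt'') : Fix (ρ a) := by
  have hc := (D.A_cz ha).1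
  refine ⟨?_, fun n hn => ?_⟩
  · rw [← D.pt''.val, ← D.pt''.setup.ρ_act a hc _ D.pt''.mem,
      conj_eq_iff_comm.2 (mem_centralizer_iff.1 ha _ D.pt_U).symm]
  · have hm := D.qe_trip.mem n hn
    have hv : act (ρ a) (v (qe n)) = v (qe n) := by
      rw [← D.pt''.setup.ρ_act a hc _ hm.1.1, conj_eq_iff_comm.2 (mem_centralizer_iff.1 ha _ hm).symm]
    have hw : act (ρ a) w0 = w0 := by
      rw [← D.pt''.val, ← D.pt''.setup.ρ_act a hc _ D.pt''.mem,
        conj_eq_iff_comm.2 (mem_centralizer_iff.1 ha _ D.pt_U).symm]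
    rw [D.pt''.v_of_R hm.1, D.qe_pr n hn, show vmk (xc (v (qe n))) 0 (dA n) = xc (v (qe n)) • w0 + inW (dA n) by
      rcases two_cases (xc (v (qe n))) with e | e <;> rw [e] <;> simp [inW, w0, vmk_add], act_add, act_smul, hw] at hv
    exact add_left_cancel hv

theorem Q_cap {q : G} (hq : q ∈ Q) (ha : q ∈ bigA D.pt'') : q ∈ isoR D.pt'' dA := by
  have hR : q ∈ D.pt''.R := ⟨hq, (D.A_cz ha).2⟩
  refine ⟨hR, fun n hn => ?_⟩
  have hm := D.qe_trip.mem n hn
  have h := (D.pt''.setup.v_comm q hq _ hm.1.1).2 (mem_centralizer_iff.1 ha _ hm).symm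
  rw [show QuadraticMap.polar qf (v q) (v (qe n)) = pl (v q) (v (qe n)) from rfl, pl_eq,
    (D.pt''.mem_R.1 hR).2, (D.pt''.mem_R.1 hm.1).2, D.qe_pr n hn] at h
  simpa using h

theorem re_A {n : ℕ} (hn : n < 8) : re n ∈ bigA D.pt'' := by
  refine mem_centralizer_iff.2 fun q hq => ?_
  obtain ⟨m, hm, e⟩ := dA_perp _ hq.2
  have hr := (D.re_trip.mem n hn).1
  rw [D.pt''.swap_rule hq.1 hr, e, D.re_phi n hn, tot_A.pol m hm n hn, D.pt''.zi_zero, one_mul]

theorem qe_A {n : ℕ} (hn : n < 8) : qe n ∈ bigA D.pt'' := D.U_le (D.qe_trip.mem n hn)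

theorem A_d : ∀ a ∈ bigA D.pt'', d * a * d⁻¹ ∈ bigA D.pt'' := by
  intro a ha
  refine mem_centralizer_iff.2 fun q hq => ?_
  obtain ⟨i, j, n, hn, rfl⟩ := D.mem_U hq
  obtain ⟨m, hm, rfl⟩ := (table_surj n hn).1
  have hz : d * D.pt''.zi i j * d⁻¹ = D.pt''.zi i j := conj_eq_iff_comm.2 (D.sev.zi_fix i j).1
  rw [show D.pt''.zi i j * qe (mA m) = d * (D.pt''.zi i j * qe m) * d⁻¹ by
    rw [← D.qe_trip.d_q m hm]
    calc D.pt''.zi i j * (d * qe m * d⁻¹) = (d * D.pt''.zi i j * d⁻¹) * (d * qe m * d⁻¹) := by rw [hz]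
      _ = _ := by group]
  have h := mem_centralizer_iff.1 ha _ (mul_mem (D.zi_U i j) (D.qe_trip.mem m hm))
  calc d * (D.pt''.zi i j * qe m) * d⁻¹ * (d * a * d⁻¹) = d * (D.pt''.zi i j * qe m * a) * d⁻¹ := by group
    _ = d * (a * (D.pt''.zi i j * qe m)) * d⁻¹ := by rw [h]
    _ = _ := by group

theorem y_A : y ∈ bigA D.pt'' := by
  refine mem_centralizer_iff.2 fun q hq => ?_
  obtain ⟨m, hm, e⟩ := dA_perp _ hq.2
  obtain ⟨h1, h2, h3, -⟩ := tX_facts.2.2.2.2.2 m hm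
  exact (D.sev.fr.quad.comm q hq.1.1 (by rw [pl_inW, e, h2]) (by rw [pl_inW, e, h3])).symm

theorem y_re {n : ℕ} (hn : n < 8) : y * re n = re n * y := by
  obtain ⟨-, h2, h3, h4⟩ := tX_facts.2.2.2.2.2 n hn
  have hr := (D.re_trip.mem n hn).1
  refine conj_eq_iff_comm.1 ?_
  rw [D.sev.fr.form _ hr (by rw [show D.sev.fr.pt'.phi (re n) = dA n from D.re_phi n hn, h2])
    (by rw [show D.sev.fr.pt'.phi (re n) = dA n from D.re_phi n hn, h3]),
    show D.sev.fr.pt'.phi (re n) = dA n from D.re_phi n hn, h4, D.sev.fr.pt'.zi_zero, mul_one]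

/-- The successive conjugates. -/
theorem cy_A (i : ℕ) : cj d i y ∈ bigA D.pt'' := cj_mem D.A_d D.y_A i

theorem cy_ρ : ∀ i w, act (ρ (cj d i y)) w = tXf (mX^[i] 1) w := by
  intro i
  induction i with
  | zero => intro w; rw [cj_zero, D.sev.fr.quad.rho, Function.iterate_zero_apply, (tX_facts.2.1 w).1]
  | succ i ih =>
    intro w
    rw [show i + 1 = 1 + i by omega, ← cj_cj, show cj d 1 (cj d i y) = d * cj d i y * d⁻¹ by simp [cj]]
    have hc := (D.A_cz (D.cy_A i)).1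
    rw [D.pt''.setup.ρ_mul _ (mul_mem D.sev.d_cz hc) _ (inv_mem D.sev.d_cz), D.pt''.setup.ρ_mul _ D.sev.d_cz _ hc,
      D.pt''.setup.ρ_inv D.sev.d_cz, act_mul, act_mul, D.sev.d_act, ih]
    have hinv : ∀ x, act (ρ d)⁻¹ x = gdF (gdF (gdF (gdF (gdF (gdF x))))) := fun x => by
      conv_lhs => rw [← gdF_iter x, ← D.sev.d_act (gdF (gdF (gdF (gdF (gdF (gdF x)))))), ← act_mul, inv_mul_cancel,
        act_one]
    have hlt : ∀ i, mX^[i] 1 < 8 := by
      intro i
      induction i with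
      | zero => decide
      | succ i ih => rw [Function.iterate_succ_apply']; exact (xor_tablesX.2.2.2 _ ih).1
    rw [hinv, tX_facts.2.2.1 _ (hlt i), add_comm, Function.iterate_succ_apply']

theorem cy_re (i : ℕ) {n : ℕ} (hn : n < 8) : cj d i y * re n = re n * cj d i y := by
  induction i generalizing n with
  | zero => rw [cj_zero]; exact D.y_re hn
  | succ i ih =>
    obtain ⟨m, hm, rfl⟩ := (table_surj n hn).1
    rw [show i + 1 = 1 + i by omega, ← cj_cj, show cj d 1 (cj d i y) = d * cj d i y * d⁻¹ by simp [cj],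
      ← D.re_trip.d_q m hm]
    calc d * cj d i y * d⁻¹ * (d * re m * d⁻¹) = d * (cj d i y * re m) * d⁻¹ := by group
      _ = d * (re m * cj d i y) * d⁻¹ := by rw [ih hm]
      _ = _ := by group

/-- An element with trivial image lies in the first part. -/
theorem A_ker {a : G} (ha : a ∈ bigA D.pt'') (h : ∀ w, act (ρ a) w = w) : a ∈ isoR D.pt'' dA :=
  D.Q_cap ((D.pt''.setup.ρ_ker a (D.A_cz ha).1).1 (iso_ext fun w => by rw [h, act_one])) ha

/-- The commutator of two conjugates of the reference involution. -/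
theorem cy_comm : ∃ i j, y * cj d 1 y = D.pt''.zi i j * (cj d 1 y * y) := by
  set y' := cj d 1 y with hy'
  have hA := D.y_A
  have hA' := D.cy_A 1
  have hcA : y * y' * y⁻¹ * y'⁻¹ ∈ bigA D.pt'' :=
    mul_mem (mul_mem (mul_mem hA hA') (inv_mem hA)) (inv_mem hA')
  set c := y * y' * y⁻¹ * y'⁻¹ with hc
  have hcU : c ∈ isoR D.pt'' dA := by
    refine D.A_ker hcA fun w => ?_
    have h1 := (D.A_cz hA).1
    have h2 := (D.A_cz hA').1
    have e1 : ρ y * ρ y' = ρ y' * ρ y := iso_ext fun w => by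
      rw [act_mul, act_mul, D.sev.fr.quad.rho, D.sev.fr.quad.rho, D.cy_ρ 1, D.cy_ρ 1, ← (tX_facts.2.1 _).1,
        ← (tX_facts.2.1 _).1, ← tX_facts.1 _ (by decide) _ (by decide), ← tX_facts.1 _ (by decide) _ (by decide)]
      rfl
    rw [hc, D.pt''.setup.ρ_mul _ (mul_mem (mul_mem h1 h2) (inv_mem h1)) _ (inv_mem h2),
      D.pt''.setup.ρ_mul _ (mul_mem h1 h2) _ (inv_mem h1), D.pt''.setup.ρ_mul _ h1 _ h2, D.pt''.setup.ρ_inv h1,
      D.pt''.setup.ρ_inv h2, e1, mul_inv_cancel_right, mul_inv_cancel, act_one]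
  obtain ⟨i, j, n, hn, e⟩ := D.mem_U hcU
  have hn0 : n = 0 := by
    by_contra hne
    obtain ⟨m, hm, hp⟩ : ∃ m < 8, pl6 (dA n) (dG m) = 1 :=
      (by decide +kernel : ∀ n < 8, n ≠ 0 → ∃ m < 8, pl6 (dA n) (dG m) = 1) n hn hne
    obtain ⟨r, hr, hrp⟩ := D.pt''.phi_surj (dG m)
    have hstep : ∀ k : ℕ, ∀ r ∈ D.pt''.R', ∃ a, (∀ l, Commute (cj d l y) a) ∧
        cj d k y * r * (cj d k y)⁻¹ = a * r := by
      intro k
      induction k with
      | zero =>
        intro r hr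
        rw [cj_zero]
        have hr' : y * r * y⁻¹ ∈ D.pt''.R' := D.pt''.norm_R' D.sev.fr.quad.cz D.sev.fr.quad.ci hr
        have hm' : y * r * y⁻¹ * r⁻¹ ∈ isoR' D.pt'' dA := by
          refine ⟨mul_mem hr' (inv_mem hr), fun n hn => ?_⟩
          rw [D.pt''.phi_mul hr' (inv_mem hr), D.pt''.phi_inv hr, D.sev.phi_of D.sev.fr.quad.cz D.sev.fr.quad.rho
            (by decide +kernel) hr]
          exact tX_facts.2.2.2.2.1 _ n hn
        obtain ⟨b, hb, eb⟩ := dA_perp _ hm'.2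
        obtain ⟨i, j, e'⟩ := D.pt''.phi_eq (D.re_trip.mem b hb).1 hm'.1 (by rw [eb, D.re_phi b hb])
        refine ⟨re b * D.pt''.zi i j, fun l => (show Commute (cj d l y) (re b) from D.cy_re l hb).mul_right
          (D.A_zi (D.cy_A l) i j), ?_⟩
        rw [← e']; group
      | succ k ih =>
        intro r hr
        have hr₀ : d⁻¹ * r * d ∈ D.pt''.R' := by
          simpa using D.pt''.norm_R' (inv_mem D.sev.d_cz) (Subgroup.inv_mem _ D.sev.d_ci) hr
        obtain ⟨a, ha, ea⟩ := ih _ hr₀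
        have hs : ∀ l x, cj d (l + 1) x = d * cj d l x * d⁻¹ := fun l x => by
          simp only [cj, pow_succ']; group
        have hl : ∀ l, cj d l y = cj d (l + 7) y := fun l => (cj_seven D.sev.d7 l y).symm
        refine ⟨d * a * d⁻¹, fun l => ?_, ?_⟩
        · rw [hl l, show l + 7 = (l + 6) + 1 by omega, hs]
          show _ * _ = _ * _
          calc d * cj d (l + 6) y * d⁻¹ * (d * a * d⁻¹) = d * (cj d (l + 6) y * a) * d⁻¹ := by group
            _ = d * (a * cj d (l + 6) y) * d⁻¹ := by rw [(ha (l + 6)).eq]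
            _ = _ := by group
        · rw [hs]
          calc d * cj d k y * d⁻¹ * r * (d * cj d k y * d⁻¹)⁻¹
              = d * (cj d k y * (d⁻¹ * r * d) * (cj d k y)⁻¹) * d⁻¹ := by group
            _ = d * (a * (d⁻¹ * r * d)) * d⁻¹ := by rw [ea]
            _ = _ := by group
    obtain ⟨a, ha, ea⟩ := hstep 0 r hr
    obtain ⟨b, hb, eb⟩ := hstep 1 r hr
    rw [cj_zero] at ea
    have ea' : y⁻¹ * r * y = a⁻¹ * r := by
      have hca : Commute y a := by simpa [cj_zero] using ha 0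
      calc y⁻¹ * r * y = y⁻¹ * (a⁻¹ * (y * r * y⁻¹)) * y := by rw [ea]; group
        _ = (y⁻¹ * a⁻¹ * y) * r := by group
        _ = _ := by rw [mul_assoc y⁻¹, ← hca.inv_right.eq, inv_mul_cancel_left]
    have eb' : y'⁻¹ * r * y' = b⁻¹ * r := by
      calc y'⁻¹ * r * y' = y'⁻¹ * (b⁻¹ * (cj d 1 y * r * (cj d 1 y)⁻¹)) * y' := by rw [eb]; group
        _ = (y'⁻¹ * b⁻¹ * y') * r := by rw [hy']; group
        _ = _ := by rw [mul_assoc y'⁻¹, ← (show Commute y' b⁻¹ from (hb 1).inv_right).eq, inv_mul_cancel_left]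
    have hcr : c * r * c⁻¹ = r := by
      have ha1 : Commute y' a⁻¹ := (ha 1).inv_right
      have hb0 : Commute y b := by simpa [cj_zero] using hb 0
      have hab : Commute y b⁻¹ := hb0.inv_right
      have hay : Commute y a⁻¹ := by
        have h0 : Commute y a := by simpa [cj_zero] using ha 0
        exact h0.inv_right
      have hk : ∀ u x : G, Commute u x → ∀ w, u * (x * w) * u⁻¹ = x * (u * w * u⁻¹) := fun u x hu w => by
        rw [← mul_assoc u, hu.eq]; group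
      calc c * r * c⁻¹ = y * (y' * (y⁻¹ * (y'⁻¹ * r * y') * y) * y'⁻¹) * y⁻¹ := by rw [hc]; group
        _ = y * (y' * (b⁻¹ * (y⁻¹ * r * y)) * y'⁻¹) * y⁻¹ := by
          rw [eb', show y⁻¹ * (b⁻¹ * r) * y = y⁻¹ * b⁻¹ * r * y by group, (hab.inv_left).eq]; group
        _ = y * (b⁻¹ * (a⁻¹ * (b * r))) * y⁻¹ := by
          rw [ea', hk y' b⁻¹ (hb 1).inv_right, hk y' a⁻¹ ha1, hy', eb]
        _ = b⁻¹ * (a⁻¹ * (b * (a * r))) := by rw [hk y b⁻¹ hab, hk y a⁻¹ hay, hk y b hb0, ea]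
        _ = b⁻¹ * (a⁻¹ * b * a) * r := by group
        _ = r := by
          have hab' : Commute a b := by
            have h1 : a * r = y * r * y⁻¹ := ea.symm
            have h2 : b * r = cj d 1 y * r * (cj d 1 y)⁻¹ := eb.symm
            have m1 : y * r * y⁻¹ ∈ D.pt''.R' := D.pt''.norm_R' D.sev.fr.quad.cz D.sev.fr.quad.ci hr
            have m2 : cj d 1 y * r * (cj d 1 y)⁻¹ ∈ D.pt''.R' :=
              D.pt''.norm_R' (D.A_cz hA').1 (D.A_cz hA').2 hr
            have ha' : a ∈ D.pt''.R' := by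
              rw [← mul_inv_cancel_right a r, h1]; exact mul_mem m1 (inv_mem hr)
            have hb' : b ∈ D.pt''.R' := by
              rw [← mul_inv_cancel_right b r, h2]; exact mul_mem m2 (inv_mem hr)
            have e3 := conj_RR' D.pt'' ha' hb'
            have h3 : pl6 (D.pt''.phi a) (D.pt''.phi b) = 0 := by
              have pa : ∀ n < 8, pl6 (D.pt''.phi a) (dA n) = 0 := fun n hn => by
                have e := congrArg D.pt''.phi h1
                rw [D.pt''.phi_mul ha' hr, D.sev.phi_of D.sev.fr.quad.cz D.sev.fr.quad.rho (by decide +kernel) hr] at e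
                rw [show D.pt''.phi a = sig e0 e1 (D.pt''.phi r) + D.pt''.phi r by
                  rw [← e, add_assoc, w6_add_self, add_zero]]
                exact tX_facts.2.2.2.2.1 _ n hn
              have pb : ∀ n < 8, pl6 (D.pt''.phi b) (dA n) = 0 := fun n hn => by
                have hf : ∀ x, act (ρ (cj d 1 y)) x = vmk (xc x) (yc x) (sig (dA 4) (dA 3) (pr x)) := fun x => by
                  rw [D.cy_ρ 1, ← (tX6_vals (pr x)).2.2]; rfl
                have e := congrArg D.pt''.phi h2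
                rw [D.pt''.phi_mul hb' hr, D.sev.phi_of (D.A_cz hA').1 hf (by decide +kernel) hr] at e
                rw [show D.pt''.phi b = sig (dA 4) (dA 3) (D.pt''.phi r) + D.pt''.phi r by
                  rw [← e, add_assoc, w6_add_self, add_zero]]
                exact sig_pl.2.1 _ n hn
              obtain ⟨p, hp', ep⟩ := dA_perp _ pa
              obtain ⟨p', hp'', ep'⟩ := dA_perp _ pb
              rw [ep, ep', tot_A.pol p hp' p' hp'']
            rw [h3, D.pt''.zi_zero, one_mul] at e3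
            exact conj_eq_iff_comm.1 e3
          rw [mul_assoc a⁻¹, ← hab'.eq, inv_mul_cancel_left, inv_mul_cancel, one_mul]
    rw [e, show D.pt''.zi i j * qe n * r * (D.pt''.zi i j * qe n)⁻¹ =
      D.pt''.zi i j * (qe n * r * (qe n)⁻¹) * (D.pt''.zi i j)⁻¹ by group,
      D.pt''.conj_R' (D.qe_trip.mem n hn).1 hr, D.qe_pr n hn, hrp, hp, ← mul_assoc, D.pt''.zi_add, mul_assoc,
      ] at hcr
    have h2 : r * (D.pt''.zi i j)⁻¹ = (D.pt''.zi i j)⁻¹ * r :=
      ((show Commute r (D.pt''.zi i j) from D.pt''.central_R' hr i j).inv_right).eq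
    rw [h2, ← mul_assoc, show (D.pt''.zi i j)⁻¹ = D.pt''.zi i j from inv_eq_of_mul_eq_one_right (by
      rw [D.pt''.zi_add, CharTwo.add_self_eq_zero, CharTwo.add_self_eq_zero, D.pt''.zi_zero]), D.pt''.zi_add] at hcr
    have h0 := D.pt''.zi_eq_one (mul_eq_right.1 hcr)
    rw [add_right_comm, CharTwo.add_self_eq_zero, zero_add] at h0
    exact one_ne_zero h0.1
  subst hn0
  rw [D.qe_trip.one, mul_one] at e
  exact ⟨i, j, by rw [← e, hc]; group⟩

theorem y3 : ∃ u ∈ isoR D.pt'' dA, cj d 3 y = u * (cj d 2 y * y) := by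
  have hm := mul_mem (D.cy_A 3) (inv_mem (mul_mem (D.cy_A 2) D.y_A))
  refine ⟨_, D.A_ker hm fun w => ?_, by group⟩
  have c2 := (D.A_cz (D.cy_A 2)).1
  have cy := (D.A_cz D.y_A).1
  have c3 := (D.A_cz (D.cy_A 3)).1
  have e : ρ (cj d 3 y) = ρ (cj d 2 y) * ρ y := iso_ext fun w => by
    rw [act_mul, D.cy_ρ 3, D.cy_ρ 2, D.sev.fr.quad.rho, ← (tX_facts.2.1 _).1,
      ← tX_facts.1 _ (by decide) _ (by decide)]
    rfl
  rw [D.pt''.setup.ρ_mul _ c3 _ (inv_mem (mul_mem c2 cy)), D.pt''.setup.ρ_inv (mul_mem c2 cy),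
    D.pt''.setup.ρ_mul _ c2 _ cy, e, mul_inv_cancel, act_one]

/-- The conjugates of the reference involution commute. -/
theorem cy_cy : y * cj d 1 y = cj d 1 y * y ∧ y * cj d 2 y = cj d 2 y * y := by
  obtain ⟨i, j, h01⟩ := D.cy_comm
  set c := D.pt''.zi i j with hc
  have hdm : ∀ a b w : G, a = w * b → d * a * d⁻¹ = (d * w * d⁻¹) * (d * b * d⁻¹) := fun a b w h => by
    rw [h]; group
  have hdc : d * c * d⁻¹ = c := conj_eq_iff_comm.2 (D.sev.zi_fix i j).1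
  have hs : ∀ l x, d * cj d l x * d⁻¹ = cj d (l + 1) x := fun l x => by simp only [cj, pow_succ']; group
  have up : ∀ a b : ℕ, cj d a y * cj d b y = c * (cj d b y * cj d a y) →
      cj d (a + 1) y * cj d (b + 1) y = c * (cj d (b + 1) y * cj d (a + 1) y) := fun a b hab => by
    have e := hdm _ _ _ hab
    rw [hdc] at e
    rw [← hs a, ← hs b]
    calc d * cj d a y * d⁻¹ * (d * cj d b y * d⁻¹) = d * (cj d a y * cj d b y) * d⁻¹ := by group
      _ = c * (d * (cj d b y * cj d a y) * d⁻¹) := e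
      _ = _ := by group
  have e01 : cj d 0 y * cj d 1 y = c * (cj d 1 y * cj d 0 y) := by rw [cj_zero]; exact h01
  have e12 := up 0 1 e01
  have e23 := up 1 2 e12
  obtain ⟨u, hu, h3⟩ := D.y3
  have hcu : ∀ {x : G}, x ∈ bigA D.pt'' → Commute u x := fun hx => mem_centralizer_iff.1 hx u hu
  have hcc : ∀ {x : G}, x ∈ bigA D.pt'' → Commute c x := fun hx => (D.A_zi hx i j).symm
  have hc2 : c * c = 1 := by
    rw [hc, D.pt''.zi_add, CharTwo.add_self_eq_zero, CharTwo.add_self_eq_zero, D.pt''.zi_zero]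
  have hcu' : Commute c u := hcc (D.U_le hu)
  simp only [zero_add, show 1 + 1 = 2 from rfl, show 2 + 1 = 3 from rfl] at e12 e23
  rw [h3] at e23
  have e20 : cj d 2 y * y = c * (y * cj d 2 y) := by
    refine mul_left_cancel (a := u * cj d 2 y) ?_
    calc u * cj d 2 y * (cj d 2 y * y) = cj d 2 y * (u * (cj d 2 y * y)) := by
          rw [(hcu (D.cy_A 2)).eq]; group
      _ = c * (u * (cj d 2 y * y) * cj d 2 y) := e23
      _ = (c * (u * cj d 2 y)) * (y * cj d 2 y) := by group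
      _ = u * cj d 2 y * c * (y * cj d 2 y) := by rw [(hcu'.mul_right (hcc (D.cy_A 2))).eq]
      _ = _ := by group
  have e31 := up 2 0 (by rw [cj_zero]; exact e20)
  simp only [zero_add, show 2 + 1 = 3 from rfl] at e31
  have e13 : cj d 1 y * cj d 3 y = cj d 3 y * cj d 1 y := by
    rw [h3]
    have e10 : cj d 1 y * y = c * (y * cj d 1 y) := by rw [h01, ← mul_assoc, hc2, one_mul]
    calc cj d 1 y * (u * (cj d 2 y * y)) = (cj d 1 y * u) * (cj d 2 y * y) := by group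
      _ = u * (cj d 1 y * cj d 2 y) * y := by rw [← (hcu (D.cy_A 1)).eq]; group
      _ = u * (c * cj d 2 y) * (cj d 1 y * y) := by rw [e12]; group
      _ = u * (cj d 2 y * c) * (c * (y * cj d 1 y)) := by rw [e10, (hcc (D.cy_A 2)).eq]
      _ = u * cj d 2 y * (c * c) * (y * cj d 1 y) := by group
      _ = _ := by rw [hc2, mul_one]; group
  have hc1 : c = 1 := by
    rw [e13] at e31
    exact mul_eq_right.1 e31.symm
  rw [hc1, one_mul] at h01 e20
  exact ⟨h01, e20.symm⟩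

/-- Decomposition for a family with the images of the model. -/
theorem A_decomp {xs : ℕ → G} (hxA : ∀ n < 8, xs n ∈ bigA D.pt'') (hxρ : ∀ n < 8, ∀ w, act (ρ (xs n)) w = tXf n w)
    {a : G} (ha : a ∈ bigA D.pt'') :
    ∃ i j, ∃ n < 8, ∃ b < 8, ∃ x < 8, a = D.pt''.zi i j * qe n * re b * xs x := by
  obtain ⟨b, hb, x, hx, huniq⟩ := fix_cases (D.A_fix ha)
  have hm := mul_mem (D.re_A hb) (hxA x hx)
  have hm' := (D.A_cz hm).1
  have e : ρ (re b * xs x) = ρ a := huniq _ fun w => by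
    rw [D.pt''.setup.ρ_mul _ (D.A_cz (D.re_A hb)).1 _ (D.A_cz (hxA x hx)).1, act_mul, hxρ x hx,
      D.pt''.rho_R' (D.re_trip.mem b hb).1, D.re_phi b hb]
    rfl
  have hU : a * (re b * xs x)⁻¹ ∈ isoR D.pt'' dA := D.A_ker (mul_mem ha (inv_mem hm)) fun w => by
    rw [D.pt''.setup.ρ_mul _ (D.A_cz ha).1 _ (inv_mem hm'), D.pt''.setup.ρ_inv hm', e, mul_inv_cancel, act_one]
  obtain ⟨i, j, n, hn, e'⟩ := D.mem_U hU
  refine ⟨i, j, n, hn, b, hb, x, hx, ?_⟩
  calc a = a * (re b * xs x)⁻¹ * (re b * xs x) := by group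
    _ = _ := by rw [e']; group

theorem one_ρ : ∀ w, act (ρ (1 : G)) w = w := fun w => by rw [D.pt''.setup.ρ_one, act_one]

/-- The subgroup is elementary abelian. -/
theorem A_props : (∀ a ∈ bigA D.pt'', a * a = 1) ∧ (∀ a ∈ bigA D.pt'', ∀ b ∈ bigA D.pt'', a * b = b * a) := by
  set y1 := cj d 1 y
  set y2 := cj d 2 y
  set C := closure ({y, y1, y2} : Set G)
  set xs : ℕ → G := fun n => sp y y1 y2 n
  have hy2 : Commute y1 y2 := by
    have hs : ∀ l x, d * cj d l x * d⁻¹ = cj d (l + 1) x := fun l x => by simp only [cj, pow_succ']; group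
    have h := congrArg (fun t => d * t * d⁻¹) D.cy_cy.1
    show y1 * y2 = y2 * y1
    calc y1 * y2 = d * cj d 0 y * d⁻¹ * (d * cj d 1 y * d⁻¹) := by rw [hs, hs]
      _ = d * (y * cj d 1 y) * d⁻¹ := by rw [cj_zero]; group
      _ = d * (cj d 1 y * y) * d⁻¹ := h
      _ = (d * cj d 1 y * d⁻¹) * (d * cj d 0 y * d⁻¹) := by rw [cj_zero]; group
      _ = _ := by rw [hs, hs]
  have hpair : ∀ a ∈ ({y, y1, y2} : Set G), ∀ b ∈ ({y, y1, y2} : Set G), a * b = b * a := by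
    intro a ha b hb
    obtain ⟨h1, h2⟩ := D.cy_cy
    rcases ha with rfl | rfl | rfl <;> rcases hb with rfl | rfl | rfl <;>
      first | rfl | exact h1 | exact h1.symm | exact h2 | exact h2.symm | exact hy2.eq | exact hy2.eq.symm
  have hC : ∀ a ∈ C, ∀ b ∈ C, a * b = b * a := fun a ha b hb => by
    have h1 : C ≤ centralizer ({y, y1, y2} : Set G) := (closure_le _).2 fun a ha =>
      mem_centralizer_iff.2 fun b hb => hpair b hb a ha
    rw [← centralizer_closure] at h1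
    exact (mem_centralizer_iff.1 (h1 hb) a ha)
  have m0 : y ∈ C := subset_closure (by simp)
  have m1 : y1 ∈ C := subset_closure (by simp)
  have m2 : y2 ∈ C := subset_closure (by simp)
  have hys : ∀ i, cj d i y * cj d i y = 1 := fun i => by
    rw [← cj_mul, D.sev.fr.quad.sq]; simp [cj]
  have hCsq : ∀ a ∈ C, a * a = 1 := by
    intro a ha
    induction ha using closure_induction with
    | mem a h =>
      rcases h with rfl | rfl | rfl
      · exact D.sev.fr.quad.sq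
      · exact hys 1
      · exact hys 2
    | one => simp
    | mul a b ha hb h1 h2 =>
      calc a * b * (a * b) = a * (b * a) * b := by group
        _ = a * (a * b) * b := by rw [hC b hb a ha]
        _ = a * a * (b * b) := by group
        _ = 1 := by rw [h1, h2, one_mul]
    | inv a ha h1 => rw [← mul_inv_rev, h1, inv_one]
  have hxA : ∀ n < 8, xs n ∈ bigA D.pt'' := fun n _ => sp_mem _ D.y_A (D.cy_A 1) (D.cy_A 2) n
  have hxρ : ∀ n < 8, ∀ w, act (ρ (xs n)) w = tXf n w := by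
    obtain ⟨s0, s1, s2, s4⟩ := sp_basis y y1 y2
    have hmul : ∀ m < 8, ∀ n < 8, (∀ w, act (ρ (xs m)) w = tXf m w) → (∀ w, act (ρ (xs n)) w = tXf n w) →
        ∀ w, act (ρ (xs (m ^^^ n))) w = tXf (m ^^^ n) w := fun m hm n hn e1 e2 w => by
      rw [show xs (m ^^^ n) = xs m * xs n from sp_xor C hCsq hC m0 m1 m2 m n,
        D.pt''.setup.ρ_mul _ (D.A_cz (hxA m hm)).1 _ (D.A_cz (hxA n hn)).1, act_mul, e2, e1, tX_facts.1 m hm n hn]
    have a1 : ∀ w, act (ρ (xs 1)) w = tXf 1 w := fun w => by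
      rw [show xs 1 = cj d 0 y by rw [cj_zero]; exact s1, D.cy_ρ 0]; rfl
    have a2 : ∀ w, act (ρ (xs 2)) w = tXf 2 w := fun w => by
      rw [show xs 2 = cj d 1 y from s2, D.cy_ρ 1]; rfl
    have a4 : ∀ w, act (ρ (xs 4)) w = tXf 4 w := fun w => by
      rw [show xs 4 = cj d 2 y from s4, D.cy_ρ 2]; rfl
    intro n hn
    interval_cases n
    · intro w
      rw [show xs 0 = 1 from s0, D.one_ρ, (tX_facts.2.1 w).2.1]
    · exact a1
    · exact a2
    · exact hmul 1 (by norm_num) 2 (by norm_num) a1 a2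
    · exact a4
    · exact hmul 1 (by norm_num) 4 (by norm_num) a1 a4
    · exact hmul 2 (by norm_num) 4 (by norm_num) a2 a4
    · exact hmul 3 (by norm_num) 4 (by norm_num) (hmul 1 (by norm_num) 2 (by norm_num) a1 a2) a4
  have hre_xs : ∀ b < 8, ∀ x, Commute (re b) (xs x) := fun b hb x => by
    have e : C ≤ centralizer ({re b} : Set G) := (closure_le _).2 (by
      rintro a (rfl | rfl | rfl) <;> refine mem_cz.2 ?_
      · exact D.y_re hb
      · exact D.cy_re 1 hb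
      · exact D.cy_re 2 hb)
    exact (mem_cz.1 (e (sp_mem _ m0 m1 m2 x))).symm
  have key : ∀ a ∈ bigA D.pt'', ∀ b ∈ bigA D.pt'', a * b = b * a := by
    intro a ha b hb
    obtain ⟨i, j, n, hn, b₁, hb₁, x, hx, rfl⟩ := D.A_decomp hxA hxρ ha
    have c1 : Commute (D.pt''.zi i j * qe n) b :=
      mem_centralizer_iff.1 hb _ (mul_mem (D.zi_U i j) (D.qe_trip.mem n hn))
    obtain ⟨i', j', n', hn', b₂, hb₂, x', hx', rfl⟩ := D.A_decomp hxA hxρ hb
    have hu' : ∀ c ∈ bigA D.pt'', Commute c (D.pt''.zi i' j' * qe n') := fun c hc =>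
      (mem_centralizer_iff.1 hc _ (mul_mem (D.zi_U i' j') (D.qe_trip.mem n' hn'))).symm
    have c2 : Commute (re b₁) (D.pt''.zi i' j' * qe n' * re b₂ * xs x') :=
      ((hu' _ (D.re_A hb₁)).mul_right ((isoR'_props D.pt'' tot_A).2 _ (D.re_trip.mem b₁ hb₁) _
        (D.re_trip.mem b₂ hb₂))).mul_right (hre_xs b₁ hb₁ x')
    have c3 : Commute (xs x) (D.pt''.zi i' j' * qe n' * re b₂ * xs x') :=
      ((hu' _ (hxA x hx)).mul_right (hre_xs b₂ hb₂ x).symm).mul_right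
        (hC _ (sp_mem _ m0 m1 m2 x) _ (sp_mem _ m0 m1 m2 x'))
    exact ((c1.mul_left c2).mul_left c3).eq
  refine ⟨fun a ha => ?_, key⟩
  obtain ⟨i, j, n, hn, b, hb, x, hx, rfl⟩ := D.A_decomp hxA hxρ ha
  have sq2 : ∀ p q : G, Commute p q → p * p = 1 → q * q = 1 → p * q * (p * q) = 1 := fun p q hpq h1 h2 => by
    calc p * q * (p * q) = p * (q * p) * q := by group
      _ = p * (p * q) * q := by rw [← hpq.eq]
      _ = p * p * (q * q) := by group
      _ = 1 := by rw [h1, h2, one_mul]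
  have hu := mul_mem (D.zi_U i j) (D.qe_trip.mem n hn)
  exact sq2 _ _ (key _ (mul_mem (D.U_le hu) (D.re_A hb)) _ (hxA x hx))
    (sq2 _ _ (key _ (D.U_le hu) _ (D.re_A hb)) ((isoR_props D.pt'' tot_A).1 _ hu)
      ((isoR'_props D.pt'' tot_A).1 _ (D.re_trip.mem b hb)))
    (hCsq _ (sp_mem _ m0 m1 m2 x))

/-- The third family. -/
theorem exists_xe : ∃ xe, Trip (bigA D.pt'') d h mX sX xe ∧ ∀ n < 8, ∀ w, act (ρ (xe n)) w = tXf n w := by
  obtain ⟨hsq, hcm⟩ := D.A_props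
  set a := py d y
  have ha : a ∈ bigA D.pt'' := py_mem D.A_d D.y_A
  have hK := D.sev
  have hρh : ∀ x, act (ρ h)⁻¹ x = ghF (ghF x) := fun x => by
    have e : ∀ x, ghF (ghF (ghF x)) = x := fun x => by
      simp only [ghF, xc_vmk, yc_vmk, pr_vmk, (gh6_facts _).2.1, vmk_eta]
    conv_lhs => rw [← e x, ← hK.h_act (ghF (ghF x)), ← act_mul, inv_mul_cancel, act_one]
  have hhy : h * y * h⁻¹ ∈ bigA D.pt'' := by
    refine mem_centralizer_iff.2 fun q hq => ?_
    obtain ⟨i, j, n, hn, rfl⟩ := D.mem_U hq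
    obtain ⟨m, hm, rfl⟩ : ∃ m < 8, sA m = n := (by decide +kernel : ∀ n < 8, ∃ m < 8, sA m = n) n hn
    have hz : h * D.pt''.zi i j * h⁻¹ = D.pt''.zi i j := conj_eq_iff_comm.2 (hK.zi_fix i j).2
    have e := mem_centralizer_iff.1 D.y_A _ (mul_mem (D.zi_U i j) (D.qe_trip.mem m hm))
    calc D.pt''.zi i j * qe (sA m) * (h * y * h⁻¹) = h * D.pt''.zi i j * h⁻¹ * (h * qe m * h⁻¹) * (h * y * h⁻¹) := by
          rw [hz, D.qe_trip.h_q m hm]
      _ = h * (D.pt''.zi i j * qe m * y) * h⁻¹ := by group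
      _ = h * (y * (D.pt''.zi i j * qe m)) * h⁻¹ := by rw [e]
      _ = h * y * h⁻¹ * (h * D.pt''.zi i j * h⁻¹ * (h * qe m * h⁻¹)) := by group
      _ = _ := by rw [hz, D.qe_trip.h_q m hm]
  have hu : h * y * h⁻¹ * y⁻¹ ∈ isoR D.pt'' dA := D.A_ker (mul_mem hhy (inv_mem D.y_A)) fun w => by
    have cy := (D.A_cz D.y_A).1
    rw [D.pt''.setup.ρ_mul _ (D.A_cz hhy).1 _ (inv_mem cy), D.pt''.setup.ρ_mul _ (mul_mem hK.h_cz cy) _
      (inv_mem hK.h_cz), D.pt''.setup.ρ_mul _ hK.h_cz _ cy, D.pt''.setup.ρ_inv hK.h_cz, D.pt''.setup.ρ_inv cy,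
      act_mul, act_mul, act_mul, hρh, hK.fr.quad.rho, hK.h_act, (tX_facts.2.1 _).2.2, ← hK.fr.quad.rho, ← act_mul,
      mul_inv_cancel, act_one]
  obtain ⟨i, j, n, hn, e⟩ := D.mem_U hu
  have hhy' : h * y * h⁻¹ = D.pt''.zi i j * qe n * y := by rw [← e]; group
  have hcq : ∀ l, cj d l (qe n) = qe (mA^[l] n) ∧ mA^[l] n < 8 := by
    intro l
    induction l with
    | zero => exact ⟨cj_zero _ _, hn⟩
    | succ l ih =>
      refine ⟨?_, by rw [Function.iterate_succ_apply']; exact table_lt mA (by simp) _ ih.2⟩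
      rw [show l + 1 = 1 + l by omega, ← cj_cj, ih.1, show cj d 1 (qe (mA^[l] n)) = d * qe (mA^[l] n) * d⁻¹ by
        simp [cj], D.qe_trip.d_q _ ih.2, add_comm, Function.iterate_succ_apply']
  have hz2 : D.pt''.zi i j * D.pt''.zi i j = 1 := hsq _ (D.U_le (D.zi_U i j))
  have hpq : py d (qe n) = 1 := by
    rw [py, (hcq 3).1, (hcq 5).1, (hcq 6).1, ← D.qe_trip.xor _ hn _ (hcq 3).2,
      ← D.qe_trip.xor _ (xor_tables.1 _ hn _ (hcq 3).2).2.2.2.2 _ (hcq 5).2,
      ← D.qe_trip.xor _ (xor_tables.1 _ (xor_tables.1 _ hn _ (hcq 3).2).2.2.2.2 _ (hcq 5).2).2.2.2.2 _ (hcq 6).2,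
      (by decide +kernel : ∀ n < 8, n ^^^ mA^[3] n ^^^ mA^[5] n ^^^ mA^[6] n = 0) n hn, D.qe_trip.one]
  have hh : h * a * h⁻¹ = a := by
    rw [py_h hcm hK.d7 D.A_d hK.h_d D.y_A hhy, hhy',
      py_mul hcm D.A_d (mul_mem (D.U_le (D.zi_U i j)) (D.qe_A hn)) D.y_A,
      py_mul hcm D.A_d (D.U_le (D.zi_U i j)) (D.qe_A hn), (proj_fixed d (hK.zi_fix i j).1 hz2).2, hpq, one_mul,
      one_mul]
  have T := trip_X hsq hcm hK.d7 D.A_d hK.h_d ha (py_rel hsq hcm hK.d7 D.A_d D.y_A) hh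
  have ha1 : ∀ w, act (ρ a) w = tAf w := fun w => by
    rw [show a = y * cj d 3 y * cj d 5 y * cj d 6 y from rfl,
      D.pt''.setup.ρ_mul _ (D.A_cz (mul_mem (mul_mem D.y_A (D.cy_A 3)) (D.cy_A 5))).1 _ (D.A_cz (D.cy_A 6)).1,
      D.pt''.setup.ρ_mul _ (D.A_cz (mul_mem D.y_A (D.cy_A 3))).1 _ (D.A_cz (D.cy_A 5)).1,
      D.pt''.setup.ρ_mul _ (D.A_cz D.y_A).1 _ (D.A_cz (D.cy_A 3)).1, act_mul, act_mul, act_mul, D.cy_ρ 6, D.cy_ρ 5,
      D.cy_ρ 3, hK.fr.quad.rho, ← (tX_facts.2.1 _).1, ← tX_facts.1 _ (by decide) _ (by decide),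
      ← tX_facts.1 _ (by decide) _ (by decide), ← tX_facts.1 _ (by decide) _ (by decide), ← (tX_facts.2.1 w).1]
    rfl
  obtain ⟨s0, s1, s2, s4⟩ := sp_basis a (cj d 1 a) (cj d 2 a)
  set xe := sp a (cj d 1 a) (cj d 2 a)
  refine ⟨xe, T, ?_⟩
  have a1 : ∀ w, act (ρ (xe 1)) w = tXf 1 w := fun w => by rw [s1, ha1, (tX_facts.2.1 w).1]
  have step : ∀ m < 8, (∀ w, act (ρ (xe m)) w = tXf m w) → ∀ w, act (ρ (xe (mX m))) w = tXf (mX m) w := by
    intro m hm e w
    have hc := (D.A_cz (T.mem m hm)).1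
    rw [← T.d_q m hm, D.pt''.setup.ρ_mul _ (mul_mem hK.d_cz hc) _ (inv_mem hK.d_cz),
      D.pt''.setup.ρ_mul _ hK.d_cz _ hc, D.pt''.setup.ρ_inv hK.d_cz, act_mul, act_mul]
    have hinv : act (ρ d)⁻¹ w = gdF (gdF (gdF (gdF (gdF (gdF w))))) := by
      conv_lhs => rw [← gdF_iter w, ← hK.d_act (gdF (gdF (gdF (gdF (gdF (gdF w)))))), ← act_mul, inv_mul_cancel,
        act_one]
    rw [hinv, e, hK.d_act, tX_facts.2.2.1 m hm]
  have hmul : ∀ m < 8, ∀ n < 8, (∀ w, act (ρ (xe m)) w = tXf m w) → (∀ w, act (ρ (xe n)) w = tXf n w) →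
      ∀ w, act (ρ (xe (m ^^^ n))) w = tXf (m ^^^ n) w := fun m hm n hn e1 e2 w => by
    rw [T.xor m hm n hn, D.pt''.setup.ρ_mul _ (D.A_cz (T.mem m hm)).1 _ (D.A_cz (T.mem n hn)).1, act_mul, e2, e1,
      tX_facts.1 m hm n hn]
  have a2 : ∀ w, act (ρ (xe 2)) w = tXf 2 w := step 1 (by norm_num) a1
  have a4 : ∀ w, act (ρ (xe 4)) w = tXf 4 w := step 2 (by norm_num) a2
  intro n hn
  interval_cases n
  · intro w; rw [T.one, D.one_ρ, (tX_facts.2.1 w).2.1]
  · exact a1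
  · exact a2
  · exact hmul 1 (by norm_num) 2 (by norm_num) a1 a2
  · exact a4
  · exact hmul 1 (by norm_num) 4 (by norm_num) a1 a4
  · exact hmul 2 (by norm_num) 4 (by norm_num) a2 a4
  · exact hmul 3 (by norm_num) 4 (by norm_num) (hmul 1 (by norm_num) 2 (by norm_num) a1 a2) a4

end Gens

end

end CfsgLib.Spor.CoOneGolay
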