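import Cfsg.Agent.Lib.Spor.CoOneGolay.Seven

/-!
# Complements to the four group in the isotropic subgroups of the two parts
-/

set_option autoImplicit false
set_option synthInstance.maxSize 4096
set_option maxRecDepth 100000

namespace CfsgLib.Spor.CoOneGolay

open Subgroup CfsgLib.Spor.CoOneClasses
open CfsgLib.Spor.CoOneType (Vec qf Iso8 Om Setup mem_cz conj_eq_iff_comm act act_one act_mul act_add act_injective
  qf_act pol_act iso_ext two_cases qf_nd)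

noncomputable section

theorem xor_tables :
    (∀ m < 8, ∀ n < 8, mA (m ^^^ n) = mA m ^^^ mA n ∧ sA (m ^^^ n) = sA m ^^^ sA n ∧
      mG (m ^^^ n) = mG m ^^^ mG n ∧ sG (m ^^^ n) = sG m ^^^ sG n ∧ m ^^^ n < 8) ∧
    mA 0 = 0 ∧ sA 0 = 0 ∧ mG 0 = 0 ∧ sG 0 = 0 := by decide +kernel

/-- A family of elements on which the two reference elements act through tables. -/
structure Trip {G : Type*} [Group G] (H : Subgroup G) (d h : G) (M S : ℕ → ℕ) (q : ℕ → G) : Prop where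
  mem : ∀ n < 8, q n ∈ H
  one : q 0 = 1
  xor : ∀ m < 8, ∀ n < 8, q (m ^^^ n) = q m * q n
  d_q : ∀ n < 8, d * q n * d⁻¹ = q (M n)
  h_q : ∀ n < 8, h * q n * h⁻¹ = q (S n)

theorem cj_h {G : Type*} [Group G] {d h : G} (hd : h * d * h⁻¹ = d ^ 2) (i : ℕ) (a : G) :
    h * cj d i a * h⁻¹ = cj d (2 * i) (h * a * h⁻¹) := by
  have e : h * d ^ i * h⁻¹ = d ^ (2 * i) := by rw [← conj_pow, hd, pow_mul]
  simp only [cj, ← e]
  group

section Generic

variable {G : Type*} [Group G] {H : Subgroup G} (hsq : ∀ x ∈ H, x * x = 1) (hcm : ∀ x ∈ H, ∀ y ∈ H, x * y = y * x)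
  {d h : G} (h7 : d ^ 7 = 1) (hH : ∀ x ∈ H, d * x * d⁻¹ ∈ H) (hd : h * d * h⁻¹ = d ^ 2)

include hcm hH hd h7 in
theorem px_h {a : G} (ha : a ∈ H) (hha : h * a * h⁻¹ ∈ H) : h * px d a * h⁻¹ = px d (h * a * h⁻¹) := by
  have hm := fun i => cj_mem hH hha i
  have e : h * px d a * h⁻¹ = h * a * h⁻¹ * (h * cj d 1 a * h⁻¹) * (h * cj d 2 a * h⁻¹) * (h * cj d 4 a * h⁻¹) := by
    simp only [px]; group
  rw [e, cj_h hd, cj_h hd, cj_h hd, show 2 * 4 = 1 + 7 from rfl, cj_seven h7, show 2 * 1 = 2 from rfl,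
    show 2 * 2 = 4 from rfl, mul_assoc (h * a * h⁻¹ * cj d 2 (h * a * h⁻¹)), hcm _ (hm 4) _ (hm 1), px,
    ← mul_assoc, mul_assoc (h * a * h⁻¹), hcm _ (hm 2) _ (hm 1), ← mul_assoc]

include hcm hH hd h7 in
theorem py_h {a : G} (ha : a ∈ H) (hha : h * a * h⁻¹ ∈ H) : h * py d a * h⁻¹ = py d (h * a * h⁻¹) := by
  have hm := fun i => cj_mem hH hha i
  have e : h * py d a * h⁻¹ = h * a * h⁻¹ * (h * cj d 3 a * h⁻¹) * (h * cj d 5 a * h⁻¹) * (h * cj d 6 a * h⁻¹) := by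
    simp only [py]; group
  rw [e, cj_h hd, cj_h hd, cj_h hd, show 2 * 3 = 6 from rfl, show 2 * 5 = 3 + 7 from rfl, cj_seven h7,
    show 2 * 6 = 5 + 7 from rfl, cj_seven h7, py, mul_assoc (h * a * h⁻¹), hcm _ (hm 6) _ (hm 3), ← mul_assoc,
    mul_assoc (h * a * h⁻¹ * cj d 3 (h * a * h⁻¹)), hcm _ (hm 6) _ (hm 5), ← mul_assoc]

include hsq hcm hH hd h7 in
/-- Elements with the first relation. -/
theorem trip_A {a : G} (ha : a ∈ H) (hr : cj d 3 a = cj d 1 a * a) (hh : h * a * h⁻¹ = a) :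
    Trip H d h mA sA (sp a (cj d 1 a) (cj d 2 a)) := by
  have hb := cj_mem hH ha 1
  have hc := cj_mem hH ha 2
  obtain ⟨s0, s1, s2, s4⟩ := sp_basis a (cj d 1 a) (cj d 2 a)
  have s := sp_xor H hsq hcm ha hb hc
  have hd1 : ∀ i, d * cj d i a * d⁻¹ = cj d (1 + i) a := fun i => by
    rw [← cj_cj, show cj d 1 (cj d i a) = d * cj d i a * d⁻¹ by simp [cj]]
  refine ⟨fun n _ => sp_mem H ha hb hc n, s0, fun m _ n _ => s m n, sp_conj H hsq hcm ha hb hc d mA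
    (fun m hm n hn => (xor_tables.1 m hm n hn).1) xor_tables.2.1 ?_ ?_ ?_,
    sp_conj H hsq hcm ha hb hc h sA (fun m hm n hn => (xor_tables.1 m hm n hn).2.1) xor_tables.2.2.1 ?_ ?_ ?_⟩
  · rw [show mA 1 = 2 from rfl, s2]; simp [cj]
  · rw [show mA 2 = 4 from rfl, s4, hd1]
  · rw [show mA 4 = 1 ^^^ 2 from rfl, s, s1, s2, hd1, hr, hcm _ ha _ hb]
  · rw [show sA 1 = 1 from rfl, s1, hh]
  · rw [show sA 2 = 4 from rfl, s4, cj_h hd, hh]
  · rw [show sA 4 = 2 ^^^ 4 from rfl, s, s2, s4, cj_h hd, hh, show 2 * 2 = 1 + 3 from rfl, ← cj_cj, hr, cj_mul,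
      cj_cj, hcm _ hc _ hb]

include hsq hcm hH hd h7 in
/-- Elements with the second relation, in the basis of the opposite space. -/
theorem trip_G {a : G} (ha : a ∈ H) (hr : cj d 3 a = cj d 2 a * a) (hh : h * a * h⁻¹ = a) :
    Trip H d h mG sG (sp a (cj d 1 a * a) (cj d 2 a * cj d 1 a)) := by
  have h1 := cj_mem hH ha 1
  have h2 := cj_mem hH ha 2
  have hb := mul_mem h1 ha
  have hc := mul_mem h2 h1
  obtain ⟨s0, s1, s2, s4⟩ := sp_basis a (cj d 1 a * a) (cj d 2 a * cj d 1 a)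
  have s := sp_xor H hsq hcm ha hb hc
  have hd1 : ∀ i, d * cj d i a * d⁻¹ = cj d (1 + i) a := fun i => by
    rw [← cj_cj, show cj d 1 (cj d i a) = d * cj d i a * d⁻¹ by simp [cj]]
  have hd0 : d * a * d⁻¹ = cj d 1 a := by simp [cj]
  have hdm : ∀ x y : G, d * (x * y) * d⁻¹ = d * x * d⁻¹ * (d * y * d⁻¹) := fun x y => by group
  have hhm : ∀ x y : G, h * (x * y) * h⁻¹ = h * x * h⁻¹ * (h * y * h⁻¹) := fun x y => by group
  have h4 : cj d 4 a = cj d 2 a * a * cj d 1 a := by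
    rw [show 4 = 1 + 3 from rfl, ← cj_cj, hr, cj_mul, cj_cj, show 1 + 2 = 3 from rfl, hr]
  refine ⟨fun n _ => sp_mem H ha hb hc n, s0, fun m _ n _ => s m n, sp_conj H hsq hcm ha hb hc d mG
    (fun m hm n hn => (xor_tables.1 m hm n hn).2.2.1) xor_tables.2.2.2.1 ?_ ?_ ?_,
    sp_conj H hsq hcm ha hb hc h sG (fun m hm n hn => (xor_tables.1 m hm n hn).2.2.2.1) xor_tables.2.2.2.2 ?_ ?_ ?_⟩
  · rw [show mG 1 = 1 ^^^ 2 from rfl, s, s1, s2, hd0, ← mul_assoc, hcm _ ha _ h1, mul_assoc, hsq _ ha, mul_one]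
  · rw [show mG 2 = 4 from rfl, s4, hdm, hd1, hd0]
  · rw [show mG 4 = 1 from rfl, s1, hdm, hd1, hd1, show 1 + 2 = 3 from rfl, show 1 + 1 = 2 from rfl, hr,
      hcm _ h2 _ ha, mul_assoc, hsq _ h2, mul_one]
  · rw [show sG 1 = 1 from rfl, s1, hh]
  · rw [show sG 2 = 2 ^^^ 4 from rfl, s, s2, s4, hhm, cj_h hd, hh, show 2 * 1 = 2 from rfl, hcm _ hb _ hc,
      mul_assoc, ← mul_assoc (cj d 1 a), hsq _ h1, one_mul]
  · rw [show sG 4 = 2 from rfl, s2, hhm, cj_h hd, cj_h hd, hh, show 2 * 2 = 4 from rfl, show 2 * 1 = 2 from rfl,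
      h4, hcm _ (mul_mem (mul_mem h2 ha) h1) _ h2, ← mul_assoc, ← mul_assoc, hsq _ h2, one_mul, hcm _ ha _ h1]

/-- The table on the third family. -/
def mX (n : ℕ) : ℕ := [0, 2, 4, 6, 5, 7, 1, 3].getD n 0

/-- The second table on the third family. -/
def sX (n : ℕ) : ℕ := [0, 1, 4, 5, 7, 6, 3, 2].getD n 0

theorem xor_tablesX : (∀ m < 8, ∀ n < 8, mX (m ^^^ n) = mX m ^^^ mX n ∧ sX (m ^^^ n) = sX m ^^^ sX n) ∧
    mX 0 = 0 ∧ sX 0 = 0 ∧ ∀ n < 8, mX n < 8 ∧ sX n < 8 := by decide +kernel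

include hsq hcm hH hd h7 in
/-- Elements with the second relation, in the basis of successive conjugates. -/
theorem trip_X {a : G} (ha : a ∈ H) (hr : cj d 3 a = cj d 2 a * a) (hh : h * a * h⁻¹ = a) :
    Trip H d h mX sX (sp a (cj d 1 a) (cj d 2 a)) := by
  have hb := cj_mem hH ha 1
  have hc := cj_mem hH ha 2
  obtain ⟨s0, s1, s2, s4⟩ := sp_basis a (cj d 1 a) (cj d 2 a)
  have s := sp_xor H hsq hcm ha hb hc
  have hd1 : ∀ i, d * cj d i a * d⁻¹ = cj d (1 + i) a := fun i => by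
    rw [← cj_cj, show cj d 1 (cj d i a) = d * cj d i a * d⁻¹ by simp [cj]]
  refine ⟨fun n _ => sp_mem H ha hb hc n, s0, fun m _ n _ => s m n, sp_conj H hsq hcm ha hb hc d mX
    (fun m hm n hn => (xor_tablesX.1 m hm n hn).1) xor_tablesX.2.1 ?_ ?_ ?_,
    sp_conj H hsq hcm ha hb hc h sX (fun m hm n hn => (xor_tablesX.1 m hm n hn).2) xor_tablesX.2.2.1 ?_ ?_ ?_⟩
  · rw [show mX 1 = 2 from rfl, s2]; simp [cj]
  · rw [show mX 2 = 4 from rfl, s4, hd1]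
  · rw [show mX 4 = 4 ^^^ 1 from rfl, s, s4, s1, hd1, hr]
  · rw [show sX 1 = 1 from rfl, s1, hh]
  · rw [show sX 2 = 4 from rfl, s4, cj_h hd, hh]
  · rw [show sX 4 = 4 ^^^ 1 ^^^ 2 from rfl, s, s, s1, s2, s4, cj_h hd, hh, show 2 * 2 = 1 + 3 from rfl, ← cj_cj, hr,
      cj_mul, cj_cj, show 1 + 2 = 3 from rfl, hr]

end Generic

variable {G : Type*} [Group G] [Finite G] {z : G} {Q : Subgroup G} {v : G → Vec} {ρ : G → Iso8}

/-- The reference point of the elements. -/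
theorem Sev.pt' {g y d h s : G} (K : Sev z Q v ρ g y d h s) : Pt z Q v ρ g := K.fr.pt'

/-- The first part, restricted. -/
def isoR {g : G} (F : Pt z Q v ρ g) (D : ℕ → W6) : Subgroup G where
  carrier := {q | q ∈ F.R ∧ ∀ n < 8, pl6 (pr (v q)) (D n) = 0}
  one_mem' := ⟨one_mem _, fun n _ => by
    rw [F.setup.v_one, show pr (0 : Vec) = 0 by decide +kernel, pl6_zero_left]⟩
  mul_mem' := fun {a b} ha hb => ⟨mul_mem ha.1 hb.1, fun n hn => by
    rw [F.pr_mul ha.1.1 hb.1.1, pl6_add_left, ha.2 n hn, hb.2 n hn, add_zero]⟩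
  inv_mem' := fun {a} ha => ⟨inv_mem ha.1, fun n hn => by rw [F.setup.v_inv ha.1.1]; exact ha.2 n hn⟩

theorem phi_one {g : G} (F : Pt z Q v ρ g) : F.phi 1 = 0 := by
  have h := F.phi_zi 0 0
  rwa [F.zi_zero] at h

/-- The second part, restricted. -/
def isoR' {g : G} (F : Pt z Q v ρ g) (D : ℕ → W6) : Subgroup G where
  carrier := {r | r ∈ F.R' ∧ ∀ n < 8, pl6 (F.phi r) (D n) = 0}
  one_mem' := ⟨one_mem _, fun n _ => by rw [phi_one, pl6_zero_left]⟩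
  mul_mem' := fun {a b} ha hb => ⟨mul_mem ha.1 hb.1, fun n hn => by
    rw [F.phi_mul ha.1 hb.1, pl6_add_left, ha.2 n hn, hb.2 n hn, add_zero]⟩
  inv_mem' := fun {a} ha => ⟨inv_mem ha.1, fun n hn => by rw [F.phi_inv ha.1]; exact ha.2 n hn⟩

theorem conj_RR' {g : G} (F : Pt z Q v ρ g) {r t : G} (hr : r ∈ F.R') (ht : t ∈ F.R') :
    r * t * r⁻¹ = F.zi 0 (pl6 (F.phi r) (F.phi t)) * t := by
  have h1 := F.square_rule (mul_mem hr ht)
  rw [F.phi_mul hr ht, q6_add] at h1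
  have h2 := F.square_rule hr
  have h3 := F.square_rule ht
  have hri : r⁻¹ = F.zi 0 (q6 (F.phi r)) * r := by
    refine inv_eq_of_mul_eq_one_right ?_
    rw [← mul_assoc, F.central_R' hr, mul_assoc, h2, F.zi_add, CharTwo.add_self_eq_zero, CharTwo.add_self_eq_zero,
      F.zi_zero]
  have hti : t⁻¹ = F.zi 0 (q6 (F.phi t)) * t := by
    refine inv_eq_of_mul_eq_one_right ?_
    rw [← mul_assoc, F.central_R' ht, mul_assoc, h3, F.zi_add, CharTwo.add_self_eq_zero, CharTwo.add_self_eq_zero,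
      F.zi_zero]
  calc r * t * r⁻¹ = r * t * (r * t) * t⁻¹ * r⁻¹ * r⁻¹ := by group
    _ = F.zi 0 (q6 (F.phi r) + q6 (F.phi t) + pl6 (F.phi r) (F.phi t)) * (F.zi 0 (q6 (F.phi t)) * t) *
        (r * r)⁻¹ := by rw [h1, hti]; group
    _ = F.zi 0 (q6 (F.phi r) + q6 (F.phi t) + pl6 (F.phi r) (F.phi t)) * F.zi 0 (q6 (F.phi t)) *
        (t * F.zi 0 (q6 (F.phi r))) := by
      rw [h2, show (F.zi 0 (q6 (F.phi r)))⁻¹ = F.zi 0 (q6 (F.phi r)) from inv_eq_of_mul_eq_one_right (by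
        rw [F.zi_add, CharTwo.add_self_eq_zero, CharTwo.add_self_eq_zero, F.zi_zero])]
      group
    _ = F.zi 0 (q6 (F.phi r) + q6 (F.phi t) + pl6 (F.phi r) (F.phi t)) * F.zi 0 (q6 (F.phi t)) *
        F.zi 0 (q6 (F.phi r)) * t := by rw [F.central_R' ht]; group
    _ = _ := by
      rw [F.zi_add, F.zi_add]
      exact congrArg (· * t) (congrArg₂ F.zi (by simp)
        (by linear_combination (q6 (F.phi r) + q6 (F.phi t)) * CharTwo.two_eq_zero (R := ZMod 2)))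

/-- A totally singular three-space by numbers. -/
structure Tot (D : ℕ → W6) : Prop where
  form : ∀ n < 8, q6 (D n) = 0
  pol : ∀ m < 8, ∀ n < 8, pl6 (D m) (D n) = 0
  perp : ∀ u : W6, (∀ n < 8, pl6 u (D n) = 0) → ∃ n < 8, u = D n

theorem tot_A : Tot dA := ⟨fun n hn => (dA_form n hn).1, fun m hm n hn => (dA_add m hm n hn).2.2.1, dA_perp⟩

theorem tot_G : Tot dG := ⟨fun n hn => (dA_form n hn).2, fun m hm n hn => (dA_add m hm n hn).2.2.2, dG_perp⟩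

theorem isoR_props {g : G} (F : Pt z Q v ρ g) {D : ℕ → W6} (hD : Tot D) :
    (∀ x ∈ isoR F D, x * x = 1) ∧ (∀ x ∈ isoR F D, ∀ w ∈ isoR F D, x * w = w * x) := by
  refine ⟨fun x hx => ?_, fun x hx w hw => ?_⟩
  · obtain ⟨n, hn, e⟩ := hD.perp _ hx.2
    rw [F.sq_R hx.1, e, hD.form n hn, F.zi_zero]
  · obtain ⟨n, hn, e⟩ := hD.perp _ hx.2
    obtain ⟨m, hm, e'⟩ := hD.perp _ hw.2
    have h := F.conj_R hx.1 hw.1
    rw [e, e', hD.pol n hn m hm, F.zi_zero, one_mul] at h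
    exact conj_eq_iff_comm.1 h

theorem isoR'_props {g : G} (F : Pt z Q v ρ g) {D : ℕ → W6} (hD : Tot D) :
    (∀ x ∈ isoR' F D, x * x = 1) ∧ (∀ x ∈ isoR' F D, ∀ w ∈ isoR' F D, x * w = w * x) := by
  refine ⟨fun x hx => ?_, fun x hx w hw => ?_⟩
  · obtain ⟨n, hn, e⟩ := hD.perp _ hx.2
    rw [F.square_rule hx.1, e, hD.form n hn, F.zi_zero]
  · obtain ⟨n, hn, e⟩ := hD.perp _ hx.2
    obtain ⟨m, hm, e'⟩ := hD.perp _ hw.2
    have h := conj_RR' F hx.1 hw.1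
    rw [e, e', hD.pol n hn m hm, F.zi_zero, one_mul] at h
    exact conj_eq_iff_comm.1 h

end

end CfsgLib.Spor.CoOneGolay
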